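import Groth.Agent.ZH85.StackCount.ModelCount
import Groth.Agent.ZH85.LangWeil.Components
import Mathlib.AlgebraicGeometry.ResidueField

/-! Points fixed by the Frobenius are rational; twisted Frobenius fixed elements form finite sets. -/

noncomputable section

set_option autoImplicit false
set_option backward.isDefEq.respectTransparency false
set_option backward.isDefEq.respectTransparency.types false

universe u

open CategoryTheory CategoryTheory.Limits MonoidalCategory CartesianMonoidalCategory MonObj AlgebraicGeometry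

namespace Groth.Agent.ZH85.StackCount

open Groth.Agent.EssDimLib (spMap spMap_comp')

variable {k : Type u} [Field k] [Finite k] {k' : Type u} [Field k'] [Algebra k k'] [Module.Finite k k']
  {kb : Type u} [Field kb] [Algebra k kb] [Algebra k' kb] [IsScalarTower k k' kb] [IsAlgClosure k' kb]

/-- Elements fixed by the Frobenius lie in the base. -/
theorem mem_range_of_frobK (c : kb) (hc : frobK k k' kb c = c) : c ∈ Set.range (algebraMap k' kb) := by
  obtain ⟨F, _, hF1, hF⟩ := exists_fixedLevel (k := k) (k' := k') (kb := kb) 1 one_pos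
  have hbot : F = ⊥ := IntermediateField.finrank_eq_one_iff.1 hF1
  have hm : c ∈ F := (hF c).2 (by rw [pow_one]; exact hc)
  rw [hbot] at hm
  exact IntermediateField.mem_bot.1 hm

variable (k k' kb) in
/-- Rational points as fixed points. -/
theorem exists_desc_frob {Y : Over (Spec (CommRingCat.of k))} (y : SGA7.pt (K := k) kb ⟶ Y)
    (hy : fs k k' kb ≫ y = y) : ∃ y₀ : SGA7.pt (K := k) k' ⟶ Y, lstr k k' kb ≫ y₀ = y := by
  let e := Scheme.SpecToEquivOfField kb Y.left
  obtain ⟨⟨p, f⟩, hpf⟩ : ∃ v, e y.left = v := ⟨_, rfl⟩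
  have hyl : Spec.map f ≫ Y.left.fromSpecResidueField p = y.left := by
    rw [show y.left = e.symm ⟨p, f⟩ by rw [← hpf, Equiv.symm_apply_apply]]
    rfl
  have hfix : f ≫ CommRingCat.ofHom (frobK k k' kb).toRingEquiv.toRingHom = f := by
    have h1 : e (Spec.map (f ≫ CommRingCat.ofHom (frobK k k' kb).toRingEquiv.toRingHom) ≫
        Y.left.fromSpecResidueField p) = e y.left := by
      congr 1
      rw [Spec.map_comp, Category.assoc, hyl]
      exact congrArg CommaMorphism.left hy
    have h2 : e (e.symm ⟨p, f ≫ CommRingCat.ofHom (frobK k k' kb).toRingEquiv.toRingHom⟩) = ⟨p, f⟩ :=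
      h1.trans hpf
    rw [Equiv.apply_symm_apply] at h2
    exact eq_of_heq (Sigma.mk.inj h2).2
  have hrange : ∀ a, f.hom a ∈ (algebraMap k' kb).fieldRange := fun a =>
    mem_range_of_frobK (k := k) _ congr($(hfix).hom a)
  let eR : k' ≃+* (algebraMap k' kb).fieldRange :=
    RingEquiv.ofBijective (algebraMap k' kb).rangeRestrictField
      ⟨fun a b h => (algebraMap k' kb).injective (congrArg Subtype.val h),
        fun ⟨_, a, ha⟩ => ⟨a, Subtype.ext ha⟩⟩
  let f₀ := eR.symm.toRingHom.comp (f.hom.codRestrict _ hrange)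
  have hf₀ : ∀ a, algebraMap k' kb (f₀ a) = f.hom a := fun a =>
    congrArg Subtype.val (eR.apply_symm_apply ⟨f.hom a, hrange a⟩)
  have hl : (lstr k k' kb).left ≫ Spec.map (CommRingCat.ofHom f₀) ≫ Y.left.fromSpecResidueField p = y.left := by
    rw [← Category.assoc, ← hyl]
    congr 1
    show Spec.map _ ≫ Spec.map _ = _
    rw [← Spec.map_comp]
    exact congrArg Spec.map (CommRingCat.hom_ext (RingHom.ext hf₀))
  haveI : Epi (lstr k k' kb).left := by
    obtain ⟨⟨_, _⟩, _⟩ := fqs_lstr k k' kb
    exact Flat.epi_of_flat_of_surjective _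
  refine ⟨Over.homMk (Spec.map (CommRingCat.ofHom f₀) ≫ Y.left.fromSpecResidueField p) ?_,
    Over.OverMorphism.ext hl⟩
  rw [← cancel_epi (lstr k k' kb).left, ← Category.assoc, hl, Over.w y, Over.w (lstr k k' kb)]

variable (k k' kb) in
/-- Rational points are the Frobenius fixed points. -/
def fixedEquiv (Y : Over (Spec (CommRingCat.of k))) :
    (SGA7.pt (K := k) k' ⟶ Y) ≃ {y : SGA7.pt (K := k) kb ⟶ Y // fs k k' kb ≫ y = y} := by
  refine Equiv.ofBijective (fun y₀ => ⟨lstr k k' kb ≫ y₀, by rw [← Category.assoc, galS_str]⟩) ⟨?_, ?_⟩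
  · intro a b h
    haveI := EssDimLib.epi_of_fqs (fqs_lstr k k' kb)
    exact (cancel_epi (lstr k k' kb)).1 (congrArg Subtype.val h)
  · rintro ⟨y, hy⟩
    obtain ⟨y₀, hy₀⟩ := exists_desc_frob k k' kb y hy
    exact ⟨y₀, Subtype.ext hy₀⟩

/-- A scheme of finite type has finitely many points in a finite field. -/
theorem finite_points_qc {Y : Over (Spec (CommRingCat.of k))} [LocallyOfFiniteType Y.hom] [QuasiCompact Y.hom]
    (L : Type u) [Field L] [Finite L] [Algebra k L] : Finite (SGA7.pt (K := k) L ⟶ Y) := by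
  haveI := LangWeil.finite_pts Y.hom L
  exact Finite.of_injective (fun y => (⟨y.left, Over.w y⟩ : LangWeil.Pts Y.hom L)) fun a b h =>
    Over.OverMorphism.ext congr(Subtype.val $h)

variable {G : Over (Spec (CommRingCat.of k))} [GrpObj G] [QuasiCompact G.hom] [LocallyOfFiniteType G.hom]

/-- Every element has a trivial twisted power. -/
theorem exists_twPow_eq_one (g : SGA7.pt (K := k) kb ⟶ G) : ∃ N, 0 < N ∧ twPow (fs k k' kb) g N = 1 := by
  haveI : Finite k' := Module.finite_of_finite k
  obtain ⟨L₁, _, h₁⟩ := exists_level (k' := k') g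
  let n := Module.finrank k' L₁
  have hn : 0 < n := Module.finrank_pos
  obtain ⟨g₀, hg₀⟩ := h₁ L₁ le_rfl
  haveI : Finite L₁ := Module.finite_of_finite k'
  haveI : Finite (SGA7.pt (K := k) L₁ ⟶ G) := finite_points_qc L₁
  let N₀ := twPow (galS k k' L₁ (frobLv k L₁)) g₀ n
  refine ⟨n * orderOf N₀, Nat.mul_pos hn (orderOf_pos N₀), ?_⟩
  let sK : End (SGA7.pt (K := k) kb) := fs k k' kb
  let s0 : End (SGA7.pt (K := k) L₁) := galS k k' L₁ (frobLv k L₁)
  have e0 : twPow sK g n = lres L₁ ≫ N₀ := by rw [comp_twPow _ (fs_lres L₁), hg₀]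
  have hsn : ∀ i : ℕ, (sK ^ i : End (SGA7.pt (K := k) kb)) ≫ lres (k := k) L₁ =
      lres (k := k) L₁ ≫ (s0 ^ i : End (SGA7.pt (K := k) L₁)) := by
    intro i
    induction i with
    | zero =>
        rw [pow_zero, pow_zero]
        exact (Category.id_comp _).trans (Category.comp_id _).symm
    | succ i ih => rw [pow_succ, End.mul_def, Category.assoc, ih, pow_succ, End.mul_def, ← Category.assoc,
        show sK ≫ lres (k := k) L₁ = lres L₁ ≫ s0 from fs_lres L₁, Category.assoc]
  have hfix0 : s0 ^ n = 1 := by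
    haveI := isGalois_level L₁ ‹Finite k›
    have h1 : Aut.toEnd _ (galA k k' L₁ (frobLv k L₁)⁻¹) = s0 := galA_frobLv L₁
    rw [← h1, ← map_pow, ← map_pow, show n = Module.finrank k' L₁ from rfl, ← orderOf_frobLv (k := k) L₁,
      pow_orderOf_eq_one, map_one, map_one]
  have hfix : (sK ^ n : End (SGA7.pt (K := k) kb)) ≫ twPow sK g n = twPow sK g n := by
    rw [e0, reassoc_of% hsn n, hfix0]
    simp [End.one_def]
  show twPow sK g _ = 1
  rw [twPow_mul sK g n hfix, e0, ← MonObj.comp_pow, pow_orderOf_eq_one, MonObj.comp_one]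

theorem fs_pow (N : ℕ) :
    (@HPow.hPow (End (SGA7.pt (K := k) kb)) ℕ (End (SGA7.pt (K := k) kb)) _ (fs k k' kb) N) =
      galS k k' kb (frobK k k' kb ^ N) := by
  induction N with
  | zero =>
      show 𝟙 (SGA7.pt (K := k) kb) = _
      rw [pow_zero, galS_one]
  | succ N ih =>
      rw [@pow_succ (End (SGA7.pt (K := k) kb)) _ _ N, End.mul_def, ih, pow_succ', galS_mul]

/-- The twisted fixed elements of a group form a finite set. -/
theorem finite_twFixed (g : SGA7.pt (K := k) kb ⟶ G) :
    Finite {h : SGA7.pt (K := k) kb ⟶ G // g * (fs k k' kb ≫ h) * g⁻¹ = h} := by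
  haveI : Finite k' := Module.finite_of_finite k
  obtain ⟨N, hN, hN1⟩ := exists_twPow_eq_one (k' := k') g
  obtain ⟨F, _, hFN, hF⟩ := exists_fixedLevel (k := k) (k' := k') (kb := kb) N hN
  haveI : Finite F := Module.finite_of_finite k'
  haveI : IsAlgClosure F kb := ⟨IsAlgClosure.isAlgClosed k',
    haveI := isAlgebraic_kb (k' := k') (kb := kb); Algebra.IsAlgebraic.tower_top (K := k') F⟩
  haveI : Module.Finite k F := Module.Finite.trans k' F
  haveI : IsScalarTower k F kb := IsScalarTower.of_algebraMap_eq fun c => by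
    rw [IsScalarTower.algebraMap_apply k k' kb c, IsScalarTower.algebraMap_apply k k' F c]
    rfl
  haveI : Finite (SGA7.pt (K := k) F ⟶ G) := finite_points_qc F
  have hfF : fs k F kb = galS k k' kb (frobK k k' kb ^ N) := by
    refine congrArg spMap (AlgHom.ext fun c => ?_)
    show frobK k F kb c = (frobK k k' kb ^ N) c
    rw [frobK_apply, frobK_pow_apply, Module.natCard_eq_pow_finrank (K := k') (V := F), hFN]
  have hit : ∀ (h : SGA7.pt (K := k) kb ⟶ G), g * (fs k k' kb ≫ h) * g⁻¹ = h → ∀ i : ℕ,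
      twPow (fs k k' kb) g i *
        ((@HPow.hPow (End (SGA7.pt (K := k) kb)) ℕ (End (SGA7.pt (K := k) kb)) _ (fs k k' kb) i) ≫ h) *
        (twPow (fs k k' kb) g i)⁻¹ = h := by
    intro h hh i
    induction i with
    | zero =>
        rw [pow_zero, twPow, inv_one, _root_.mul_one, _root_.one_mul]
        exact Category.id_comp h
    | succ i ih =>
        conv_rhs => rw [← hh, ← ih]
        rw [twPow, pow_succ, End.mul_def, Category.assoc, MonObj.comp_mul, MonObj.comp_mul, GrpObj.comp_inv,
          mul_inv_rev]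
        simp only [_root_.mul_assoc]
  refine Finite.of_injective (fun h => (fixedEquiv k F kb G).symm ⟨h.1, ?_⟩) fun a b hab => ?_
  · have := hit h.1 h.2 N
    rw [hN1, inv_one, _root_.mul_one, _root_.one_mul, fs_pow] at this
    rw [hfF, this]
  · exact Subtype.ext (by simpa using (fixedEquiv k F kb G).symm.injective hab)

end Groth.Agent.ZH85.StackCount
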