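import Groth.Agent.WeilLib.ExpSeries
import Mathlib.FieldTheory.RatFunc.AsPolynomial
import Mathlib.Analysis.Complex.Polynomial.Basic
import Mathlib.Algebra.Polynomial.Lifts
import Mathlib.RingTheory.PowerSeries.Basic

/-! Functions with poles at roots of unity whose exponential sums are rational. -/

noncomputable section

open PowerSeries

namespace Groth.Agent.ZH85.Laurent

/-- Monic with all complex roots on the unit circle. -/
def Uni (E : Polynomial ℤ) : Prop := E.Monic ∧ ∀ z : ℂ, Polynomial.aeval z E = 0 → ‖z‖ = 1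

theorem uni_one : Uni 1 := ⟨Polynomial.monic_one, fun z h => by simp at h⟩

theorem Uni.mul {E E' : Polynomial ℤ} (h : Uni E) (h' : Uni E') : Uni (E * E') :=
  ⟨h.1.mul h'.1, fun z hz => by
    rw [map_mul, mul_eq_zero] at hz
    exact hz.elim (h.2 z) (h'.2 z)⟩

theorem uni_X_pow_sub_one (n : ℕ) : Uni (Polynomial.X ^ (n + 1) - 1) := by
  refine ⟨?_, fun z hz => ?_⟩
  · rw [← Polynomial.C_1]; exact Polynomial.monic_X_pow_sub_C _ (Nat.succ_ne_zero n)
  · simp only [map_sub, map_pow, Polynomial.aeval_X, map_one, sub_eq_zero] at hz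
    exact Complex.norm_eq_one_of_pow_eq_one hz (Nat.succ_ne_zero n)

/-- An integer polynomial in the field of rational functions. -/
def up : Polynomial ℤ →+* RatFunc ℚ :=
  (algebraMap (Polynomial ℚ) (RatFunc ℚ)).comp (Polynomial.mapRingHom (Int.castRingHom ℚ))

theorem up_X : up Polynomial.X = RatFunc.X := by simp [up]

/-- `F · X^a · E = N`. -/
def Good (F : RatFunc ℚ) : Prop :=
  ∃ (a : ℕ) (E N : Polynomial ℤ), Uni E ∧ F * (RatFunc.X ^ a * up E) = up N

theorem good_of_mem {F : RatFunc ℚ}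
    (hF : F ∈ Subring.closure
      (({RatFunc.X, (RatFunc.X : RatFunc ℚ)⁻¹} : Set (RatFunc ℚ)) ∪
        Set.range fun n : ℕ => ((RatFunc.X : RatFunc ℚ) ^ (n + 1) - 1)⁻¹)) : Good F := by
  induction hF using Subring.closure_induction with
  | mem x hx =>
    rcases hx with (hx | hx) | ⟨n, hx⟩
    · subst hx; exact ⟨0, 1, Polynomial.X, uni_one, by simp [up_X]⟩
    · rw [Set.mem_singleton_iff] at hx
      subst hx; exact ⟨1, 1, 1, uni_one, by simp [RatFunc.X_ne_zero]⟩
    · refine ⟨0, Polynomial.X ^ (n + 1) - 1, 1, uni_X_pow_sub_one n, ?_⟩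
      subst hx
      rw [pow_zero, one_mul, map_sub, map_pow, up_X, map_one]
      refine inv_mul_cancel₀ fun h => ?_
      have h2 : (algebraMap (Polynomial ℚ) (RatFunc ℚ)) (Polynomial.X ^ (n + 1) - 1) = 0 := by simpa using h
      rw [map_eq_zero_iff _ (RatFunc.algebraMap_injective ℚ), ← Polynomial.C_1] at h2
      exact Polynomial.X_pow_sub_C_ne_zero (Nat.succ_pos n) 1 h2
  | zero => exact ⟨0, 1, 0, uni_one, by simp⟩
  | one => exact ⟨0, 1, 1, uni_one, by simp⟩
  | add x y _ _ hx hy =>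
    obtain ⟨a, E, N, hE, h⟩ := hx
    obtain ⟨b, E', N', hE', h'⟩ := hy
    refine ⟨a + b, E * E', N * (Polynomial.X ^ b * E') + N' * (Polynomial.X ^ a * E), hE.mul hE', ?_⟩
    simp only [map_add, map_mul, map_pow, up_X]
    rw [← h, ← h']
    ring
  | neg x _ hx =>
    obtain ⟨a, E, N, hE, h⟩ := hx
    exact ⟨a, E, -N, hE, by rw [map_neg, ← h]; ring⟩
  | mul x y _ _ hx hy =>
    obtain ⟨a, E, N, hE, h⟩ := hx
    obtain ⟨b, E', N', hE', h'⟩ := hy
    refine ⟨a + b, E * E', N * N', hE.mul hE', ?_⟩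
    simp only [map_mul]
    rw [← h, ← h']
    ring

theorem eval_eq_div {F : RatFunc ℚ} {D N : Polynomial ℚ} (h : F * algebraMap _ _ D = algebraMap _ _ N)
    {x : ℚ} (hx : D.eval x ≠ 0) : F.eval (RingHom.id ℚ) x = N.eval x / D.eval x := by
  have hD : D ≠ 0 := fun e => hx (by simp [e])
  have hD' : (algebraMap (Polynomial ℚ) (RatFunc ℚ)) D ≠ 0 :=
    (map_ne_zero_iff _ (RatFunc.algebraMap_injective ℚ)).2 hD
  obtain ⟨c, hc⟩ : F.denom ∣ D := (RatFunc.denom_dvd hD).2 ⟨N, by rw [eq_div_iff hD', h]⟩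
  have hden : F.denom.eval x ≠ 0 := fun e => hx (by rw [hc, Polynomial.eval_mul, e, zero_mul])
  have hne : (algebraMap (Polynomial ℚ) (RatFunc ℚ)) F.denom ≠ 0 :=
    (map_ne_zero_iff _ (RatFunc.algebraMap_injective ℚ)).2 (RatFunc.denom_ne_zero F)
  have h2 : F.num * D = N * F.denom := by
    apply RatFunc.algebraMap_injective ℚ
    have hF : F * algebraMap _ _ F.denom = algebraMap _ _ F.num :=
      ((div_eq_iff hne).1 (RatFunc.num_div_denom F)).symm
    rw [map_mul, map_mul, ← h, ← hF]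
    ring
  show F.num.eval₂ (RingHom.id ℚ) x / F.denom.eval₂ (RingHom.id ℚ) x = _
  rw [Polynomial.eval₂_id, Polynomial.eval₂_id, div_eq_div_iff hden hx, ← Polynomial.eval_mul,
    ← Polynomial.eval_mul, h2]

/-- A linear recurrence from rationality. -/
theorem exists_recurrence (u : ℕ → ℚ) {P Q : Polynomial ℚ} (hQ : Q ≠ 0)
    (h : (PowerSeries.exp ℚ).subst (PowerSeries.mk fun v => u v / (v : ℚ)) * (Q : PowerSeries ℚ) =
      (P : PowerSeries ℚ)) :
    ∃ (B : Polynomial ℚ) (d : ℕ), B ≠ 0 ∧ ∀ w : ℕ, d ≤ w →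
      ∑ j ∈ Finset.range (B.natDegree + 1), B.coeff j * u (w + 1 + (B.natDegree - j)) = 0 := by
  obtain ⟨R, hR, hR1, h⟩ : ∃ R : PowerSeries ℚ, d⁄dX ℚ R = R * (PowerSeries.mk fun m => u (m + 1)) ∧
      PowerSeries.constantCoeff R = 1 ∧ R * (Q : PowerSeries ℚ) = (P : PowerSeries ℚ) := by
    have hR := WeilLib.hasLogDeriv_exp_subst (L := PowerSeries.mk fun v => u v / (v : ℚ))
      (WeilLib.constantCoeff_mk_div u)
    rw [WeilLib.derivative_mk_div, WeilLib.HasLogDeriv] at hR
    exact ⟨_, hR, WeilLib.constantCoeff_exp_subst (WeilLib.constantCoeff_mk_div u), h⟩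
  set D := PowerSeries.mk fun m => u (m + 1)
  have hP : P ≠ 0 := by
    intro e
    rw [e, Polynomial.coe_zero, mul_eq_zero] at h
    rcases h with h | h
    · rw [h, map_zero] at hR1
      exact zero_ne_one hR1
    · exact hQ (Polynomial.coe_inj.1 (h.trans Polynomial.coe_zero.symm))
  set A := Polynomial.derivative P * Q - P * Polynomial.derivative Q with hA
  refine ⟨P * Q, A.natDegree + 1, mul_ne_zero hP hQ, fun w hw => ?_⟩
  have key : ((P * Q : Polynomial ℚ) : PowerSeries ℚ) * D = (A : PowerSeries ℚ) := by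
    have h1 := congrArg (d⁄dX ℚ) h
    rw [Derivation.leibniz, hR] at h1
    rw [PowerSeries.derivative_coe, PowerSeries.derivative_coe, smul_eq_mul,
      smul_eq_mul] at h1
    rw [hA, Polynomial.coe_sub, Polynomial.coe_mul, Polynomial.coe_mul, Polynomial.coe_mul, ← h1, ← h]
    ring
  have hc := congrArg (PowerSeries.coeff (w + (P * Q).natDegree)) key
  rw [Polynomial.coeff_coe, Polynomial.coeff_eq_zero_of_natDegree_lt (by omega), PowerSeries.coeff_mul,
    Finset.Nat.sum_antidiagonal_eq_sum_range_succ_mk] at hc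
  refine Eq.trans ?_ hc
  refine Finset.sum_subset_zero_on_sdiff
    (fun x hx => by simp only [Finset.mem_range] at hx ⊢; omega) (fun x hx => ?_) (fun x hx => ?_)
  · simp only [Finset.mem_sdiff, Finset.mem_range] at hx
    rw [Polynomial.coeff_coe, Polynomial.coeff_eq_zero_of_natDegree_lt (by omega), zero_mul]
  · simp only [Finset.mem_range] at hx
    rw [Polynomial.coeff_coe, PowerSeries.coeff_mk,
      show w + (P * Q).natDegree - x + 1 = w + 1 + ((P * Q).natDegree - x) by omega]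

theorem isLaurent (q : ℤ) (hq : 1 < q) {F : RatFunc ℚ} (hgood : Good F) (B : Polynomial ℚ) (d : ℕ) (hB : B ≠ 0)
    (hrec : ∀ w : ℕ, d ≤ w →
      ∑ j ∈ Finset.range (B.natDegree + 1),
        B.coeff j * F.eval (RingHom.id ℚ) ((q : ℚ) ^ (w + 1 + (B.natDegree - j))) = 0) :
    ∃ (P : Polynomial ℤ) (a : ℕ),
      F * RatFunc.X ^ a = algebraMap (Polynomial ℚ) (RatFunc ℚ) (P.map (Int.castRingHom ℚ)) := by
  classical
  obtain ⟨a, E, N, hE, hF⟩ := hgood
  set φ := Int.castRingHom ℚ
  set E' := E.map φ with hE'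
  set N' := N.map φ with hN'
  have hq' : (1 : ℚ) < (q : ℚ) := by exact_mod_cast hq
  have hq0 : (q : ℚ) ≠ 0 := by linarith
  have haE : ∀ z : ℂ, Polynomial.aeval z E' = Polynomial.aeval z E := fun z => by
    rw [hE', Polynomial.aeval_def, Polynomial.eval₂_map, Polynomial.aeval_def]
    congr 1
  have hroot : ∀ x : ℚ, E'.eval x = 0 → |x| = 1 := fun x hx => by
    have h1 : ‖(x : ℂ)‖ = 1 := hE.2 _ (by
      rw [← haE, show (x : ℂ) = algebraMap ℚ ℂ x from rfl, Polynomial.aeval_algebraMap_apply_eq_algebraMap_eval,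
        hx, map_zero])
    rw [show (x : ℂ) = ((x : ℝ) : ℂ) by norm_cast, Complex.norm_real, Real.norm_eq_abs] at h1
    exact_mod_cast h1
  let c : ℕ → ℚ := fun j => (q : ℚ) ^ (B.natDegree - j)
  have hc0 : ∀ j, 0 < c j := fun j => pow_pos (by linarith) _
  let sc : ℕ → Polynomial ℚ → Polynomial ℚ := fun j f => f.comp (Polynomial.C (c j) * Polynomial.X)
  let D := Polynomial.X ^ a * E'
  have hD : F * algebraMap _ _ D = algebraMap _ _ N' := by
    rw [map_mul, map_pow, RatFunc.algebraMap_X]; exact hF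
  have hDne : ∀ v : ℕ, 1 ≤ v → D.eval ((q : ℚ) ^ v) ≠ 0 := fun v hv h => by
    simp only [D, Polynomial.eval_mul, Polynomial.eval_pow, Polynomial.eval_X, mul_eq_zero] at h
    rcases h with h | h
    · exact pow_ne_zero _ (pow_ne_zero _ hq0) h
    · have := hroot _ h
      rw [abs_of_pos (pow_pos (by linarith) _)] at this
      exact (one_lt_pow₀ hq' (by omega)).ne' this
  let s := Finset.range (B.natDegree + 1)
  let Φ : Polynomial ℚ := ∑ j ∈ s, Polynomial.C (B.coeff j) * sc j N' * ∏ i ∈ s.erase j, sc i D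
  have hΦ : Φ = 0 := by
    refine Polynomial.eq_zero_of_infinite_isRoot _ (Set.infinite_of_injective_forall_mem
      (f := fun w : ℕ => (q : ℚ) ^ (d + w + 1)) (fun w w' h => by
        have := pow_right_injective₀ (by linarith : (0 : ℚ) < q) hq'.ne' h
        omega) fun w => ?_)
    have he : ∀ j (f : Polynomial ℚ),
        (sc j f).eval ((q : ℚ) ^ (d + w + 1)) = f.eval ((q : ℚ) ^ (d + w + 1 + (B.natDegree - j))) := fun j f => by
      simp only [sc, c, Polynomial.eval_comp, Polynomial.eval_mul, Polynomial.eval_C, Polynomial.eval_X]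
      rw [← pow_add, add_comm]
    show Φ.eval _ = 0
    simp only [Φ, Polynomial.eval_finsetSum, Polynomial.eval_mul, Polynomial.eval_C, Polynomial.eval_prod, he]
    have hh := hrec (d + w) (by omega)
    rw [← mul_zero (∏ i ∈ s, D.eval ((q : ℚ) ^ (d + w + 1 + (B.natDegree - i)))), ← hh, Finset.mul_sum]
    refine Finset.sum_congr rfl fun j hj => ?_
    have hne := hDne (d + w + 1 + (B.natDegree - j)) (by omega)
    rw [eval_eq_div hD hne, ← Finset.mul_prod_erase s _ hj]
    field_simp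
  obtain ⟨j, hjs, hj⟩ : ∃ j ∈ s, B.coeff j ≠ 0 :=
    ⟨B.natDegree, Finset.self_mem_range_succ _, by
      rw [Polynomial.coeff_natDegree]; exact Polynomial.leadingCoeff_ne_zero.2 hB⟩
  have hdvd : sc j E' ∣ Polynomial.C (B.coeff j) * sc j N' * ∏ i ∈ s.erase j, sc i D := by
    have hsum := hΦ
    simp only [Φ] at hsum
    rw [← Finset.add_sum_erase s _ hjs, add_eq_zero_iff_eq_neg] at hsum
    rw [hsum, dvd_neg]
    refine Finset.dvd_sum fun i hi => dvd_mul_of_dvd_right (dvd_trans ?_ (Finset.dvd_prod_of_mem _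
      (Finset.mem_erase.2 ⟨(Finset.ne_of_mem_erase hi).symm, hjs⟩))) _
    simp [sc, D]
  have hev : ∀ i (f : Polynomial ℚ) (z : ℂ), Polynomial.aeval z (sc i f) = Polynomial.aeval ((c i : ℂ) * z) f :=
    fun i f z => by simp [sc, Polynomial.aeval_comp]
  have hnorm : ∀ i (z : ℂ), Polynomial.aeval z (sc i E') = 0 → ((c i : ℝ)) * ‖z‖ = 1 := fun i z hz => by
    rw [hev, haE] at hz
    have := hE.2 _ hz
    rwa [norm_mul, show (c i : ℂ) = ((c i : ℝ) : ℂ) by norm_cast, Complex.norm_real, Real.norm_eq_abs,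
      abs_of_pos (by exact_mod_cast hc0 i)] at this
  have hcop : IsCoprime (sc j E') (∏ i ∈ s.erase j, sc i D) := by
    refine IsCoprime.prod_right fun i hi => ?_
    refine (Polynomial.isCoprime_iff_aeval_ne_zero_of_isAlgClosed (k := ℚ) ℂ _ _).2 ?_
    intro z
    by_contra hcon
    push Not at hcon
    have h1 := hnorm j z hcon.1
    have h2 := hcon.2
    rw [hev] at h2
    simp only [D, map_mul, map_pow, Polynomial.aeval_X, mul_eq_zero] at h2
    rcases h2 with h2 | h2
    · rcases Nat.eq_zero_or_pos a with ha | ha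
      · rw [ha, pow_zero] at h2; exact one_ne_zero h2
      rw [pow_eq_zero_iff ha.ne', mul_eq_zero, Rat.cast_eq_zero] at h2
      rcases h2 with h2 | h2
      · exact (hc0 i).ne' h2
      · rw [h2, norm_zero, mul_zero] at h1; exact zero_ne_one h1
    · have h3 : (c i : ℝ) * ‖z‖ = 1 := hnorm i z (by rw [hev, h2])
      have hz : ‖z‖ ≠ 0 := fun e => by rw [e, mul_zero] at h1; exact zero_ne_one h1
      have h4 : c i = c j := by exact_mod_cast mul_right_cancel₀ hz (h3.trans h1.symm)
      have h5 := pow_right_injective₀ (by linarith : (0 : ℚ) < q) hq'.ne' h4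
      have := Finset.ne_of_mem_erase hi
      have := Finset.mem_range.1 (Finset.mem_of_mem_erase hi)
      have := Finset.mem_range.1 hjs
      omega
  have hdvd2 : sc j E' ∣ sc j N' := by
    have h := hcop.dvd_of_dvd_mul_right hdvd
    rw [mul_comm] at h
    exact (IsUnit.dvd_mul_right (Polynomial.isUnit_C.2 (Ne.isUnit hj))).1 h
  have hdvd3 : E' ∣ N' := by
    obtain ⟨T, hT⟩ := hdvd2
    refine ⟨T.comp (Polynomial.C (c j)⁻¹ * Polynomial.X), ?_⟩
    have h := congrArg (fun f => Polynomial.comp f (Polynomial.C (c j)⁻¹ * Polynomial.X)) hT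
    simp only [sc, Polynomial.mul_comp, Polynomial.comp_assoc, Polynomial.C_comp, Polynomial.X_comp] at h
    rwa [← mul_assoc, ← Polynomial.C_mul, mul_inv_cancel₀ (hc0 j).ne', Polynomial.C_1, one_mul,
      Polynomial.comp_X, Polynomial.comp_X] at h
  obtain ⟨R, hR⟩ := (Polynomial.map_dvd_map φ Int.cast_injective hE.1).1 hdvd3
  refine ⟨R, a, mul_right_cancel₀
    (b := algebraMap (Polynomial ℚ) (RatFunc ℚ) E') ?_ ?_⟩
  · exact (map_ne_zero_iff _ (RatFunc.algebraMap_injective ℚ)).2 (hE.1.map φ).ne_zero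
  · rw [mul_assoc, show F * (RatFunc.X ^ a * algebraMap _ _ E') = algebraMap _ _ N' from hF, ← map_mul, hN', hR,
      Polynomial.map_mul, mul_comm]

end Groth.Agent.ZH85.Laurent
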