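import Groth.Agent.QuotLib.TrivHom
import Groth.Agent.AlgSpPts.Geom
import Mathlib.AlgebraicGeometry.Sites.Etale
import Mathlib.CategoryTheory.FiberedCategory.Fiber

/-! Objects of a quotient stack with a section of the torsor. -/

noncomputable section

set_option backward.isDefEq.respectTransparency false
set_option backward.isDefEq.respectTransparency.types false

universe u

open CategoryTheory CategoryTheory.Limits MonoidalCategory CartesianMonoidalCategory MonObj AlgebraicGeometry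

namespace Groth.Agent.ZH85.StackCount

open Groth.Agent.QuotLib Groth.Agent.GrpSchLib AlgSt

variable {S : Scheme.{u}} {G : Over S} [GrpObj G] {X : Over S} {aX : AlgGrp.Action G X}

/-- A torsor over an algebraically closed field has a section. -/
theorem exists_section {K : Type u} [Field K] [IsAlgClosed K] {str : Spec (CommRingCat.of K) ⟶ S}
    (A : AlgSt.QuotObj Scheme.etalePrecoverage G aX) (hA : A.base = Over.mk str) :
    ∃ t : Over.mk str ⟶ A.P, t ≫ A.π = eqToHom hA.symm := by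
  obtain ⟨base, P, act, π, cart, loc, φ, eqv⟩ := A
  cases hA
  obtain ⟨R, hR, hsec⟩ := loc
  obtain ⟨T', f, hf, w, -⟩ :=
    ((Presieve.mem_comap_jointlySurjectivePrecoverage_iff Scheme.forget).1 hR.1) (IsLocalRing.closedPoint K)
  haveI : Etale f := hR.2 hf
  obtain ⟨s, hs⟩ := hsec f hf
  have hs' : s ≫ π.left = f := hs
  let W : Over S := Over.mk (f ≫ str)
  let h : W ⟶ Over.mk str := Over.homMk f rfl
  haveI : Etale h.left := ‹Etale f›
  obtain ⟨l, hl, -⟩ := Groth.Agent.AlgSpPts.exists_section_of_etale h w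
  let b : W ⟶ P := Over.homMk s (by
    show s ≫ P.hom = f ≫ str
    rw [← Over.w π, ← Category.assoc, hs']
    )
  have hb : b ≫ π = h := Over.OverMorphism.ext hs'
  refine ⟨l ≫ b, ?_⟩
  rw [Category.assoc, hb, hl]
  rfl

variable {K : Precoverage Scheme.{u}} [K.HasIsos]

/-- A morphism over the identity is an isomorphism of the fibre. -/
theorem nonempty_fiber_iso {T : Over S} (A B : (AlgSt.QuotObj.forget K G aX).Fiber T)
    (h : A.1 ⟶ B.1) (hh : h.base = eqToHom (A.2.trans B.2.symm)) : Nonempty (A ≅ B) := by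
  let f : A.1.base ≅ B.1.base := eqToIso (A.2.trans B.2.symm)
  have w : f.inv ≫ h.base = (𝟙 B.1 : B.1 ⟶ B.1).base := by
    rw [hh]
    simp [f]
  let inv : B.1 ⟶ A.1 := homLift h (𝟙 B.1) f.inv w
  have hinv : inv.base = eqToHom (B.2.trans A.2.symm) := rfl
  have h1 : (AlgSt.QuotObj.forget K G aX).IsHomLift (𝟙 T) h :=
    IsHomLift.of_fac _ _ _ A.2 B.2 (by
      show 𝟙 T = eqToHom _ ≫ h.base ≫ eqToHom _
      rw [hh]
      simp)
  have h2 : (AlgSt.QuotObj.forget K G aX).IsHomLift (𝟙 T) inv :=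
    IsHomLift.of_fac _ _ _ B.2 A.2 (by
      show 𝟙 T = eqToHom _ ≫ inv.base ≫ eqToHom _
      rw [hinv]
      simp)
  refine ⟨⟨⟨h, h1⟩, ⟨inv, h2⟩, Subtype.ext ?_, Subtype.ext (homLift_comp h (𝟙 B.1) f.inv w)⟩⟩
  refine hom_ext_of_comp h ?_ ?_
  · show h.base ≫ inv.base = 𝟙 _
    rw [hh, hinv]
    simp
  · show (h ≫ inv) ≫ h = 𝟙 A.1 ≫ h
    rw [Category.assoc, homLift_comp]
    exact (Category.comp_id h).trans (Category.id_comp h).symm

/-- Isomorphism classes with sections are orbits. -/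
theorem fiber_iso_iff {T : Over S} (A B : (AlgSt.QuotObj.forget K G aX).Fiber T)
    (tA : T ⟶ A.1.P) (tB : T ⟶ B.1.P) (hA : tA ≫ A.1.π = eqToHom A.2.symm) (hB : tB ≫ B.1.π = eqToHom B.2.symm) :
    Nonempty (A ≅ B) ↔ ∃ g : T ⟶ G, lift g (tA ≫ A.1.φ) ≫ aX.act = tB ≫ B.1.φ := by
  constructor
  · rintro ⟨e⟩
    let h : A.1 ⟶ B.1 := e.hom.1
    haveI := e.hom.2
    have hh : h.base = eqToHom (A.2.trans B.2.symm) := by
      have := IsHomLift.fac' (AlgSt.QuotObj.forget K G aX) (𝟙 T) h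
      change h.base = _ at this
      rw [this]
      simp
    let b : T ⟶ B.1.P := tA ≫ h.top
    have hb : b ≫ B.1.π = tB ≫ B.1.π := by
      rw [Category.assoc, h.cart.w, ← Category.assoc, hA, hh, eqToHom_trans, hB]
    let l := B.1.cart.lift tB b hb.symm
    have hl : lift (l ≫ fst G B.1.P) b ≫ B.1.act.act = tB := by
      have e1 : lift (l ≫ fst G B.1.P) b = l := by
        rw [← show l ≫ snd G B.1.P = b from B.1.cart.lift_snd _ _ _, ← comp_lift, lift_fst_snd, Category.comp_id]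
      rw [e1]
      exact B.1.cart.lift_fst _ _ _
    refine ⟨l ≫ fst G B.1.P, ?_⟩
    have hbφ : tA ≫ A.1.φ = b ≫ B.1.φ := by rw [Category.assoc, h.wφ]
    rw [hbφ, ← lift_whiskerLeft_assoc, ← B.1.eqv, ← Category.assoc, hl]
  · rintro ⟨g, hg⟩
    let b : T ⟶ B.1.P := lift g⁻¹ tB ≫ B.1.act.act
    have hbπ : b ≫ B.1.π = eqToHom B.2.symm := by
      rw [Category.assoc, B.1.cart.w, ← Category.assoc, lift_snd, hB]
    have hbφ : b ≫ B.1.φ = tA ≫ A.1.φ := by
      rw [Category.assoc, B.1.eqv, lift_whiskerLeft_assoc, ← hg, act_mul, inv_mul_cancel, act_one]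
    let hA' : triv K G aX (tA ≫ A.1.φ) ⟶ A.1 := trivHom A.1 tA _ rfl
    let hB' : triv K G aX (tA ≫ A.1.φ) ⟶ B.1 := trivHom B.1 b _ hbφ
    have hA1 : hA'.base = eqToHom A.2.symm := hA
    have hB1 : hB'.base = eqToHom B.2.symm := hbπ
    let X0 : (AlgSt.QuotObj.forget K G aX).Fiber T := ⟨triv K G aX (tA ≫ A.1.φ), rfl⟩
    obtain ⟨eA⟩ := nonempty_fiber_iso X0 A hA' hA1
    obtain ⟨eB⟩ := nonempty_fiber_iso X0 B hB' hB1
    exact ⟨eA.symm.trans eB⟩

end Groth.Agent.ZH85.StackCount
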