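import Mathlib.GroupTheory.GroupAction.Quotient
import Mathlib.GroupTheory.GroupAction.SubMulAction
import Mathlib.Algebra.BigOperators.Finprod
import Mathlib.SetTheory.Cardinal.Finite
import Mathlib.Data.Finite.Card
import Mathlib.GroupTheory.Coset.Card
import Mathlib.Data.Rat.Lemmas
import Mathlib.Algebra.BigOperators.Ring.Finset
import Mathlib.Algebra.Order.Field.Rat
import Mathlib.Tactic.FieldSimp

/-! The mass of a group action: the sum over orbits of inverse orders of stabilisers. -/

universe u v w

open MulAction

namespace Groth.Agent.ZH85.StackCount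

variable (G : Type u) [Group G] (M : Type v) [MulAction G M]

/-- Sum over the orbits of the inverse orders of the stabilisers. -/
noncomputable def mass : ℚ := ∑ᶠ o : orbitRel.Quotient G M, (Nat.card (stabilizer G o.out) : ℚ)⁻¹

variable {G M}

theorem card_stabilizer_smul (g : G) (m : M) : Nat.card (stabilizer G (g • m)) = Nat.card (stabilizer G m) :=
  Nat.card_congr (stabilizerEquivStabilizerOfOrbitRel (show orbitRel G M (g • m) m from ⟨g, rfl⟩)).toEquiv

theorem card_stabilizer_out (m : M) :
    Nat.card (stabilizer G (Quotient.mk (orbitRel G M) m : orbitRel.Quotient G M).out) =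
      Nat.card (stabilizer G m) := by
  obtain ⟨g, hg⟩ := (Quotient.mk_out (s := orbitRel G M) m : orbitRel G M _ m)
  rw [← hg]
  exact card_stabilizer_smul g m

/-- A finite action has mass the ratio of cardinalities. -/
theorem mass_of_finite [Finite G] [Finite M] : mass G M = (Nat.card M : ℚ) / Nat.card G := by
  classical
  haveI := Fintype.ofFinite G
  haveI := Fintype.ofFinite M
  haveI := Fintype.ofFinite (orbitRel.Quotient G M)
  rw [mass, finsum_eq_sum_of_fintype, Nat.card_congr (selfEquivSigmaOrbits G M), Nat.card_sigma, Nat.cast_sum,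
    div_eq_mul_inv, Finset.sum_mul]
  refine Finset.sum_congr rfl fun o _ => ?_
  rw [← orbitEquivQuotientStabilizer G o.out |>.symm |> Nat.card_congr]
  have h := Subgroup.card_eq_card_quotient_mul_card_subgroup (stabilizer G o.out)
  rw [h, Nat.cast_mul]
  have h1 : (Nat.card (G ⧸ stabilizer G o.out) : ℚ) ≠ 0 := Nat.cast_ne_zero.2 Nat.card_pos.ne'
  field_simp

/-- Transport of the mass along an equivalence of groups and sets. -/
theorem mass_congr {G' : Type w} [Group G'] {M' : Type*} [MulAction G' M'] (eG : G ≃* G') (eM : M ≃ M')
    (h : ∀ (g : G) (m : M), eM (g • m) = eG g • eM m) : mass G M = mass G' M' := by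
  let e : orbitRel.Quotient G M ≃ orbitRel.Quotient G' M' :=
    Quotient.congr eM fun a b => ⟨fun ⟨g, hg⟩ => ⟨eG g, (h g b).symm.trans (congrArg eM hg)⟩,
      fun ⟨g, hg⟩ => ⟨eG.symm g, eM.injective ((h _ b).trans (by rw [eG.apply_symm_apply]; exact hg))⟩⟩
  refine finsum_eq_of_bijective e e.bijective fun o => ?_
  induction o using Quotient.inductionOn with
  | h m =>
      rw [card_stabilizer_out, show e (Quotient.mk _ m) = Quotient.mk _ (eM m) from rfl, card_stabilizer_out]
      congr 2
      refine Nat.card_congr (eG.toEquiv.subtypeEquiv fun g => ?_)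
      show g • m = m ↔ eG g • eM m = eM m
      rw [← h, eM.apply_eq_iff_eq]

section Fibres

variable {N : Type w} [MulAction G N] (f : M →[G] N)

/-- A fibre of an equivariant map, as an invariant set of the stabiliser. -/
def fibre (n : N) : SubMulAction (stabilizer G n) M where
  carrier := {m | f m = n}
  smul_mem' := fun g m (hm : f m = n) => by
    show f ((g : G) • m) = n
    rw [f.map_smul, hm, show (g : G) • n = n from g.2]

/-- The mass is the sum of the masses of the fibres. -/
theorem mass_fibres [Finite (orbitRel.Quotient G N)] [Finite (orbitRel.Quotient G M)] :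
    mass G M = ∑ᶠ o : orbitRel.Quotient G N, mass (stabilizer G o.out) (fibre f o.out) := by
  classical
  let F : (Σ o : orbitRel.Quotient G N, orbitRel.Quotient (stabilizer G o.out) (fibre f o.out)) →
      orbitRel.Quotient G M := fun p => Quotient.liftOn' p.2 (fun m => Quotient.mk _ (m : M))
        fun a b hab => by
          obtain ⟨g, hg⟩ := hab
          exact Quotient.sound ⟨(g : G), congrArg Subtype.val hg⟩
  have hF : Function.Bijective F := by
    constructor
    · rintro ⟨o, p⟩ ⟨o', p'⟩
      induction p using Quotient.inductionOn' with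
      | h a =>
      induction p' using Quotient.inductionOn' with
      | h b =>
      intro h
      obtain ⟨g, hg⟩ := Quotient.exact h
      have hg' : g • (b : M) = (a : M) := hg
      have ho : o = o' := by
        rw [← o.out_eq, ← o'.out_eq]
        exact Quotient.sound ⟨g, by show g • o'.out = o.out; rw [← (show f b = o'.out from b.2), ← f.map_smul, hg']; exact a.2⟩
      subst ho
      have hgs : g ∈ stabilizer G o.out := by
        rw [mem_stabilizer_iff]
        nth_rw 1 [← (show f b = o.out from b.2)]
        rw [← f.map_smul, hg']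
        exact a.2
      exact Sigma.ext rfl (heq_of_eq (Quotient.sound ⟨⟨g, hgs⟩, Subtype.ext hg'⟩))
    · intro q
      induction q using Quotient.inductionOn with
      | h m =>
      obtain ⟨g, hg⟩ := (Quotient.mk_out (s := orbitRel G N) (f m) : orbitRel G N _ (f m))
      let o : orbitRel.Quotient G N := Quotient.mk _ (f m)
      refine ⟨⟨o, Quotient.mk _ ⟨g • m, ?_⟩⟩, Quotient.sound ⟨g, rfl⟩⟩
      show f (g • m) = o.out
      rw [f.map_smul]
      exact hg
  haveI : Finite (Σ o : orbitRel.Quotient G N, orbitRel.Quotient (stabilizer G o.out) (fibre f o.out)) :=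
    Finite.of_injective F hF.1
  haveI : ∀ o : orbitRel.Quotient G N, Finite (orbitRel.Quotient (stabilizer G o.out) (fibre f o.out)) :=
    fun o => Finite.of_injective (Sigma.mk (β := fun o : orbitRel.Quotient G N =>
      orbitRel.Quotient (stabilizer G o.out) (fibre f o.out)) o) sigma_mk_injective
  haveI := Fintype.ofFinite (orbitRel.Quotient G N)
  haveI := fun o : orbitRel.Quotient G N =>
    Fintype.ofFinite (orbitRel.Quotient (stabilizer G o.out) (fibre f o.out))
  rw [mass, ← finsum_eq_of_bijective F hF fun _ => rfl, finsum_eq_sum_of_fintype, finsum_eq_sum_of_fintype,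
    Fintype.sum_sigma]
  refine Finset.sum_congr rfl fun o _ => ?_
  rw [mass, finsum_eq_sum_of_fintype]
  refine Finset.sum_congr rfl fun p _ => ?_
  induction p using Quotient.inductionOn with
  | h a =>
  rw [show F ⟨o, Quotient.mk _ a⟩ = Quotient.mk _ (a : M) from rfl, card_stabilizer_out, card_stabilizer_out]
  refine congrArg (fun n : ℕ => (n : ℚ)⁻¹) (Nat.card_congr ?_)
  exact
    { toFun := fun g => ⟨⟨g.1, by
        have ha : f a = o.out := a.2
        show (g : G) • o.out = o.out
        exact (congrArg ((g : G) • ·) ha.symm).trans ((f.map_smul _ _).symm.trans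
          ((congrArg f (show (g : G) • (a : M) = a from g.2)).trans ha))⟩, Subtype.ext g.2⟩
      invFun := fun g => ⟨g.1.1, congrArg Subtype.val g.2⟩
      left_inv := fun g => rfl
      right_inv := fun g => rfl }

end Fibres

end Groth.Agent.ZH85.StackCount
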