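import Groth.Agent.ZH85.StackCount.Model
import Groth.Agent.ZH85.StackCount.Mass

/-! The point count of a quotient stack is the mass of the Frobenius model. -/

noncomputable section

set_option autoImplicit false
set_option backward.isDefEq.respectTransparency false
set_option backward.isDefEq.respectTransparency.types false

universe u

open CategoryTheory CategoryTheory.Limits MonoidalCategory CartesianMonoidalCategory MonObj AlgebraicGeometry

namespace Groth.Agent.ZH85.StackCount

open Groth.Agent.GrpSchLib (act_mul act_one)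
open AlgSt

variable {k : Type u} [Field k] [Finite k]
  {G X : Over (Spec (CommRingCat.of k))} [GrpObj G] {aX : AlgGrp.Action G X}
  {k' : Type u} [Field k'] [Algebra k k'] [Module.Finite k k']
  {kb : Type u} [Field kb] [Algebra k kb] [Algebra k' kb] [IsScalarTower k k' kb] [IsAlgClosure k' kb]

variable (k k' kb aX) in
/-- Pairs `(g, x)` over the closure with `g · Frob x = x`. -/
@[ext]
structure FrobPair where
  /-- the group element -/
  g : SGA7.pt (K := k) kb ⟶ G
  /-- the point -/
  x : SGA7.pt (K := k) kb ⟶ X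
  fix : lift g (fs k k' kb ≫ x) ≫ aX.act = x

instance : MulAction (SGA7.pt (K := k) kb ⟶ G) (FrobPair k aX k' kb) where
  smul h p := ⟨h * p.g * (fs k k' kb ≫ h)⁻¹, lift h p.x ≫ aX.act, by
    rw [comp_lift_assoc, act_mul, inv_mul_cancel_right, ← act_mul, p.fix]⟩
  one_smul p := by
    apply FrobPair.ext
    · show 1 * p.g * (fs k k' kb ≫ 1)⁻¹ = p.g
      rw [MonObj.comp_one, inv_one, _root_.mul_one, _root_.one_mul]
    · exact act_one aX p.x
  mul_smul h h' p := by
    apply FrobPair.ext
    · show h * h' * p.g * (fs k k' kb ≫ (h * h'))⁻¹ = h * (h' * p.g * (fs k k' kb ≫ h')⁻¹) * (fs k k' kb ≫ h)⁻¹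
      rw [MonObj.comp_mul, mul_inv_rev]
      simp only [_root_.mul_assoc]
    · exact (act_mul aX h h' p.x).symm

/-- The pair of a section. -/
def KSec.pair {A : PtObj G aX k'} (tA : KSec kb A) : FrobPair k aX k' kb := ⟨tA.g, tA.x, tA.g_x⟩

theorem KSec.smul_pair {A : PtObj G aX k'} (h : SGA7.pt (K := k) kb ⟶ G) (tA : KSec kb A) :
    (tA.smul h).pair = h • tA.pair := FrobPair.ext (tA.smul_g h) (tA.smul_x h)

theorem KSec.map_pair {A B : PtObj G aX k'} (f : A ⟶ B) (tA : KSec kb A) : (tA.map f).pair = tA.pair :=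
  FrobPair.ext (tA.map_g f) (tA.map_x f)

variable [Smooth G.hom] [IsAffineHom G.hom]

theorem exists_ptIso {A B : PtObj G aX k'} (tA : KSec kb A) (tB : KSec kb B) (h : tA.pair = tB.pair) :
    ∃ f : A ≅ B, tA.t ≫ f.hom.1.top = tB.t := by
  obtain ⟨f, hf⟩ := exists_ptHom tA tB congr(FrobPair.g $h) congr(FrobPair.x $h)
  obtain ⟨f', hf'⟩ := exists_ptHom tB tA congr(FrobPair.g $h.symm) congr(FrobPair.x $h.symm)
  refine ⟨⟨f, f', ptHom_ext tA ?_, ptHom_ext tB ?_⟩, hf⟩
  · show tA.t ≫ f.1.top ≫ f'.1.top = tA.t ≫ 𝟙 _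
    rw [reassoc_of% hf, hf', Category.comp_id]
  · show tB.t ≫ f'.1.top ≫ f.1.top = tB.t ≫ 𝟙 _
    rw [reassoc_of% hf', hf, Category.comp_id]

/-- A choice of section. -/
def kSec (A : PtObj G aX k') : KSec kb A := (exists_kSec A).some

/-- Automorphisms are the stabiliser of the pair of a section. -/
def autEquiv {A : PtObj G aX k'} (tA : KSec kb A) :
    Aut A ≃ MulAction.stabilizer (SGA7.pt (K := k) kb ⟶ G) tA.pair := by
  refine Equiv.ofBijective (fun f => ⟨(tA.exists_smul (tA.map f.hom)).choose, ?_⟩) ⟨fun f f' hff => ?_, fun h => ?_⟩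
  · rw [MulAction.mem_stabilizer_iff, ← tA.smul_pair, KSec.ext (tA.exists_smul (tA.map f.hom)).choose_spec,
      tA.map_pair]
  · have e := congrArg (fun h : SGA7.pt (K := k) kb ⟶ G => (tA.smul h).t) (congrArg Subtype.val hff)
    simp only at e
    rw [(tA.exists_smul (tA.map f.hom)).choose_spec, (tA.exists_smul (tA.map f'.hom)).choose_spec] at e
    exact Iso.ext (ptHom_ext tA e)
  · obtain ⟨f, hf⟩ := exists_ptIso tA (tA.smul h.1) (by rw [tA.smul_pair]; exact h.2.symm)
    refine ⟨f, Subtype.ext (act_free A.1 (b := tA.t) ?_)⟩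
    exact (tA.exists_smul (tA.map f.hom)).choose_spec.trans hf

variable [LocallyOfFiniteType X.hom]

variable (G aX k' kb) in
/-- Isomorphism classes are orbits of pairs. -/
def isoClEquiv : StkCnt.IsoCl (PtObj G aX k') ≃
    MulAction.orbitRel.Quotient (SGA7.pt (K := k) kb ⟶ G) (FrobPair k aX k' kb) := by
  refine Equiv.ofBijective (Quotient.lift (fun A => Quotient.mk _ (kSec A).pair) ?_) ⟨?_, ?_⟩
  · rintro A B ⟨f⟩
    obtain ⟨h, hh⟩ := ((kSec A).map f.hom).exists_smul (kSec (kb := kb) B)
    refine (Quotient.sound (?_ : MulAction.orbitRel _ _ (kSec (kb := kb) B).pair (kSec A).pair)).symm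
    refine ⟨h, ?_⟩
    show h • (kSec A).pair = (kSec B).pair
    rw [← (kSec A).map_pair f.hom, ← KSec.smul_pair, KSec.ext hh]
  · intro a b
    induction a using Quotient.inductionOn with
    | h A =>
    induction b using Quotient.inductionOn with
    | h B =>
    intro hAB
    obtain ⟨h, hh⟩ := Quotient.exact hAB
    obtain ⟨f, -⟩ := exists_ptIso (kSec A) ((kSec B).smul h) (by rw [KSec.smul_pair]; exact hh.symm)
    exact Quotient.sound ⟨f⟩
  · intro o
    induction o using Quotient.inductionOn with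
    | h p =>
    obtain ⟨A, tA, hg, hx⟩ := exists_ptObj p.g p.x p.fix
    refine ⟨StkCnt.IsoCl.mk A, Quotient.sound ?_⟩
    obtain ⟨h, hh⟩ := tA.exists_smul (kSec A)
    refine ⟨h, ?_⟩
    show h • p = (kSec A).pair
    rw [← show tA.pair = p from FrobPair.ext hg hx, ← KSec.smul_pair, KSec.ext hh]

variable (kb) in
theorem finite_orbits (h : StkCnt.IsEssFinite (PtObj G aX k')) :
    Finite (MulAction.orbitRel.Quotient (SGA7.pt (K := k) kb ⟶ G) (FrobPair k aX k' kb)) :=
  haveI := h.finite_isoCl
  Finite.of_equiv _ (isoClEquiv G aX k' kb)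

variable (kb) in
/-- The point count of a quotient stack over a finite field is the mass of the Frobenius pairs. -/
theorem ptCount_eq_mass (h : StkCnt.IsEssFinite (PtObj G aX k')) :
    StkCnt.ptCount (AlgSt.QuotSt Scheme.etalePrecoverage G aX) k' h =
      mass (SGA7.pt (K := k) kb ⟶ G) (FrobPair k aX k' kb) := by
  haveI := h.finite_isoCl
  haveI := finite_orbits kb h
  letI := Fintype.ofFinite (StkCnt.IsoCl (PtObj G aX k'))
  letI := Fintype.ofFinite (MulAction.orbitRel.Quotient (SGA7.pt (K := k) kb ⟶ G) (FrobPair k aX k' kb))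
  rw [StkCnt.ptCount, StkCnt.count_eq_sum, mass, finsum_eq_sum_of_fintype]
  refine Fintype.sum_equiv (isoClEquiv G aX k' kb) _ _ fun c => ?_
  induction c using Quotient.inductionOn with
  | h A =>
    rw [show isoClEquiv G aX k' kb (Quotient.mk _ A) = Quotient.mk _ (kSec A).pair from rfl, card_stabilizer_out]
    congr 2
    exact Nat.card_congr (autEquiv (kSec A))

end Groth.Agent.ZH85.StackCount
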