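import Groth.Agent.ZH85.StackCount.ModelCount
import Mathlib.RingTheory.IntegralClosure.IsIntegralClosure.Basic

/-! Finiteness of the points of a finite scheme. -/

noncomputable section

set_option autoImplicit false
set_option backward.isDefEq.respectTransparency false
set_option backward.isDefEq.respectTransparency.types false

universe u

open CategoryTheory AlgebraicGeometry

namespace Groth.Agent.ZH85.StackCount

/-- A finite scheme has finitely many points in any field. -/
theorem finite_points_of_isFinite {k : Type u} [Field k] {Y : Over (Spec (CommRingCat.of k))} [IsFinite Y.hom]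
    (L : Type u) [Field L] [Algebra k L] : Finite (SGA7.pt (K := k) L ⟶ Y) := by
  classical
  haveI : IsAffine Y.left := isAffine_of_isAffineHom Y.hom
  let A := Γ(Y.left, ⊤)
  have hU := isAffineOpen_top Y.left
  let v : Spec (CommRingCat.of A) ⟶ Spec (CommRingCat.of k) := hU.fromSpec ≫ Y.hom
  letI : Algebra k A := (Spec.preimage v).hom.toAlgebra
  haveI hiso : IsIso hU.fromSpec := by
    rw [IsAffineOpen.fromSpec_top]; infer_instance
  have hv : Spec.map (CommRingCat.ofHom (algebraMap k A)) = v := Spec.map_preimage v
  have : IsFinite (Spec.map (CommRingCat.ofHom (algebraMap k A))) := by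
    rw [hv]; infer_instance
  have hfin : Module.Finite k A := RingHom.finite_algebraMap.1 ((IsFinite.SpecMap_iff _).1 this)
  obtain ⟨s, hs⟩ := (inferInstance : Algebra.FiniteType k A).out
  have hint : ∀ a : A, IsIntegral k a := fun a => IsIntegral.of_finite k a
  haveI : Finite (A →ₐ[k] L) := by
    refine Finite.of_injective
      (fun f => fun a : (s : Set A) => (⟨f a.1, ?_⟩ : ((minpoly k a.1).rootSet L : Set L))) fun f g h =>
        AlgHom.ext_of_adjoin_eq_top hs fun a ha => congrArg Subtype.val (congrFun h ⟨a, ha⟩)
    rw [Polynomial.mem_rootSet, Polynomial.aeval_algHom_apply, minpoly.aeval, map_zero]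
    exact ⟨minpoly.ne_zero (hint a.1), rfl⟩
  let w : (SGA7.pt (K := k) L ⟶ Y) → (Spec (CommRingCat.of L) ⟶ Spec (CommRingCat.of A)) :=
    fun y => y.left ≫ inv hU.fromSpec
  refine Finite.of_injective (fun y => ({ (Spec.preimage (w y)).hom with
    commutes' := fun c => by
      have h1 : Spec.map (CommRingCat.ofHom (algebraMap k A) ≫ Spec.preimage (w y)) =
          Spec.map (CommRingCat.ofHom (algebraMap k L)) := by
        rw [Spec.map_comp, Spec.map_preimage, hv]
        simp only [w, v, Category.assoc, IsIso.inv_hom_id_assoc]
        exact Over.w y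
      exact congr($(Spec.map_injective h1).hom c) } : A →ₐ[k] L)) fun y y' h => ?_
  have h2 : Spec.preimage (w y) = Spec.preimage (w y') := by
    ext a
    exact congr($h a)
  apply Over.OverMorphism.ext
  rw [← cancel_mono (inv hU.fromSpec)]
  show w y = w y'
  rw [← Spec.map_preimage (w y), h2, Spec.map_preimage]

end Groth.Agent.ZH85.StackCount
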