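import Groth.Agent.ZH85.StackCount.Model
import Groth.Prelude.Def_GalTw2

/-! Points of twisted forms over the closure, with the twisted Galois action. -/

noncomputable section

set_option autoImplicit false
set_option backward.isDefEq.respectTransparency false
set_option backward.isDefEq.respectTransparency.types false

universe u

open CategoryTheory CategoryTheory.Limits MonoidalCategory CartesianMonoidalCategory MonObj AlgebraicGeometry GalTw

namespace Groth.Agent.ZH85.StackCount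

variable {k : Type u} [Field k] {kb : Type u} [Field kb] [Algebra k kb]

/-- The point of a section of a base change. -/
def toPt {Y : Over (Spec (CommRingCat.of k))} (s : 𝟙_ (Over (Spec (CommRingCat.of kb))) ⟶ bcK kb Y) :
    SGA7.Pts kb Y :=
  Over.homMk (s.left ≫ pullback.fst Y.hom (SGA7.pt (K := k) kb).hom) (by
    show (s.left ≫ pullback.fst _ _) ≫ Y.hom = _
    rw [Category.assoc, pullback.condition, ← Category.assoc]
    rw [show s.left ≫ pullback.snd Y.hom (SGA7.pt (K := k) kb).hom = 𝟙 _ from Over.w s]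
    exact Category.id_comp _)

theorem toPt_secOfPt {Y : Over (Spec (CommRingCat.of k))} (y : SGA7.Pts kb Y) : toPt (secOfPt kb y) = y :=
  Over.OverMorphism.ext (pullback.lift_fst _ _ _)

theorem secOfPt_toPt {Y : Over (Spec (CommRingCat.of k))}
    (s : 𝟙_ (Over (Spec (CommRingCat.of kb))) ⟶ bcK kb Y) : secOfPt kb (toPt s) = s :=
  Over.OverMorphism.ext (pullback.hom_ext (pullback.lift_fst _ _ _)
    ((pullback.lift_snd _ _ _).trans (Over.w s).symm))

/-- Sections and points. -/
def secEquiv (Y : Over (Spec (CommRingCat.of k))) :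
    SGA7.Pts kb Y ≃ (𝟙_ (Over (Spec (CommRingCat.of kb))) ⟶ bcK kb Y) :=
  ⟨secOfPt kb, toPt, toPt_secOfPt, secOfPt_toPt⟩

/-- Points of an isomorphic base change. -/
def ptsEquiv {X Y : Over (Spec (CommRingCat.of k))} (φ : bcK kb Y ≅ bcK kb X) :
    SGA7.Pts kb Y ≃ SGA7.Pts kb X :=
  ((secEquiv Y).trans ((Iso.refl _).homCongr φ)).trans (secEquiv X).symm

theorem secOfPt_ptsEquiv {X Y : Over (Spec (CommRingCat.of k))} (φ : bcK kb Y ≅ bcK kb X) (y : SGA7.Pts kb Y) :
    secOfPt kb (ptsEquiv φ y) = secOfPt kb y ≫ φ.hom := by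
  show secOfPt kb (toPt (𝟙 _ ≫ secOfPt kb y ≫ φ.hom)) = _
  rw [secOfPt_toPt, Category.id_comp]

theorem secOfPt_smul {Y : Over (Spec (CommRingCat.of k))} (σ : kb ≃ₐ[k] kb) (y : SGA7.Pts kb Y) :
    (secOfPt kb (σ • y)).left = specMap kb σ ≫ (secOfPt kb y).left ≫ galMap kb σ⁻¹ Y := by
  refine pullback.hom_ext ?_ ?_
  · rw [secOfPt_left, pullback.lift_fst, Category.assoc, Category.assoc, galMap_fst, secOfPt_left,
      pullback.lift_fst]
    rfl
  · rw [secOfPt_left, pullback.lift_snd, Category.assoc, Category.assoc, galMap_snd, secOfPt_left,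
      pullback.lift_snd_assoc]
    erw [Category.id_comp, ← specMap_mul, mul_inv_cancel, specMap_one]
    rfl

/-- The twisted action transported through the isomorphism of a form. -/
theorem secOfPt_ptsEquiv_smul {X Y : Over (Spec (CommRingCat.of k))} (φ : bcK kb Y ≅ bcK kb X)
    (σ : kb ≃ₐ[k] kb) (y : SGA7.Pts kb Y) :
    secOfPt kb (ptsEquiv φ (σ • y)) = secOfPt kb (σ • ptsEquiv φ y) ≫ (cocycle φ σ).hom := by
  have hc : (cocycle φ σ).hom.left = galMap kb σ X ≫ φ.inv.left ≫ galMap kb σ⁻¹ Y ≫ φ.hom.left := by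
    rw [cocycle_apply_hom, Over.comp_left, twIso_inv, twHom_left, Category.assoc, Category.assoc]
  apply Over.OverMorphism.ext
  rw [secOfPt_ptsEquiv, Over.comp_left, Over.comp_left, secOfPt_smul, secOfPt_smul, secOfPt_ptsEquiv, Over.comp_left,
    hc]
  simp only [Category.assoc, galMap_mul_assoc, inv_mul_cancel, galMap_one, Category.id_comp,
    Over.hom_left_inv_left_assoc]

/-- Points of a twist through an action. -/
theorem ptsEquiv_smul_act {G X Y : Over (Spec (CommRingCat.of k))} [GrpObj G] {a : AlgGrp.Action G X}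
    (φ : bcK kb Y ≅ bcK kb X) (σ : kb ≃ₐ[k] kb) (g : SGA7.Pts kb G) (h : (cocycle φ σ).hom = actK kb a g)
    (y : SGA7.Pts kb Y) :
    ptsEquiv φ (σ • y) = lift g (σ • ptsEquiv φ y) ≫ a.act := by
  have h1 := secOfPt_ptsEquiv_smul φ σ y
  rw [h] at h1
  rw [← toPt_secOfPt (ptsEquiv φ (σ • y)), h1]
  apply Over.OverMorphism.ext
  let v := σ • ptsEquiv φ y
  have h2 : (secOfPt kb v).left ≫ (lift (snd X (SGA7.pt (K := k) kb) ≫ g) (fst X (SGA7.pt (K := k) kb))).left =
      (lift g v).left := by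
    let q : SGA7.pt (K := k) kb ⟶ X ⊗ SGA7.pt (K := k) kb := lift v (𝟙 _)
    have hq : q ≫ lift (snd X (SGA7.pt (K := k) kb) ≫ g) (fst X (SGA7.pt (K := k) kb)) = lift g v := by
      apply CartesianMonoidalCategory.hom_ext <;> simp [q]
    rw [← hq]
    show _ = q.left ≫ _
    congr 1
  show ((secOfPt kb v).left ≫ (actK kb a g).left) ≫ pullback.fst _ _ = (lift g v).left ≫ a.act.left
  rw [← h2, Category.assoc]
  show (secOfPt kb v).left ≫ pullback.lift _ _ _ ≫ pullback.fst _ _ = _
  rw [pullback.lift_fst, Category.assoc]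
  rfl

theorem secOfPt_mul {G : Over (Spec (CommRingCat.of k))} [GrpObj G] (g h : SGA7.Pts kb G) :
    secOfPt kb (g * h) = secOfPt kb g * secOfPt kb h := by
  let f := (SGA7.pt (K := k) kb).hom
  let Δ : 𝟙_ (Over (Spec (CommRingCat.of kb))) ⟶ (Over.pullback f).obj (SGA7.pt (K := k) kb) :=
    Over.homMk (pullback.lift (𝟙 _) (𝟙 _) rfl) (pullback.lift_snd _ _ _)
  have hΔ : ∀ x : SGA7.Pts kb G, secOfPt kb x = Δ ≫ (Over.pullback f).map x := fun x => by
    apply Over.OverMorphism.ext
    refine pullback.hom_ext ?_ ?_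
    · rw [secOfPt_left, pullback.lift_fst]
      symm
      show (pullback.lift _ _ _ ≫ _) ≫ _ = _
      rw [Category.assoc, show ((Over.pullback f).map x).left ≫ pullback.fst G.hom f =
        pullback.fst (SGA7.pt (K := k) kb).hom f ≫ x.left from pullback.lift_fst _ _ _, pullback.lift_fst_assoc,
        Category.id_comp]
    · rw [secOfPt_left, pullback.lift_snd]
      exact (Over.w (Δ ≫ (Over.pullback f).map x)).symm
  rw [hΔ, hΔ, hΔ, Functor.map_mul, MonObj.comp_mul]

theorem secOfPt_inv {G : Over (Spec (CommRingCat.of k))} [GrpObj G] (g : SGA7.Pts kb G) :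
    secOfPt kb g⁻¹ = (secOfPt kb g)⁻¹ :=
  map_inv (MonoidHom.mk' (secOfPt kb) secOfPt_mul : SGA7.Pts kb G →* _) g

/-- Points of an inner twist. -/
theorem ptsEquiv_smul_inn {G Y : Over (Spec (CommRingCat.of k))} [GrpObj G]
    (φ : bcK kb Y ≅ bcK kb G) (σ : kb ≃ₐ[k] kb) (g : SGA7.Pts kb G) (h : (cocycle φ σ).hom = innK kb g)
    (y : SGA7.Pts kb Y) :
    ptsEquiv φ (σ • y) = g * (σ • ptsEquiv φ y) * g⁻¹ := by
  apply (secEquiv G).injective
  show secOfPt kb _ = secOfPt kb _
  rw [secOfPt_ptsEquiv_smul φ σ y, h, secOfPt_mul, secOfPt_mul, secOfPt_inv, innK]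
  unfold AGF.conjBy
  rw [MonObj.comp_mul, MonObj.comp_mul, Category.comp_id, GrpObj.comp_inv, ← Category.assoc,
    toUnit_unique (secOfPt kb (σ • ptsEquiv φ y) ≫ toUnit (bcK kb G)) (𝟙 _), Category.id_comp]

end Groth.Agent.ZH85.StackCount
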