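import Groth.Agent.ZH85.StackCount.Cocycle
import Groth.Agent.ZH85.StackCount.TwistPts

/-! The Frobenius model over the ground field, class by class. -/

noncomputable section

set_option autoImplicit false
set_option backward.isDefEq.respectTransparency false
set_option backward.isDefEq.respectTransparency.types false

universe u

open CategoryTheory CategoryTheory.Limits MonoidalCategory CartesianMonoidalCategory MonObj AlgebraicGeometry GalTw

namespace Groth.Agent.ZH85.StackCount

open AlgSt

variable {k : Type u} [Field k] [Finite k] {kb : Type u} [Field kb] [Algebra k kb] [IsAlgClosure k kb]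
  {G X : Over (Spec (CommRingCat.of k))} [GrpObj G] {aX : AlgGrp.Action G X}

variable (k kb G) in
/-- Group elements under twisted conjugation. -/
abbrev TwElt : Type u := FrobPair k (AlgSt.trivAction G) k kb

/-- The group element as a pair with trivial point. -/
def twElt (g : SGA7.Pts kb G) : TwElt k kb G := ⟨g, toUnit _, toUnit_unique _ _⟩

theorem twElt_ext {p q : TwElt k kb G} (h : p.g = q.g) : p = q := FrobPair.ext h (toUnit_unique _ _)

variable (k kb aX) in
/-- Forgetting the point. -/
def forgetPt : FrobPair k aX k kb →[SGA7.Pts kb G] TwElt k kb G where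
  toFun p := twElt p.g
  map_smul' _ _ := twElt_ext rfl

/-- The class of a twisting element through the cohomology set. -/
def classMap (z : GpH1.H1lc (kb ≃ₐ[k] kb) (SGA7.Pts kb G) → GpH1.OneCocycleLC (kb ≃ₐ[k] kb) (SGA7.Pts kb G))
    (c : GpH1.H1lc (kb ≃ₐ[k] kb) (SGA7.Pts kb G)) :
    MulAction.orbitRel.Quotient (SGA7.Pts kb G) (TwElt k kb G) :=
  Quotient.mk _ (twElt ((z c).1 (frobK k k kb)))

theorem classMap_bijective [Smooth G.hom] [IsAffineHom G.hom]
    (z : GpH1.H1lc (kb ≃ₐ[k] kb) (SGA7.Pts kb G) → GpH1.OneCocycleLC (kb ≃ₐ[k] kb) (SGA7.Pts kb G))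
    (hz : ∀ c, (z c).cl = c) : Function.Bijective (classMap z) := by
  have key : ∀ a b : GpH1.OneCocycleLC (kb ≃ₐ[k] kb) (SGA7.Pts kb G),
      GpH1.Cohomologous a.1 b.1 ↔
        (Quotient.mk _ (twElt (a.1 (frobK k k kb))) : MulAction.orbitRel.Quotient (SGA7.Pts kb G) (TwElt k kb G)) =
          Quotient.mk _ (twElt (b.1 (frobK k k kb))) := fun a b => by
    rw [cohomologous_iff, Quotient.eq]
    refine exists_congr fun h => ?_
    show _ ↔ h • twElt (b.1 (frobK k k kb)) = twElt (a.1 (frobK k k kb))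
    rw [frobK_smul]
    exact ⟨fun e => twElt_ext e, fun e => congr(FrobPair.g $e)⟩
  refine ⟨fun c c' h => ?_, fun o => ?_⟩
  · rw [← hz c, ← hz c', GpH1.OneCocycleLC.cl_eq_cl_iff]
    exact (key _ _).2 h
  · induction o using Quotient.inductionOn with
    | h p =>
      obtain ⟨w, hw⟩ := exists_cocycle p.g
      refine ⟨w.cl, ?_⟩
      have hcoh : GpH1.Cohomologous (z w.cl).1 w.1 := (GpH1.OneCocycleLC.cl_eq_cl_iff _ _).1 (hz _)
      rw [classMap, (key _ _).1 hcoh, hw]
      exact congrArg _ (twElt_ext rfl)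

/-- Rational points of a twist through an action are the twisted fixed points. -/
def twistFixedEquiv {Y : Over (Spec (CommRingCat.of k))}
    (z : GpH1.OneCocycle (kb ≃ₐ[k] kb) (SGA7.Pts kb G)) (φ : bcK kb Y ≅ bcK kb X)
    (hφ : ∀ σ : kb ≃ₐ[k] kb, (cocycle φ σ).hom = actK kb aX (z σ)) :
    SGA7.Pts k Y ≃ fibre (forgetPt k kb aX) (twElt (z (frobK k k kb))) :=
  ((fixedEquiv k k kb Y).trans ((ptsEquiv φ).subtypeEquiv
    (q := fun x => lift (z (frobK k k kb)) (fs k k kb ≫ x) ≫ aX.act = x) fun y => by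
      rw [← frobK_smul, ← frobK_smul, ← ptsEquiv_smul_act φ _ _ (hφ _) y]
      exact (ptsEquiv φ).injective.eq_iff.symm)).trans
    { toFun := fun x => ⟨⟨z (frobK k k kb), x.1, x.2⟩, rfl⟩
      invFun := fun p => ⟨p.1.x, by
        have hg : p.1.g = z (frobK k k kb) := congr(FrobPair.g $(p.2))
        exact (congrArg (fun a => lift a (fs k k kb ≫ p.1.x) ≫ aX.act) hg.symm).trans p.1.fix⟩
      left_inv := fun x => rfl
      right_inv := fun p => Subtype.ext (FrobPair.ext (congr(FrobPair.g $(p.2))).symm rfl) }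

theorem mem_stabilizer_twElt (g h : SGA7.Pts kb G) :
    h ∈ MulAction.stabilizer (SGA7.Pts kb G) (twElt g) ↔ g * (fs k k kb ≫ h) * g⁻¹ = h := by
  rw [MulAction.mem_stabilizer_iff]
  constructor
  · intro e
    have e' : h * g * (fs k k kb ≫ h)⁻¹ = g := congr(FrobPair.g $e)
    rw [mul_inv_eq_iff_eq_mul] at e'
    rw [← e', mul_inv_cancel_right]
  · intro e
    refine twElt_ext ?_
    show h * g * (fs k k kb ≫ h)⁻¹ = g
    rw [mul_inv_eq_iff_eq_mul]
    exact (mul_inv_eq_iff_eq_mul.1 e).symm

/-- Rational points of an inner twist are the stabiliser. -/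
def innFixedEquiv {Y : Over (Spec (CommRingCat.of k))}
    (z : GpH1.OneCocycle (kb ≃ₐ[k] kb) (SGA7.Pts kb G)) (φ : bcK kb Y ≅ bcK kb G)
    (hφ : ∀ σ : kb ≃ₐ[k] kb, (cocycle φ σ).hom = innK kb (z σ)) :
    SGA7.Pts k Y ≃ MulAction.stabilizer (SGA7.Pts kb G) (twElt (z (frobK k k kb))) :=
  (fixedEquiv k k kb Y).trans ((ptsEquiv φ).subtypeEquiv fun y => by
    show fs k k kb ≫ y = y ↔ ptsEquiv φ y ∈ MulAction.stabilizer (SGA7.Pts kb G) (twElt (z (frobK k k kb)))
    rw [mem_stabilizer_twElt, ← frobK_smul, ← frobK_smul, ← ptsEquiv_smul_inn φ _ _ (hφ _) y]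
    exact (ptsEquiv φ).injective.eq_iff.symm)

variable [Smooth G.hom] [IsAffineHom G.hom]

theorem finite_stabilizer_twElt (p : TwElt k kb G) : Finite (MulAction.stabilizer (SGA7.Pts kb G) p) := by
  haveI := finite_twFixed (k' := k) p.g
  refine Finite.of_injective (fun h => (⟨h.1, (mem_stabilizer_twElt p.g h.1).1 ?_⟩ :
    {h : SGA7.pt (K := k) kb ⟶ G // p.g * (fs k k kb ≫ h) * p.g⁻¹ = h})) fun a b hab => ?_
  · rw [show twElt p.g = p from twElt_ext rfl]
    exact h.2
  · exact Subtype.ext congr(Subtype.val $hab)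

theorem finite_fibre_forgetPt [Finite (MulAction.orbitRel.Quotient (SGA7.Pts kb G) (FrobPair k aX k kb))]
    (p : TwElt k kb G) : Finite (fibre (forgetPt k kb aX) p) := by
  haveI := finite_stabilizer_twElt p
  let S := MulAction.stabilizer (SGA7.Pts kb G) p
  haveI : Finite (MulAction.orbitRel.Quotient S (fibre (forgetPt k kb aX) p)) := by
    refine Finite.of_injective (fun o => Quotient.liftOn' o
      (fun m => (Quotient.mk _ (m : FrobPair k aX k kb) :
        MulAction.orbitRel.Quotient (SGA7.Pts kb G) (FrobPair k aX k kb))) fun a b ⟨g, hg⟩ =>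
          Quotient.sound ⟨(g : SGA7.Pts kb G), congrArg Subtype.val hg⟩) fun o o' h => ?_
    induction o using Quotient.inductionOn' with
    | h a =>
    induction o' using Quotient.inductionOn' with
    | h b =>
    obtain ⟨g, hg⟩ := Quotient.exact h
    have hgS : g ∈ S := by
      show g • p = p
      have hb : forgetPt k kb aX (b : FrobPair k aX k kb) = p := b.2
      have ha : forgetPt k kb aX (a : FrobPair k aX k kb) = p := a.2
      nth_rw 1 [← hb]
      rw [← (forgetPt k kb aX).map_smul]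
      exact (congrArg _ hg).trans ha
    exact Quotient.sound ⟨⟨g, hgS⟩, Subtype.ext hg⟩
  haveI : ∀ o : MulAction.orbitRel.Quotient S (fibre (forgetPt k kb aX) p), Finite (MulAction.orbit S o.out) :=
    fun o => (Set.finite_range _).to_subtype
  exact Finite.of_equiv _ (MulAction.selfEquivSigmaOrbits S (fibre (forgetPt k kb aX) p)).symm

end Groth.Agent.ZH85.StackCount
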