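import Groth.Agent.ZH85.StackCount.SeqCount

/-! The map on continuous cohomology of a quotient by a connected subgroup over a finite field. -/

noncomputable section

set_option autoImplicit false
set_option backward.isDefEq.respectTransparency false
set_option backward.isDefEq.respectTransparency.types false

universe u

open CategoryTheory CategoryTheory.Limits MonoidalCategory CartesianMonoidalCategory MonObj AlgebraicGeometry GalTw

namespace Groth.Agent.ZH85.StackCount

variable {k : Type u} [Field k] [Finite k] {kb : Type u} [Field kb] [Algebra k kb] [IsAlgClosure k kb]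
variable {B : Over (Spec (CommRingCat.of k))} [GrpObj B] [LocallyOfFiniteType B.hom] [QuasiCompact B.hom]

/-- Every element is the Frobenius value of a continuous cocycle, for any group of finite type. -/
theorem exists_cocycle' (g : SGA7.Pts kb B) :
    ∃ z : GpH1.OneCocycleLC (kb ≃ₐ[k] kb) (SGA7.Pts kb B), z.1 (frobK k k kb) = g := by
  classical
  haveI := isAlgebraic_kb (k' := k) (kb := kb)
  obtain ⟨L, _, hlev⟩ := exists_level (k' := k) g
  obtain ⟨N₁, hN₁, hN₁'⟩ := exists_twPow_eq_one (k' := k) g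
  let n := Module.finrank k L
  have hn : 0 < n := Module.finrank_pos
  obtain ⟨F, _, hFN, hF⟩ := exists_fixedLevel (k := k) (k' := k) (kb := kb) (N₁ * n) (Nat.mul_pos hN₁ hn)
  obtain ⟨gF, hgF⟩ := hlev F (le_fixedLevel (k := k) (dvd_mul_left n N₁) hF)
  haveI := isGalois_level F ‹Finite k›
  haveI : Normal k F := IsGalois.to_normal
  haveI := epi_lres (k := k) F
  let N := N₁ * n
  let t : F ≃ₐ[k] F := frobLv k F
  let s : End (SGA7.pt (K := k) F) := galS k k F t
  let w : ℕ → (SGA7.pt (K := k) kb ⟶ B) := fun i => twPow (fs k k kb) g i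
  have hwN : w N = 1 := by
    show twPow (fs k k kb) g (N₁ * n) = 1
    suffices h : ∀ m, twPow (fs k k kb) g (N₁ * m) = 1 from h n
    intro m
    induction m with
    | zero => rw [Nat.mul_zero]; rfl
    | succ m ih => rw [Nat.mul_succ, twPow_add, ih, hN₁', MonObj.comp_one, _root_.mul_one]
  have hper : ∀ i, w (i % N) = w i := fun i => by
    have h : ∀ m r, w (r + N * m) = w r := fun m => by
      induction m with
      | zero => intro r; simp
      | succ m ih =>
          intro r
          rw [Nat.mul_succ, ← Nat.add_assoc, ← ih r]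
          show twPow _ _ _ = twPow _ _ _
          rw [twPow_add, show twPow (fs k k kb) g N = 1 from hwN, MonObj.comp_one, _root_.mul_one]
    conv_rhs => rw [← Nat.mod_add_div i N]
    exact (h _ _).symm
  let r : (kb ≃ₐ[k] kb) →* (F ≃ₐ[k] F) := AlgEquiv.restrictNormalHom F
  have hex : ∀ σ, ∃ i : ℕ, r σ = t ^ i := fun σ => by
    haveI : Finite F := Module.finite_of_finite k
    letI := Fintype.ofFinite k
    obtain ⟨i, hi⟩ := (FiniteField.bijective_frobeniusAlgEquivOfAlgebraic_pow k F).2 (r σ)
    exact ⟨i, hi.symm⟩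
  choose e he using hex
  have hmod : ∀ i j : ℕ, t ^ i = t ^ j → w i = w j := fun i j h => by
    have ho : orderOf t = N := by rw [← orderOf_inv]; exact (orderOf_frobLv F).trans hFN
    have h' : i % N = j % N := by
      have := pow_eq_pow_iff_modEq.1 h
      rwa [ho] at this
    rw [← hper i, ← hper j, h']
  have hres : ∀ (σ : kb ≃ₐ[k] kb), galS k k kb σ ≫ lres F = lres F ≫ galS k k F (r σ) := fun σ =>
    lres_galS F σ (r σ) fun x => (σ.restrictNormal_commutes F x).symm
  have hgal : ∀ i : ℕ, galS k k F (t ^ i) = s ^ i := fun i => by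
    induction i with
    | zero => rw [pow_zero, pow_zero, galS_one]; rfl
    | succ i ih => rw [pow_succ', galS_mul, ih, pow_succ, End.mul_def]
  have hwF : ∀ i, w i = lres F ≫ twPow s gF i := fun i => by
    show twPow _ _ _ = _
    rw [comp_twPow _ (fs_lres F), hgF]
  have hact : ∀ σ i, σ • w i = lres F ≫ galS k k F (r σ) ≫ twPow s gF i := fun σ i => by
    rw [smul_eq_galS, hwF, ← Category.assoc, hres, Category.assoc]
  refine ⟨⟨⟨fun σ => w (e σ), fun σ τ => ?_⟩, ?_⟩, ?_⟩
  · show w (e (σ * τ)) = w (e σ) * σ • w (e τ)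
    rw [hmod (e (σ * τ)) (e σ + e τ) (by rw [← he, map_mul, he, he, pow_add]), hact, he, hgal, hwF, hwF, twPow_add,
      MonObj.comp_mul]
  · rw [IsLocallyConstant.iff_exists_open]
    refine fun σ => ⟨(fun τ => σ⁻¹ * τ) ⁻¹' (F.fixingSubgroup : Set (kb ≃ₐ[k] kb)),
      (IntermediateField.fixingSubgroup_isOpen F).preimage (continuous_const_mul σ⁻¹), ?_, fun τ hτ => ?_⟩
    · simp
    · refine hmod _ _ ?_
      rw [← he, ← he]
      refine AlgEquiv.ext fun c => Subtype.ext ?_
      have := (IntermediateField.mem_fixingSubgroup_iff F _).1 hτ c c.2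
      have h1 : τ (c : kb) = σ c := by simpa using congrArg σ this
      exact (τ.restrictNormal_commutes F c).trans (h1.trans (σ.restrictNormal_commutes F c).symm)
  · show w (e (frobK k k kb)) = g
    rw [hmod (e (frobK k k kb)) 1 (by
      rw [← he, pow_one]
      refine AlgEquiv.ext fun c => Subtype.ext ?_
      refine ((frobK k k kb).restrictNormal_commutes F c).trans ?_
      letI := Fintype.ofFinite k
      show frobK k k kb (c : kb) = ((t c : F) : kb)
      rw [frobK_apply, Nat.card_eq_fintype_card]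
      simp [t, frobLv])]
    show g * (fs k k kb ≫ 1) = g
    rw [MonObj.comp_one, _root_.mul_one]

variable {A C : Over (Spec (CommRingCat.of k))} [GrpObj A] [GrpObj C] [Smooth B.hom] [Smooth C.hom]
  [LocallyOfFiniteType A.hom] [QuasiCompact A.hom]

variable (A B C) in
/-- The kernel as a closed irreducible set of points. -/
theorem exists_kernelSet (i : A ⟶ B) (π : B ⟶ C) [IsMonHom i] [IsMonHom π]
    (hex : NonAbH1.IsExactSeq Scheme.fppfPrecoverage i π) [ConnectedSpace A.left] :
    ∃ W : Set (bX kb B).left, IsClosed W ∧ IsIrreducible W ∧ ∀ b : SGA7.Pts kb B, b ∈ ptsIn W ↔ b ≫ π = 1 := by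
  haveI : IsAlgClosed kb := IsAlgClosure.isAlgClosed k
  let P := SGA7.pt (K := k) kb
  haveI : IsSeparated C.hom := NonAbLib.isSeparated_grp_field C
  haveI := isClosedImmersion_left hex
  haveI := irreducibleSpace_bX (kb := kb) A
  let iP : bX kb A ⟶ bX kb B := i ▷ P
  haveI : IsClosedImmersion iP.left := MorphismProperty.of_isPullback
    ((IsPullback.of_bot (h₁₁ := fst A P) (v₁₁ := iP) (v₁₂ := i) (h₂₁ := fst B P) (by
      show IsPullback (fst A P) ((i ▷ P) ≫ snd B P) (i ≫ toUnit B) (toUnit P)
      rw [whiskerRight_snd, toUnit_unique (i ≫ toUnit B) (toUnit A)]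
      exact AlgSt.isPullback_fst_snd A P) (whiskerRight_fst _ _).symm (AlgSt.isPullback_fst_snd B P)).map
        (Over.forget (Spec (CommRingCat.of k)))) ‹IsClosedImmersion i.left›
  have hiP : ∀ a : SGA7.Pts kb A, iP.left (cpt a) = cpt (a ≫ i) := fun a => by
    rw [cpt_map iP (whiskerRight_snd _ _) a]
    simp [iP, P]
  refine ⟨Set.range iP.left, iP.left.isClosedEmbedding.isClosed_range, ?_, fun b => ⟨?_, fun h => ?_⟩⟩
  · rw [← Set.image_univ]
    exact (IrreducibleSpace.isIrreducible_univ _).image _ iP.left.continuous.continuousOn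
  · rintro ⟨x, hx⟩
    have hxc : IsClosed ({x} : Set (bX kb A).left) := by
      have h := (isClosed_cpt b).preimage iP.left.continuous
      rwa [← hx, ← Set.image_singleton, iP.left.isClosedEmbedding.injective.preimage_image] at h
    obtain ⟨a, rfl⟩ := exists_cpt hxc
    rw [← cpt_injective ((hiP a).symm.trans hx)]
    exact exact_zero hex a
  · obtain ⟨a, rfl⟩ := exact_ker hex h
    exact ⟨cpt a, hiP a⟩

variable (A B C) in
/-- Cohomology of a quotient by a connected subgroup. -/
theorem h1lc_bijective (i : A ⟶ B) (π : B ⟶ C) [IsMonHom i] [IsMonHom π]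
    (hex : NonAbH1.IsExactSeq Scheme.fppfPrecoverage i π) [ConnectedSpace A.left] :
    Function.Bijective (GalTw.H1lcMap (GalTw.ptsMap (K := kb) π) (GalTw.ptsMap_smul (K := kb) π)) := by
  haveI : IsAlgClosed kb := IsAlgClosure.isAlgClosed k
  refine ⟨fun u v huv => ?_, fun u => ?_⟩
  · induction u using Quotient.inductionOn with
    | h a =>
    induction v using Quotient.inductionOn with
    | h b =>
    have h' := (GpH1.OneCocycleLC.cl_eq_cl_iff _ _).1 huv
    obtain ⟨x, hx⟩ := (cohomologous_iff _ _).1 h'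
    obtain ⟨b₀, hb₀⟩ := exact_surj hex x
    let P := SGA7.pt (K := k) kb
    let ga := a.1 (frobK k k kb)
    let g' := b₀ * b.1 (frobK k k kb) * (frobK k k kb • b₀)⁻¹
    have hπ : g' ≫ π = ga ≫ π := by
      show (b₀ * _ * _) ≫ π = _
      rw [MonObj.mul_comp, MonObj.mul_comp, GrpObj.inv_comp, hb₀, ← ptsMap_apply kb π (frobK k k kb • b₀),
        ptsMap_smul, ptsMap_apply, hb₀]
      exact hx
    obtain ⟨W, hW, hirr, hpts⟩ := exists_kernelSet (kb := kb) B A C i π hex
    obtain ⟨h, hh, hh'⟩ := lang (G := B) hW hirr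
      (fun p hp q hq => (hpts _).2 (by rw [MonObj.mul_comp, (hpts p).1 hp, (hpts q).1 hq, _root_.mul_one]))
      (fun p hp => (hpts _).2 (by rw [GrpObj.inv_comp, (hpts p).1 hp, inv_one]))
      g' (fun p hp => (hpts _).2 (by
        rw [MonObj.mul_comp, MonObj.mul_comp, GrpObj.inv_comp, Category.assoc, (hpts p).1 hp, MonObj.comp_one,
          _root_.mul_one, mul_inv_cancel]))
      (fun w => finite_twFixed (k' := k) w) (a := ga * g'⁻¹) ((hpts _).2 (by
        rw [MonObj.mul_comp, GrpObj.inv_comp, hπ, mul_inv_cancel]))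
    refine Quotient.sound ((cohomologous_iff _ _).2 ⟨h * b₀, ?_⟩)
    rw [smul_mul', mul_inv_rev, frobK_smul h]
    rw [inv_mul_cancel_right] at hh'
    calc _ = h * g' * (fs k k kb ≫ h)⁻¹ := by simp only [g', _root_.mul_assoc]
      _ = _ := hh'
  · induction u using Quotient.inductionOn with
    | h c =>
    obtain ⟨b₀, hb₀⟩ := exact_surj hex (c.1 (frobK k k kb))
    obtain ⟨z, hz⟩ := exists_cocycle' b₀
    refine ⟨z.cl, ?_⟩
    rw [H1lcMap_cl]
    refine (GpH1.OneCocycleLC.cl_eq_cl_iff _ _).2 ((cohomologous_iff _ _).2 ⟨1, ?_⟩)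
    show 1 * c.1 (frobK k k kb) * (frobK k k kb • 1)⁻¹ = z.1 (frobK k k kb) ≫ π
    rw [smul_one, inv_one, _root_.mul_one, _root_.one_mul, hz, hb₀]

end Groth.Agent.ZH85.StackCount
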