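import Groth.Agent.ZH85.StackCount.ExactSeq
import Groth.Agent.ZH85.StackCount.Classes

/-! Counting twisted fixed points in a short exact sequence with connected kernel. -/

noncomputable section

set_option autoImplicit false
set_option backward.isDefEq.respectTransparency false
set_option backward.isDefEq.respectTransparency.types false

universe u

open CategoryTheory CategoryTheory.Limits MonoidalCategory CartesianMonoidalCategory MonObj AlgebraicGeometry GalTw

namespace Groth.Agent.ZH85.StackCount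

variable {k : Type u} [Field k] [Finite k] {kb : Type u} [Field kb] [Algebra k kb] [IsAlgClosure k kb]

/-- Rational points of a twist through an action, as fixed points. -/
def actFixedEquiv {G X Y : Over (Spec (CommRingCat.of k))} [GrpObj G] {a : AlgGrp.Action G X}
    (z : GpH1.OneCocycle (kb ≃ₐ[k] kb) (SGA7.Pts kb G)) (φ : bcK kb Y ≅ bcK kb X)
    (hφ : ∀ σ : kb ≃ₐ[k] kb, (cocycle φ σ).hom = actK kb a (z σ)) :
    SGA7.Pts k Y ≃ {x : SGA7.Pts kb X // lift (z (frobK k k kb)) (fs k k kb ≫ x) ≫ a.act = x} :=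
  (fixedEquiv k k kb Y).trans ((ptsEquiv φ).subtypeEquiv fun y => by
    rw [← frobK_smul, ← frobK_smul, ← ptsEquiv_smul_act φ _ _ (hφ _) y]
    exact (ptsEquiv φ).injective.eq_iff.symm)

/-- Rational points of an inner twist, as fixed points. -/
def innEquiv {G Y : Over (Spec (CommRingCat.of k))} [GrpObj G]
    (z : GpH1.OneCocycle (kb ≃ₐ[k] kb) (SGA7.Pts kb G)) (φ : bcK kb Y ≅ bcK kb G)
    (hφ : ∀ σ : kb ≃ₐ[k] kb, (cocycle φ σ).hom = innK kb (z σ)) :
    SGA7.Pts k Y ≃
      {x : SGA7.Pts kb G // z (frobK k k kb) * (fs k k kb ≫ x) * (z (frobK k k kb))⁻¹ = x} :=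
  (fixedEquiv k k kb Y).trans ((ptsEquiv φ).subtypeEquiv fun y => by
    rw [← frobK_smul, ← frobK_smul, ← ptsEquiv_smul_inn φ _ _ (hφ _) y]
    exact (ptsEquiv φ).injective.eq_iff.symm)

/-- The twisted fixed points of a short exact sequence with connected kernel. -/
theorem card_twFixed_mul (A B C : Over (Spec (CommRingCat.of k))) [GrpObj A] [GrpObj B] [GrpObj C]
    [LocallyOfFiniteType A.hom] [QuasiCompact A.hom] [LocallyOfFiniteType B.hom] [QuasiCompact B.hom]
    (i : A ⟶ B) (π : B ⟶ C) [IsMonHom i] [IsMonHom π]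
    (hex : NonAbH1.IsExactSeq Scheme.fppfPrecoverage i π) [ConnectedSpace A.left]
    (c : AlgGrp.Action B A) (hc : c.act ≫ i = fst B A * (snd B A ≫ i) * (fst B A)⁻¹)
    (g : SGA7.Pts kb B) :
    Nat.card {b : SGA7.Pts kb B // g * (fs k k kb ≫ b) * g⁻¹ = b} =
      Nat.card {a : SGA7.Pts kb A // lift g (fs k k kb ≫ a) ≫ c.act = a} *
        Nat.card {x : SGA7.Pts kb C // (g ≫ π) * (fs k k kb ≫ x) * (g ≫ π)⁻¹ = x} := by
  haveI : IsAlgClosed kb := IsAlgClosure.isAlgClosed k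
  let P := SGA7.pt (K := k) kb
  have hci : ∀ (b : SGA7.Pts kb B) (a : SGA7.Pts kb A),
      (lift b a ≫ c.act) ≫ i = b * (a ≫ i) * b⁻¹ := fun b a => by
    rw [Category.assoc, hc]
    simp [MonObj.comp_mul, GrpObj.comp_inv]
  have htwi : ∀ a : SGA7.Pts kb A,
      (lift g (fs k k kb ≫ a) ≫ c.act) ≫ i = g * (fs k k kb ≫ a ≫ i) * g⁻¹ := fun a => by
    rw [hci, Category.assoc]
  haveI : IsSeparated C.hom := NonAbLib.isSeparated_grp_field C
  haveI := isClosedImmersion_left hex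
  haveI := irreducibleSpace_bX (kb := kb) A
  let iP : bX kb A ⟶ bX kb B := i ▷ P
  haveI : IsClosedImmersion iP.left := MorphismProperty.of_isPullback
    ((IsPullback.of_bot (h₁₁ := fst A P) (v₁₁ := iP) (v₁₂ := i) (h₂₁ := fst B P) (by
      show IsPullback (fst A P) ((i ▷ P) ≫ snd B P) (i ≫ toUnit B) (toUnit P)
      rw [whiskerRight_snd, toUnit_unique (i ≫ toUnit B) (toUnit A)]
      exact AlgSt.isPullback_fst_snd A P) (whiskerRight_fst _ _).symm (AlgSt.isPullback_fst_snd B P)).map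
        (Over.forget (Spec (CommRingCat.of k)))) ‹IsClosedImmersion i.left›
  have hiP : ∀ a : SGA7.Pts kb A, iP.left (cpt a) = cpt (a ≫ i) := fun a => by
    rw [cpt_map iP (whiskerRight_snd _ _) a]
    simp [iP, P]
  let W : Set (bX kb B).left := Set.range iP.left
  have hW : IsClosed W := iP.left.isClosedEmbedding.isClosed_range
  have hirr : IsIrreducible W := by
    rw [show W = iP.left '' Set.univ from Set.image_univ.symm]
    exact (IrreducibleSpace.isIrreducible_univ _).image _ iP.left.continuous.continuousOn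
  have hpts : ∀ b : SGA7.Pts kb B, b ∈ ptsIn W ↔ ∃ a : SGA7.Pts kb A, a ≫ i = b := fun b => by
    constructor
    · rintro ⟨x, hx⟩
      have hxc : IsClosed ({x} : Set (bX kb A).left) := by
        have h := (isClosed_cpt b).preimage iP.left.continuous
        rwa [← hx, ← Set.image_singleton, iP.left.isClosedEmbedding.injective.preimage_image] at h
      obtain ⟨a, rfl⟩ := exists_cpt hxc
      exact ⟨a, cpt_injective ((hiP a).symm.trans hx)⟩
    · rintro ⟨a, rfl⟩
      exact ⟨cpt a, hiP a⟩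
  haveI hfinB := finite_twFixed (k' := k) g
  let Bf : Subgroup (SGA7.Pts kb B) :=
    { carrier := {b | g * (fs k k kb ≫ b) * g⁻¹ = b}
      one_mem' := by
        show g * (fs k k kb ≫ 1) * g⁻¹ = 1
        rw [MonObj.comp_one, _root_.mul_one, mul_inv_cancel]
      mul_mem' := fun {x y} (hx : _ = x) (hy : _ = y) => by
        show g * (fs k k kb ≫ (x * y)) * g⁻¹ = x * y
        conv_rhs => rw [← hx, ← hy]
        rw [MonObj.comp_mul]
        group
      inv_mem' := fun {x} (hx : _ = x) => by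
        show g * (fs k k kb ≫ x⁻¹) * g⁻¹ = x⁻¹
        conv_rhs => rw [← hx]
        rw [GrpObj.comp_inv]
        group }
  haveI : Finite Bf := Finite.of_injective (fun b => (⟨b.1, b.2⟩ :
    {h : SGA7.pt (K := k) kb ⟶ B // g * (fs k k kb ≫ h) * g⁻¹ = h})) fun a b h => Subtype.ext congr(Subtype.val $h)
  let πp : Bf →* SGA7.Pts kb C := (ptsMap (K := kb) π).comp Bf.subtype
  have hrange : ∀ x, x ∈ πp.range ↔ (g ≫ π) * (fs k k kb ≫ x) * (g ≫ π)⁻¹ = x := by
    intro x
    constructor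
    · rintro ⟨⟨b, hb⟩, rfl⟩
      show (g ≫ π) * (fs k k kb ≫ b ≫ π) * (g ≫ π)⁻¹ = b ≫ π
      conv_rhs => rw [← (hb : g * (fs k k kb ≫ b) * g⁻¹ = b)]
      rw [MonObj.mul_comp, MonObj.mul_comp, GrpObj.inv_comp, Category.assoc]
    · intro hx
      obtain ⟨b, hb⟩ := exact_surj hex x
      let b' := g * (fs k k kb ≫ b) * g⁻¹
      have hb' : b' ≫ π = x := by
        rw [MonObj.mul_comp, MonObj.mul_comp, GrpObj.inv_comp, Category.assoc, hb, hx]
      obtain ⟨a₀, ha₀⟩ := exact_ker hex (b := b * b'⁻¹) (by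
        rw [MonObj.mul_comp, GrpObj.inv_comp, hb, hb', mul_inv_cancel])
      obtain ⟨h, hh, hh'⟩ := lang (G := B) hW hirr
        (fun p hp q hq => by
          obtain ⟨u, rfl⟩ := (hpts p).1 hp
          obtain ⟨v, rfl⟩ := (hpts q).1 hq
          exact (hpts _).2 ⟨u * v, MonObj.mul_comp u v i⟩)
        (fun p hp => by
          obtain ⟨u, rfl⟩ := (hpts p).1 hp
          exact (hpts _).2 ⟨u⁻¹, GrpObj.inv_comp u i⟩)
        g (fun p hp => by
          obtain ⟨u, rfl⟩ := (hpts p).1 hp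
          exact (hpts _).2 ⟨_, htwi u⟩)
        (fun w => finite_twFixed (k' := k) w) (a := b * b'⁻¹) ((hpts _).2 ⟨a₀, ha₀⟩)
      obtain ⟨u, hu⟩ := (hpts h).1 hh
      have hfix : g * (fs k k kb ≫ (h⁻¹ * b)) * g⁻¹ = h⁻¹ * b := by
        have e : h * g * (fs k k kb ≫ h)⁻¹ * g⁻¹ = b * b'⁻¹ := by rw [hh', mul_inv_cancel_right]
        have e2 : h⁻¹ * b = g * (fs k k kb ≫ h)⁻¹ * g⁻¹ * b' := by
          calc h⁻¹ * b = h⁻¹ * (b * b'⁻¹) * b' := by group
            _ = _ := by rw [← e]; group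
        rw [MonObj.comp_mul, GrpObj.comp_inv, e2]
        show g * ((fs k k kb ≫ h)⁻¹ * (fs k k kb ≫ b)) * g⁻¹ =
          g * (fs k k kb ≫ h)⁻¹ * g⁻¹ * (g * (fs k k kb ≫ b) * g⁻¹)
        group
      refine ⟨⟨h⁻¹ * b, hfix⟩, ?_⟩
      show (h⁻¹ * b) ≫ π = x
      rw [MonObj.mul_comp, GrpObj.inv_comp, ← hu, exact_zero hex, inv_one, _root_.one_mul, hb]
  let eK : {a : SGA7.Pts kb A // lift g (fs k k kb ≫ a) ≫ c.act = a} ≃ πp.ker := by
    refine Equiv.ofBijective (fun a => ⟨⟨a.1 ≫ i, ?_⟩, exact_zero hex a.1⟩) ⟨fun a a' h => ?_, ?_⟩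
    · show g * (fs k k kb ≫ a.1 ≫ i) * g⁻¹ = a.1 ≫ i
      rw [← htwi, a.2]
    · exact Subtype.ext (exact_inj hex congr(Subtype.val (Subtype.val $h)))
    · rintro ⟨⟨b, hb⟩, hbk⟩
      obtain ⟨a, rfl⟩ := exact_ker hex (b := b) hbk
      exact ⟨⟨a, exact_inj hex ((htwi a).trans hb)⟩, rfl⟩
  have hcard := Subgroup.card_eq_card_quotient_mul_card_subgroup πp.ker
  rw [Nat.card_congr (QuotientGroup.quotientKerEquivRange πp).toEquiv] at hcard
  rw [show Nat.card {b : SGA7.Pts kb B // g * (fs k k kb ≫ b) * g⁻¹ = b} = Nat.card Bf from rfl, hcard,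
    Nat.card_congr eK.symm, Nat.card_congr (Equiv.subtypeEquivRight hrange), Nat.mul_comm]

end Groth.Agent.ZH85.StackCount
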