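import Groth.Agent.ZH85.StackCount.LangTop
import Groth.Agent.ZH85.StackCount.Rational
import Groth.Agent.NonAbLib.TorsorSch
import Groth.Agent.GrpSchLib.IdentityComp

/-! Short exact sequences of smooth groups over a finite field on points of the closure. -/

noncomputable section

set_option autoImplicit false
set_option backward.isDefEq.respectTransparency false
set_option backward.isDefEq.respectTransparency.types false

universe u

open CategoryTheory CategoryTheory.Limits MonoidalCategory CartesianMonoidalCategory MonObj AlgebraicGeometry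

namespace Groth.Agent.ZH85.StackCount

variable {k : Type u} [Field k] {kb : Type u} [Field kb] [Algebra k kb]

/-- A connected group stays irreducible over the closure. -/
theorem irreducibleSpace_bX [IsAlgClosed kb] (A : Over (Spec (CommRingCat.of k))) [GrpObj A]
    [LocallyOfFiniteType A.hom] [QuasiCompact A.hom] [ConnectedSpace A.left] :
    IrreducibleSpace (bX kb A).left := by
  obtain ⟨G₀, _, incl, _, hci, -, hr, hgi, -⟩ := GrpSchLib.exists_identityComponent (G := A)
  haveI := hgi
  haveI := hci
  let P := SGA7.pt (K := k) kb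
  haveI : Surjective incl.left := ⟨fun x => by
    have : x ∈ Set.range incl.left := by
      rw [hr, PreconnectedSpace.connectedComponent_eq_univ]; trivial
    exact this⟩
  haveI : GeometricallyIrreducible (snd G₀ P).left := MorphismProperty.of_isPullback
    ((AlgSt.isPullback_fst_snd G₀ P).map (Over.forget (Spec (CommRingCat.of k)))) hgi
  haveI : Subsingleton ↥P.left := inferInstanceAs (Subsingleton (PrimeSpectrum kb))
  haveI : IrreducibleSpace ↥P.left := inferInstanceAs (IrreducibleSpace (PrimeSpectrum kb))
  haveI : IrreducibleSpace (G₀ ⊗ P).left := GeometricallyIrreducible.irreducibleSpace (snd G₀ P).left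
    fun s _ => Subsingleton.set_cases (p := IsOpen) isOpen_empty isOpen_univ _
  have hsq : IsPullback (fst G₀ P) (incl ▷ P) incl (fst A P) :=
    IsPullback.of_bot (by
      rw [whiskerRight_snd, toUnit_unique (incl ≫ toUnit A) (toUnit G₀)]
      exact AlgSt.isPullback_fst_snd G₀ P) (whiskerRight_fst _ _).symm (AlgSt.isPullback_fst_snd A P)
  haveI : Surjective (incl ▷ P).left :=
    MorphismProperty.of_isPullback (hsq.map (Over.forget (Spec (CommRingCat.of k)))) ‹Surjective incl.left›
  refine @IrreducibleSpace.mk _ _ ⟨?_⟩ ⟨(incl ▷ P).left (Classical.arbitrary _)⟩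
  rw [← Set.image_univ_of_surjective (incl ▷ P).left.surjective]
  exact ((IrreducibleSpace.isIrreducible_univ _).image _ (incl ▷ P).left.continuous.continuousOn).isPreirreducible

/-- A nonempty scheme of finite type over an algebraically closed field has a rational point. -/
theorem exists_section_field [IsAlgClosed kb] {W : Scheme.{u}} (f : W ⟶ Spec (CommRingCat.of kb))
    [LocallyOfFiniteType f] [Nonempty W] : ∃ s : Spec (CommRingCat.of kb) ⟶ W, s ≫ f = 𝟙 _ := by
  haveI : JacobsonSpace W := LocallyOfFiniteType.jacobsonSpace f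
  obtain ⟨c, -, hc⟩ := nonempty_inter_closedPoints (Set.univ_nonempty (α := W)) isClosed_univ.isLocallyClosed
  exact ⟨pointOfClosedPoint f c hc, pointOfClosedPoint_comp f c hc⟩

variable {A B C : Over (Spec (CommRingCat.of k))} [GrpObj A] [GrpObj B] [GrpObj C] {i : A ⟶ B} {π : B ⟶ C}
  (hex : NonAbH1.IsExactSeq Scheme.fppfPrecoverage i π)

include hex in
theorem exact_inj {V : Over (Spec (CommRingCat.of k))} {a a' : V ⟶ A} (h : a ≫ i = a' ≫ i) : a = a' := by
  have h2 : lift (1 : V ⟶ B) a = lift 1 a' := hex.2.2.2.1.hom_ext (by simp) (by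
    rw [lift_whiskerLeft_assoc, lift_whiskerLeft_assoc, h])
  simpa using congrArg (· ≫ snd B A) h2

include hex in
theorem exact_ker {V : Over (Spec (CommRingCat.of k))} {b : V ⟶ B} (h : b ≫ π = 1) : ∃ a : V ⟶ A, a ≫ i = b := by
  haveI := hex.2.1
  let w := hex.2.2.2.1.lift (1 : V ⟶ B) b (by rw [h, MonObj.one_comp])
  refine ⟨w ≫ snd B A, ?_⟩
  have h1 : w = lift 1 (w ≫ snd B A) := by
    refine CartesianMonoidalCategory.hom_ext _ _ ?_ (by simp)
    rw [lift_fst]
    exact hex.2.2.2.1.lift_fst _ _ _
  have h2 : w ≫ (B ◁ i) ≫ μ[B] = b := hex.2.2.2.1.lift_snd _ _ _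
  rw [h1, lift_whiskerLeft_assoc] at h2
  rw [← h2, ← Hom.mul_def, _root_.one_mul]

include hex in
theorem exact_zero {V : Over (Spec (CommRingCat.of k))} (a : V ⟶ A) : (a ≫ i) ≫ π = 1 := by
  rw [Category.assoc, hex.2.2.1, MonObj.comp_one]

include hex in
theorem isClosedImmersion_left [IsSeparated C.hom] : IsClosedImmersion i.left := by
  have hpb : IsPullback i (toUnit A) π η[C] := by
    have hc : ∀ c : PullbackCone π η[C], c.fst ≫ π = 1 := fun c => by
      rw [c.condition, toUnit_unique c.snd (toUnit c.pt), Hom.one_def]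
    refine IsPullback.mk ⟨by rw [hex.2.2.1, Hom.one_def]⟩ ⟨PullbackCone.IsLimit.mk _
      (fun c => (exact_ker hex (b := c.fst) (hc c)).choose) ?_ ?_ ?_⟩
    · intro c
      exact (exact_ker hex (b := c.fst) (hc c)).choose_spec
    · intro c
      exact toUnit_unique _ _
    · intro c m hm _
      exact exact_inj hex (hm.trans (exact_ker hex (b := c.fst) (hc c)).choose_spec.symm)
  haveI : IsClosedImmersion (η[C]).left := by
    haveI : IsClosedImmersion ((η[C]).left ≫ C.hom) := by
      rw [Over.w (η[C])]; exact inferInstanceAs (IsClosedImmersion (𝟙 (Spec (CommRingCat.of k))))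
    exact IsClosedImmersion.of_comp (η[C]).left C.hom
  exact MorphismProperty.of_isPullback (hpb.map (Over.forget (Spec (CommRingCat.of k)))).flip ‹_›

include hex in
theorem exact_surj [IsAlgClosed kb] (c : SGA7.pt (K := k) kb ⟶ C) :
    ∃ b : SGA7.pt (K := k) kb ⟶ B, b ≫ π = c := by
  obtain ⟨U, f, hsurj, hfl, hfp, s, hs⟩ := NonAbLib.exists_single_fppf hex.2.2.2.2
  haveI := hfp
  haveI := hsurj
  haveI : Surjective (pullback.snd f c.left) := MorphismProperty.pullback_snd _ _ hsurj
  haveI : Nonempty ↥(pullback f c.left) := ⟨((pullback.snd f c.left).surjective (IsLocalRing.closedPoint kb)).choose⟩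
  obtain ⟨l, hl⟩ := exists_section_field (pullback.snd f c.left)
  let b0 := l ≫ pullback.fst f c.left ≫ s
  have hb0 : b0 ≫ π.left = c.left := by
    simp only [b0, Category.assoc]
    rw [show s ≫ π.left = f from hs, pullback.condition, reassoc_of% hl]
  refine ⟨Over.homMk b0 ?_, Over.OverMorphism.ext hb0⟩
  rw [← Over.w π, ← Category.assoc, hb0, Over.w c]

end Groth.Agent.ZH85.StackCount
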