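import Groth.Agent.ZH85.StackCount.Mass
import Mathlib.GroupTheory.QuotientGroup.Basic

/-! Masses through representatives of the image and through a normal subgroup of finite index. -/

universe u v w

open MulAction

namespace Groth.Agent.ZH85.StackCount

variable {G : Type u} [Group G] {M : Type v} [MulAction G M]

/-- A finite action of a group with finite stabilisers, one orbit: the mass. -/
theorem mass_eq_inv_of_pretransitive [MulAction.IsPretransitive G M] (m : M) :
    mass G M = (Nat.card (stabilizer G m) : ℚ)⁻¹ := by
  haveI : Subsingleton (orbitRel.Quotient G M) := ⟨fun a b => by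
    induction a using Quotient.inductionOn with
    | h a => induction b using Quotient.inductionOn with
      | h b => exact Quotient.sound (MulAction.exists_smul_eq G b a)⟩
  rw [mass, finsum_eq_single _ (Quotient.mk (orbitRel G M) m) fun o ho => absurd (Subsingleton.elim o _) ho,
    card_stabilizer_out]

section Reps

variable {N : Type w} [MulAction G N] (f : M →[G] N)

/-- Translating the base point does not change the mass of a fibre. -/
theorem mass_fibre_smul (g : G) (n : N) :
    mass (stabilizer G (g • n)) (fibre f (g • n)) = mass (stabilizer G n) (fibre f n) := by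
  let eG : stabilizer G n ≃* stabilizer G (g • n) :=
    { toFun := fun s => ⟨g * s * g⁻¹, by
        rw [mem_stabilizer_iff, smul_smul, inv_mul_cancel_right, mul_smul, s.2]⟩
      invFun := fun s => ⟨g⁻¹ * s * g, by
        rw [mem_stabilizer_iff, mul_smul, mul_smul, s.2, inv_smul_smul]⟩
      left_inv := fun s => Subtype.ext (by simp [mul_assoc])
      right_inv := fun s => Subtype.ext (by simp [mul_assoc])
      map_mul' := fun s t => Subtype.ext (by simp [mul_assoc]) }
  let eM : fibre f n ≃ fibre f (g • n) :=
    { toFun := fun m => ⟨g • m.1, show f (g • m.1) = g • n by rw [f.map_smul, show f m.1 = n from m.2]⟩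
      invFun := fun m => ⟨g⁻¹ • m.1, show f (g⁻¹ • m.1) = n by
        rw [f.map_smul, show f m.1 = g • n from m.2, inv_smul_smul]⟩
      left_inv := fun m => Subtype.ext (inv_smul_smul g m.1)
      right_inv := fun m => Subtype.ext (smul_inv_smul g m.1) }
  refine (mass_congr eG eM fun s m => Subtype.ext ?_).symm
  show g • ((s : G) • m.1) = (g * s * g⁻¹) • (g • m.1)
  rw [smul_smul, smul_smul, inv_mul_cancel_right]

/-- The image of an equivariant map. -/
def rangeSub : SubMulAction G N where
  carrier := Set.range f
  smul_mem' := by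
    rintro g _ ⟨m, rfl⟩
    exact ⟨g • m, f.map_smul g m⟩

/-- The mass as a sum over representatives of the orbits in the image. -/
theorem mass_eq_sum [Finite (orbitRel.Quotient G M)] {J : Type*} [Fintype J] (n : J → N)
    (hn : ∀ j, n j ∈ Set.range f) (hinj : ∀ i j, (∃ g : G, g • n i = n j) → i = j)
    (hsurj : ∀ m : M, ∃ j, ∃ g : G, g • n j = f m) :
    mass G M = ∑ j, mass (stabilizer G (n j)) (fibre f (n j)) := by
  classical
  let f' : M →[G] rangeSub f := ⟨fun m => ⟨f m, m, rfl⟩, fun g m => Subtype.ext (f.map_smul g m)⟩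
  let e : J → orbitRel.Quotient G (rangeSub f) := fun j => Quotient.mk _ ⟨n j, hn j⟩
  have he : Function.Bijective e := by
    refine ⟨fun i j h => ?_, fun o => ?_⟩
    · obtain ⟨g, hg⟩ := Quotient.exact h
      exact (hinj j i ⟨g, congrArg Subtype.val hg⟩).symm
    · induction o using Quotient.inductionOn with
      | h x =>
        obtain ⟨m, hm⟩ := x.2
        obtain ⟨j, g, hg⟩ := hsurj m
        exact ⟨j, (Quotient.sound (show orbitRel G (rangeSub f) x ⟨n j, hn j⟩ from
          ⟨g, Subtype.ext (hg.trans hm)⟩)).symm⟩
  haveI : Finite (orbitRel.Quotient G (rangeSub f)) := Finite.of_surjective e he.2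
  rw [mass_fibres f', ← finsum_eq_of_bijective e he fun j => rfl, finsum_eq_sum_of_fintype]
  refine Finset.sum_congr rfl fun j _ => ?_
  obtain ⟨g, hg⟩ := (Quotient.mk_out (s := orbitRel G (rangeSub f)) (⟨n j, hn j⟩ : rangeSub f) :
    orbitRel G (rangeSub f) _ ⟨n j, hn j⟩)
  have hg' : g • (⟨n j, hn j⟩ : rangeSub f) = (e j).out := hg
  rw [← hg', mass_fibre_smul]
  let eG : stabilizer G (⟨n j, hn j⟩ : rangeSub f) ≃* stabilizer G (n j) :=
    MulEquiv.subgroupCongr (Subgroup.ext fun s =>
      ⟨fun h => congrArg Subtype.val h, fun h => Subtype.ext h⟩)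
  let eM : fibre f' ⟨n j, hn j⟩ ≃ fibre f (n j) :=
    { toFun := fun m => ⟨m.1, congrArg Subtype.val (show f' m.1 = ⟨n j, hn j⟩ from m.2)⟩
      invFun := fun m => ⟨m.1, show f' m.1 = ⟨n j, hn j⟩ from Subtype.ext m.2⟩
      left_inv := fun m => rfl
      right_inv := fun m => rfl }
  exact mass_congr eG eM fun s m => rfl

end Reps

section Normal

variable (S₀ : Subgroup G) [S₀.Normal]

/-- The induced action on the orbits of a normal subgroup. -/
def smulOrbits (g : G) : orbitRel.Quotient S₀ M → orbitRel.Quotient S₀ M :=
  Quotient.map' (g • ·) fun a b => by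
    rintro ⟨s, rfl⟩
    refine ⟨⟨g * s * g⁻¹, Subgroup.Normal.conj_mem inferInstance _ s.2 g⟩, ?_⟩
    show (g * s * g⁻¹) • g • b = g • (s : G) • b
    rw [smul_smul, smul_smul, inv_mul_cancel_right]

instance orbitsAction : MulAction (G ⧸ S₀) (orbitRel.Quotient S₀ M) where
  smul q o := Quotient.liftOn' q (fun g => smulOrbits S₀ g o) fun a b h => by
    induction o using Quotient.inductionOn' with
    | h m =>
      refine Quotient.sound' ?_
      have h' : a * b⁻¹ ∈ S₀ := by
        have h1 : a⁻¹ * b ∈ S₀ := QuotientGroup.leftRel_apply.1 h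
        have := S₀.inv_mem (Subgroup.Normal.conj_mem inferInstance _ h1 a)
        simpa [mul_assoc] using this
      exact ⟨⟨a * b⁻¹, h'⟩, by show (a * b⁻¹) • b • m = a • m; rw [smul_smul, inv_mul_cancel_right]⟩
  one_smul o := by
    induction o using Quotient.inductionOn' with
    | h m => exact congrArg Quotient.mk'' (one_smul G m)
  mul_smul a b o := by
    induction a using Quotient.inductionOn' with
    | h a => induction b using Quotient.inductionOn' with
      | h b => induction o using Quotient.inductionOn' with
        | h m => exact congrArg Quotient.mk'' (mul_smul a b m)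

/-- An action through a finite index normal subgroup with stabilisers of constant order, whose orbits are as
many as the index, has mass the inverse of that order. -/
theorem mass_of_normal [Finite (G ⧸ S₀)] (c : ℕ) (hc : ∀ m : M, Nat.card (stabilizer S₀ m) = c)
    (hQ : Nat.card (orbitRel.Quotient S₀ M) = Nat.card (G ⧸ S₀)) : mass G M = (c : ℚ)⁻¹ := by
  classical
  haveI : Finite (orbitRel.Quotient S₀ M) := Nat.finite_of_card_ne_zero (by rw [hQ]; exact Nat.card_pos.ne')
  let e : orbitRel.Quotient G M → orbitRel.Quotient (G ⧸ S₀) (orbitRel.Quotient S₀ M) :=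
    Quotient.map' (fun m => Quotient.mk'' m) fun a b => by
      rintro ⟨g, rfl⟩
      exact ⟨(g : G ⧸ S₀), rfl⟩
  have he : Function.Bijective e := by
    refine ⟨fun a b h => ?_, fun o => ?_⟩
    · induction a using Quotient.inductionOn' with
      | h a => induction b using Quotient.inductionOn' with
        | h b =>
          obtain ⟨q, hq⟩ := Quotient.exact' h
          induction q using QuotientGroup.induction_on with
          | H g =>
            obtain ⟨s, hs⟩ := Quotient.exact' hq
            refine Quotient.sound' ⟨(s : G)⁻¹ * g, ?_⟩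
            show ((s : G)⁻¹ * g) • b = a
            rw [mul_smul, inv_smul_eq_iff]
            exact hs.symm
    · induction o using Quotient.inductionOn' with
      | h x => induction x using Quotient.inductionOn' with
        | h m => exact ⟨Quotient.mk'' m, rfl⟩
  haveI : Finite (orbitRel.Quotient G M) := Finite.of_injective e he.1
  have hstab : ∀ m : M, Nat.card (stabilizer G m) =
      c * Nat.card (stabilizer (G ⧸ S₀) (Quotient.mk'' m : orbitRel.Quotient S₀ M)) := by
    intro m
    let π : stabilizer G m →* G ⧸ S₀ := (QuotientGroup.mk' S₀).comp (stabilizer G m).subtype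
    have hr : π.range = stabilizer (G ⧸ S₀) (Quotient.mk'' m : orbitRel.Quotient S₀ M) := by
      ext q
      constructor
      · rintro ⟨s, rfl⟩
        exact congrArg Quotient.mk'' s.2
      · induction q using QuotientGroup.induction_on with
        | H g =>
          intro hg
          obtain ⟨s, hs⟩ := Quotient.exact' (mem_stabilizer_iff.1 hg)
          refine ⟨⟨(s : G)⁻¹ * g, by rw [mem_stabilizer_iff, mul_smul, inv_smul_eq_iff]; exact hs.symm⟩, ?_⟩
          refine (QuotientGroup.eq).2 ?_
          show ((s : G)⁻¹ * g)⁻¹ * g ∈ S₀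
          rw [mul_inv_rev, inv_inv, mul_assoc]
          have := Subgroup.Normal.conj_mem (inferInstance : S₀.Normal) _ s.2 g⁻¹
          rwa [inv_inv, mul_assoc] at this
    have hk : Nat.card π.ker = c := by
      rw [← hc m]
      exact Nat.card_congr
        { toFun := fun s => ⟨⟨s.1.1, (QuotientGroup.eq_one_iff _).1 s.2⟩, s.1.2⟩
          invFun := fun s => ⟨⟨s.1.1, s.2⟩, (QuotientGroup.eq_one_iff _).2 s.1.2⟩
          left_inv := fun s => rfl
          right_inv := fun s => rfl }
    rw [Subgroup.card_eq_card_quotient_mul_card_subgroup π.ker, hk,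
      Nat.card_congr (QuotientGroup.quotientKerEquivRange π).toEquiv, hr, mul_comm]
  haveI : Finite (orbitRel.Quotient (G ⧸ S₀) (orbitRel.Quotient S₀ M)) := Quotient.finite _
  have hterm : ∀ o : orbitRel.Quotient G M, (Nat.card (stabilizer G o.out) : ℚ)⁻¹ =
      (c : ℚ)⁻¹ * (Nat.card (stabilizer (G ⧸ S₀) (e o).out) : ℚ)⁻¹ := fun o => by
    induction o using Quotient.inductionOn' with
    | h m =>
      rw [show (Quotient.mk'' m : orbitRel.Quotient G M) = Quotient.mk (orbitRel G M) m from rfl,
        card_stabilizer_out, hstab m, Nat.cast_mul, mul_inv,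
        show e (Quotient.mk (orbitRel G M) m) = Quotient.mk _ (Quotient.mk'' m) from rfl, card_stabilizer_out]
  rw [mass, finsum_congr hterm, ← mul_finsum _ _]
  have h1 : ∑ᶠ o, (Nat.card (stabilizer (G ⧸ S₀) (e o).out) : ℚ)⁻¹ = mass (G ⧸ S₀) (orbitRel.Quotient S₀ M) :=
    finsum_eq_of_bijective e he fun _ => rfl
  rw [h1, mass_of_finite, hQ, div_self (Nat.cast_ne_zero.2 Nat.card_pos.ne'), mul_one]

end Normal

end Groth.Agent.ZH85.StackCount
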