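import Groth.Agent.ZH85.StackCount.SubKb
import Groth.Agent.ZH85.StackCount.MassSum
import Groth.Agent.ZH85.StackCount.Classes
import Groth.Agent.ZH85.StackCount.ExactSeq

/-! A connected unipotent subgroup defined over the ground field. -/

noncomputable section

set_option autoImplicit false
set_option backward.isDefEq.respectTransparency false
set_option backward.isDefEq.respectTransparency.types false

universe u

open CategoryTheory CategoryTheory.Limits MonoidalCategory CartesianMonoidalCategory MonObj AlgebraicGeometry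
open GalTw

namespace Groth.Agent.ZH85.StackCount

variable {k : Type u} [Field k] {kb : Type u} [Field kb] [Algebra k kb]

/-- The map on base changes. -/
abbrev bcMap (kb : Type u) [Field kb] [Algebra k kb] {U G : Over (Spec (CommRingCat.of k))} (i : U ⟶ G) :
    bcK kb U ⟶ bcK kb G := (Over.pullback (SGA7.pt (K := k) kb).hom).map i

theorem secOfPt_bcMap {U G : Over (Spec (CommRingCat.of k))} (i : U ⟶ G) (u : SGA7.Pts kb U) :
    secOfPt kb u ≫ bcMap kb i = secOfPt kb (u ≫ i) := by
  apply Over.OverMorphism.ext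
  refine pullback.hom_ext ?_ ?_
  · rw [secOfPt_left, pullback.lift_fst, Over.comp_left, Category.assoc]
    show (secOfPt kb u).left ≫ pullback.lift _ _ _ ≫ pullback.fst _ _ = _
    rw [pullback.lift_fst, ← Category.assoc, secOfPt_left, pullback.lift_fst]
    rfl
  · rw [secOfPt_left, pullback.lift_snd, Over.comp_left, Category.assoc]
    show (secOfPt kb u).left ≫ pullback.lift _ _ _ ≫ pullback.snd _ _ = _
    rw [pullback.lift_snd, secOfPt_left, pullback.lift_snd]

theorem isClosedImmersion_bcMap {U G : Over (Spec (CommRingCat.of k))} (i : U ⟶ G) [IsClosedImmersion i.left] :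
    IsClosedImmersion (bcMap kb i).left := by
  let f := (SGA7.pt (K := k) kb).hom
  have h : IsPullback (pullback.fst U.hom f) (bcMap kb i).left i.left (pullback.fst G.hom f) := by
    refine IsPullback.of_bot ?_ (pullback.lift_fst _ _ _).symm (IsPullback.of_hasPullback G.hom f)
    rw [show (bcMap kb i).left ≫ pullback.snd G.hom f = pullback.snd U.hom f from pullback.lift_snd _ _ _,
      Over.w i]
    exact IsPullback.of_hasPullback U.hom f
  exact MorphismProperty.of_isPullback h ‹IsClosedImmersion i.left›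

/-- The set over the closure of a closed subscheme over the ground field. -/
theorem mem_subSet_bcMap [IsAlgClosed kb] {U G : Over (Spec (CommRingCat.of k))} [LocallyOfFiniteType G.hom]
    (i : U ⟶ G) [IsClosedImmersion (bcMap kb i).left] (a : SGA7.Pts kb G) :
    a ∈ ptsIn (subSet (bcMap kb i)) ↔ ∃ u : SGA7.Pts kb U, u ≫ i = a := by
  rw [mem_subSet]
  constructor
  · rintro ⟨w, hw⟩
    refine ⟨toPt w, (secEquiv G).injective ?_⟩
    show secOfPt kb (toPt w ≫ i) = secOfPt kb a
    rw [← secOfPt_bcMap, secOfPt_toPt, hw]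
  · rintro ⟨u, rfl⟩
    exact ⟨secOfPt kb u, secOfPt_bcMap i u⟩

variable [IsAlgClosure k kb]

/-- The twisted fixed points of a normal connected unipotent subgroup. -/
theorem card_twFixed_sub [Finite k] {U G : Over (Spec (CommRingCat.of k))} [GrpObj U] [GrpObj G]
    [IsAffineHom G.hom] [LocallyOfFiniteType G.hom] [Smooth U.hom] [QuasiCompact U.hom] [ConnectedSpace U.left]
    (i : U ⟶ G) [IsMonHom i] [IsClosedImmersion i.left] (hn : AlgGrp.IsNormalHom i)
    (hU : Red.HasNoSubtorus kb (bcK kb U)) (d : ℕ) (hd : topologicalKrullDim ↥U.left = (d : WithBot ℕ∞))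
    (g : SGA7.Pts kb G) :
    Nat.card {a : SGA7.Pts kb G // (∃ u : SGA7.Pts kb U, u ≫ i = a) ∧ g * (fs k k kb ≫ a) * g⁻¹ = a} =
        Nat.card k ^ d ∧
      ∀ a : SGA7.Pts kb G, (∃ u : SGA7.Pts kb U, u ≫ i = a) →
        ∃ h : SGA7.Pts kb G, (∃ u : SGA7.Pts kb U, u ≫ i = h) ∧ h * g * (fs k k kb ≫ h)⁻¹ = a * g := by
  haveI : IsAlgClosed kb := IsAlgClosure.isAlgClosed k
  haveI := isClosedImmersion_bcMap (kb := kb) i
  haveI : IrreducibleSpace (bcK kb U).left := irreducibleSpace_bX U
  haveI : Smooth (bcK kb U).hom := MorphismProperty.pullback_snd _ _ ‹Smooth U.hom›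
  haveI : ConnectedSpace (bcK kb U).left := inferInstance
  haveI : IsMonHom (bcMap kb i) := inferInstanceAs (IsMonHom ((Over.pullback _).map i))
  haveI : Fact (ringChar k).Prime := ⟨CharP.char_is_prime k (ringChar k)⟩
  haveI : CharP kb (ringChar k) := charP_of_injective_algebraMap (algebraMap k kb).injective (ringChar k)
  have hst : ∀ a ∈ ptsIn (subSet (bcMap kb i)), g * (fs k k kb ≫ a) * g⁻¹ ∈ ptsIn (subSet (bcMap kb i)) := by
    intro a ha
    obtain ⟨u, rfl⟩ := (mem_subSet_bcMap i a).1 ha
    obtain ⟨n, hn'⟩ := hn _ g (fs k k kb ≫ u)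
    refine (mem_subSet_bcMap i _).2 ⟨n, ?_⟩
    rw [← hn', Category.assoc]
  have hdim : topologicalKrullDim ↥(subSet (bcMap kb i)) = (d : WithBot ℕ∞) := by
    haveI : Subsingleton ↥(Spec (CommRingCat.of k)) := FibDim.subsingleton_spec_field k
    haveI : Subsingleton ↥(SGA7.pt (K := k) kb).left := FibDim.subsingleton_spec_field kb
    haveI : Nonempty ↥(SGA7.pt (K := k) kb).left := ⟨IsLocalRing.closedPoint kb⟩
    rw [topologicalKrullDim_subSet, ← hd]
    exact FibDim.topologicalKrullDim_baseChange (IsPullback.of_hasPullback U.hom (SGA7.pt (K := k) kb).hom)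
  refine ⟨?_, fun a ha => ?_⟩
  · refine Eq.trans ?_ (card_twFixed_unipotent (isClosed_subSet _) (isIrreducible_subSet _) (one_mem_subSet _)
      (mul_mem_subSet _) (inv_mem_subSet _) g hst (exists_pow_of_subSet _ (ringChar k) hU) d hdim)
    exact Nat.card_congr (Equiv.subtypeEquivRight fun a => and_congr_left fun _ => (mem_subSet_bcMap i a).symm)
  · obtain ⟨h, hh, he⟩ := lang (isClosed_subSet _) (isIrreducible_subSet _) (mul_mem_subSet _) (inv_mem_subSet _)
      g hst (fun b => finite_twFixed (k' := k) b) ((mem_subSet_bcMap i a).2 ha)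
    exact ⟨h, (mem_subSet_bcMap i h).1 hh, he⟩

end Groth.Agent.ZH85.StackCount
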