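import Groth.Agent.ZH85.StackCount.Rational
import Groth.Prelude.Def_GalTw
import Mathlib.FieldTheory.KrullTopology

/-! Continuous cocycles of a finite field and their values at the Frobenius. -/

noncomputable section

set_option autoImplicit false
set_option backward.isDefEq.respectTransparency false
set_option backward.isDefEq.respectTransparency.types false

universe u

open CategoryTheory CategoryTheory.Limits MonoidalCategory CartesianMonoidalCategory MonObj AlgebraicGeometry GalTw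

namespace Groth.Agent.ZH85.StackCount

open Groth.Agent.GrpSchLib (act_mul act_one)
open Groth.Agent.EssDimLib (spMap spMap_comp')

variable {k : Type u} [Field k] [Finite k] {kb : Type u} [Field kb] [Algebra k kb] [IsAlgClosure k kb]
  {G : Over (Spec (CommRingCat.of k))} [GrpObj G]

omit [Finite k] [IsAlgClosure k kb] [GrpObj G] in
theorem galS_eq_specAut (σ : kb ≃ₐ[k] kb) : galS k k kb σ = SGA7.specAut σ := Over.OverMorphism.ext rfl

omit [Finite k] [IsAlgClosure k kb] [GrpObj G] in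
theorem smul_eq_galS {X : Over (Spec (CommRingCat.of k))} (σ : kb ≃ₐ[k] kb) (x : SGA7.Pts kb X) :
    σ • x = galS k k kb σ ≫ x := by rw [galS_eq_specAut]; rfl

omit [GrpObj G] in
theorem frobK_smul {X : Over (Spec (CommRingCat.of k))} (x : SGA7.Pts kb X) :
    frobK k k kb • x = fs k k kb ≫ x := smul_eq_galS _ _

omit [GrpObj G] in
/-- Automorphisms agreeing on a large enough level act equally on a point. -/
theorem exists_smul_eq {X : Over (Spec (CommRingCat.of k))} [LocallyOfFiniteType X.hom] (x : SGA7.Pts kb X) :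
    ∃ L : IntermediateField k kb, FiniteDimensional k L ∧ ∀ σ τ : kb ≃ₐ[k] kb,
      (∀ c : L, σ (c : kb) = τ (c : kb)) → σ • x = τ • x := by
  obtain ⟨L, hL, h⟩ := exists_level (k' := k) x
  obtain ⟨xL, hxL⟩ := h L le_rfl
  refine ⟨L, hL, fun σ τ hστ => ?_⟩
  rw [smul_eq_galS, smul_eq_galS, ← hxL, ← Category.assoc, ← Category.assoc]
  congr 1
  rw [← EssDimLib.spMap_comp, ← EssDimLib.spMap_comp]
  exact congrArg spMap (AlgHom.ext hστ)

omit [GrpObj G] in
theorem isLocallyConstant_smul {X : Over (Spec (CommRingCat.of k))} [LocallyOfFiniteType X.hom]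
    (x : SGA7.Pts kb X) : IsLocallyConstant fun σ : kb ≃ₐ[k] kb => σ • x := by
  obtain ⟨L, hL, h⟩ := exists_smul_eq x
  rw [IsLocallyConstant.iff_exists_open]
  refine fun σ => ⟨(fun τ => σ⁻¹ * τ) ⁻¹' (L.fixingSubgroup : Set (kb ≃ₐ[k] kb)),
    (IntermediateField.fixingSubgroup_isOpen L).preimage (continuous_const_mul σ⁻¹), ?_, fun τ hτ => ?_⟩
  · simp
  · refine h τ σ fun c => ?_
    have := (IntermediateField.mem_fixingSubgroup_iff L _).1 hτ c c.2
    simpa using congrArg σ this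

/-- Cocycles with locally constant values agreeing at the Frobenius are equal. -/
theorem cocycle_ext {a b : GpH1.OneCocycle (kb ≃ₐ[k] kb) (SGA7.Pts kb G)}
    (ha : IsLocallyConstant (a : (kb ≃ₐ[k] kb) → SGA7.Pts kb G))
    (hb : IsLocallyConstant (b : (kb ≃ₐ[k] kb) → SGA7.Pts kb G))
    (h : a (frobK k k kb) = b (frobK k k kb)) (σ : kb ≃ₐ[k] kb) : a σ = b σ := by
  haveI := isAlgebraic_kb (k' := k) (kb := kb)
  have one : ∀ c : GpH1.OneCocycle (kb ≃ₐ[k] kb) (SGA7.Pts kb G), c (1 : kb ≃ₐ[k] kb) = 1 := fun c => by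
    have := c.2 1 1
    rw [_root_.one_mul, one_smul] at this
    exact mul_eq_left.1 this.symm
  let H : Subgroup (kb ≃ₐ[k] kb) :=
    { carrier := {τ | a τ = b τ}
      one_mem' := (one a).trans (one b).symm
      mul_mem' := fun {x y} (hx : a x = b x) (hy : a y = b y) => by
        show a (x * y) = b (x * y)
        rw [a.2, b.2, hx, hy]
      inv_mem' := fun {x} (hx : a x = b x) => by
        show a x⁻¹ = b x⁻¹
        have h1 := a.2 x x⁻¹
        have h2 := b.2 x x⁻¹
        rw [mul_inv_cancel, one] at h1 h2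
        rw [hx] at h1
        exact MulAction.injective x (mul_left_cancel (h1.symm.trans h2)) }
  have hsub : Subgroup.zpowers (frobK k k kb) ≤ H := Subgroup.zpowers_le.2 h
  obtain ⟨U, hU, hσU, hUc⟩ := (IsLocallyConstant.iff_exists_open _).1 (ha.prodMk hb) σ
  obtain ⟨E, hE, hEU⟩ := (krullTopology_mem_nhds_one_iff k kb _).1
    (((continuous_const_mul σ).tendsto' 1 σ (_root_.mul_one σ)).eventually (hU.mem_nhds hσU))
  haveI := hE
  obtain ⟨n, hn⟩ := Galois.exists_pow_eq (k := k) (K := kb) E σ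
  let τ : kb ≃ₐ[k] kb := (frobK k k kb)⁻¹ ^ n
  have hτ : τ ∈ H := hsub (Subgroup.pow_mem _ (Subgroup.inv_mem _ (Subgroup.mem_zpowers _)) n)
  have hτU : τ ∈ U := by
    have h1 : σ⁻¹ * τ ∈ E.fixingSubgroup := (IntermediateField.mem_fixingSubgroup_iff E _).2 fun c hc => by
      rw [AlgEquiv.mul_apply, show τ c = σ c from (hn ⟨c, hc⟩).symm]
      exact σ.symm_apply_apply c
    have h2 := hEU h1
    exact (show σ * (σ⁻¹ * τ) ∈ U from h2) |> fun h => by rwa [mul_inv_cancel_left] at h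
  have h3 := hUc τ hτU
  rw [Prod.mk.injEq] at h3
  exact h3.1.symm.trans ((hτ : a τ = b τ).trans h3.2)

variable [Smooth G.hom] [IsAffineHom G.hom]

/-- Every element is the Frobenius value of a continuous cocycle. -/
theorem exists_cocycle (g : SGA7.Pts kb G) :
    ∃ z : GpH1.OneCocycleLC (kb ≃ₐ[k] kb) (SGA7.Pts kb G), z.1 (frobK k k kb) = g := by
  haveI : LocallyOfFiniteType (𝟙_ (Over (Spec (CommRingCat.of k)))).hom :=
    inferInstanceAs (LocallyOfFiniteType (𝟙 _))
  obtain ⟨A, tA, hg, -⟩ := exists_ptObj (aX := AlgSt.trivAction G) (k' := k) (kb := kb) g (toUnit _)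
    (toUnit_unique _ _)
  have hex : ∀ σ : kb ≃ₐ[k] kb, ∃ a, lift a (galS k k kb σ ≫ tA.t) ≫ A.1.act.act = tA.t := fun σ =>
    exists_div A.1 _ _ (eq_shift A σ tA).symm
  choose z hz using hex
  have hcoc : GpH1.IsOneCocycle z := fun σ τ => act_free A.1 (b := galS k k kb (σ * τ) ≫ tA.t) (by
    rw [hz, smul_eq_galS, ← act_mul, galS_mul, Category.assoc]
    have := congrArg (galS k k kb σ ≫ ·) (hz τ)
    simp only [comp_lift_assoc] at this
    rw [this, hz])
  refine ⟨⟨⟨z, hcoc⟩, ?_⟩, act_free A.1 ((hz _).trans (hg ▸ tA.g_spec).symm)⟩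
  obtain ⟨L, hL, hlev⟩ := tA.exists_level
  obtain ⟨tL, htL⟩ := hlev L le_rfl
  haveI := hL
  rw [IsLocallyConstant.iff_exists_open]
  refine fun σ => ⟨(fun τ => σ⁻¹ * τ) ⁻¹' (L.fixingSubgroup : Set (kb ≃ₐ[k] kb)),
    (IntermediateField.fixingSubgroup_isOpen L).preimage (continuous_const_mul σ⁻¹), ?_, fun τ hτ => ?_⟩
  · simp
  · have hc : ∀ c : L, τ (c : kb) = σ (c : kb) := fun c => by
      have := (IntermediateField.mem_fixingSubgroup_iff L _).1 hτ c c.2
      simpa using congrArg σ this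
    have he : galS k k kb τ ≫ tA.t = galS k k kb σ ≫ tA.t := by
      rw [← htL, ← Category.assoc, ← Category.assoc]
      congr 1
      rw [← EssDimLib.spMap_comp, ← EssDimLib.spMap_comp]
      exact congrArg spMap (AlgHom.ext hc)
    show z τ = z σ
    exact act_free A.1 ((hz τ).trans (show _ = lift (z σ) (galS k k kb τ ≫ tA.t) ≫ A.1.act.act by rw [he, hz]))

omit [IsAffineHom G.hom] in
/-- Cohomologous continuous cocycles are those with twisted conjugate Frobenius values. -/
theorem cohomologous_iff (a b : GpH1.OneCocycleLC (kb ≃ₐ[k] kb) (SGA7.Pts kb G)) :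
    GpH1.Cohomologous a.1 b.1 ↔
      ∃ h : SGA7.Pts kb G, h * b.1 (frobK k k kb) * (frobK k k kb • h)⁻¹ = a.1 (frobK k k kb) := by
  constructor
  · rintro ⟨c, hc⟩
    refine ⟨c⁻¹, ?_⟩
    rw [hc, smul_inv', inv_inv]
  · rintro ⟨h, hh⟩
    refine ⟨h⁻¹, fun σ => ?_⟩
    rw [inv_inv, smul_inv']
    let b' : GpH1.OneCocycle (kb ≃ₐ[k] kb) (SGA7.Pts kb G) := ⟨fun τ => h * b.1 τ * (τ • h)⁻¹, fun x y => by
      show h * b.1 (x * y) * ((x * y) • h)⁻¹ = (h * b.1 x * (x • h)⁻¹) * x • (h * b.1 y * (y • h)⁻¹)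
      rw [b.1.2, mul_smul, smul_mul', smul_mul', smul_inv']
      group⟩
    have hlc : IsLocallyConstant (b' : (kb ≃ₐ[k] kb) → SGA7.Pts kb G) :=
      (b.2.prodMk (isLocallyConstant_smul h)).comp fun p => h * p.1 * p.2⁻¹
    exact cocycle_ext a.2 hlc hh.symm σ

end Groth.Agent.ZH85.StackCount
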