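import Groth.Agent.ZH85.StackCount.StabComp
import Groth.Agent.ZH85.StackCount.MassSum
import Groth.Agent.ZH85.StackCount.ModelCount
import Groth.Agent.ZH85.StackCount.Cocycle

/-! The point count of a quotient stack whose stabilisers have unipotent identity components. -/

noncomputable section

set_option autoImplicit false
set_option backward.isDefEq.respectTransparency false
set_option backward.isDefEq.respectTransparency.types false

universe u

open CategoryTheory CategoryTheory.Limits MonoidalCategory CartesianMonoidalCategory MonObj AlgebraicGeometry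
open GalTw

namespace Groth.Agent.ZH85.StackCount

open Groth.Agent.GrpSchLib (act_mul act_one)

variable {k : Type u} [Field k] {kb : Type u} [Field kb] [Algebra k kb]
  {G X : Over (Spec (CommRingCat.of k))} [GrpObj G]

/-- The action on points over the closure. -/
@[reducible]
def ptsAct (aX : AlgGrp.Action G X) : MulAction (SGA7.pt (K := k) kb ⟶ G) (SGA7.pt (K := k) kb ⟶ X) where
  smul g x := lift g x ≫ aX.act
  one_smul x := act_one aX x
  mul_smul g h x := (act_mul aX g h x).symm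

variable [Finite k] [IsAlgClosure k kb]

/-- An orbit containing a Frobenius conjugate is stable under the Galois group. -/
theorem exists_act_smul [LocallyOfFiniteType X.hom] (aX : AlgGrp.Action G X) {g : SGA7.Pts kb G}
    {y : SGA7.Pts kb X} (h : lift g (fs k k kb ≫ y) ≫ aX.act = y) (σ : kb ≃ₐ[k] kb) :
    ∃ g' : SGA7.Pts kb G, lift g' (σ • y) ≫ aX.act = y := by
  obtain ⟨i, hi⟩ := exists_iterate_eq y (σ • y) (by
    rw [smul_eq_galS]
    exact congrArg y.left (Subsingleton.elim (α := PrimeSpectrum kb) _ _))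
  rw [← hi]
  clear hi σ
  induction i with
  | zero => exact ⟨1, act_one aX y⟩
  | succ i ih =>
      obtain ⟨gi, hgi⟩ := ih
      refine ⟨g * (fs k k kb ≫ gi), ?_⟩
      rw [Function.iterate_succ_apply', ← act_mul, ← comp_lift_assoc]
      rw [hgi, h]

variable [LocallyOfFiniteType G.hom] [QuasiCompact G.hom] [IsAffineHom G.hom] [LocallyOfFiniteType X.hom]

/-- The mass of the pairs over one point, from a unipotent irreducible subgroup of finite index of its stabiliser. -/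
theorem mass_fibre_of_component (aX : AlgGrp.Action G X)
    [MulAction (SGA7.pt (K := k) kb ⟶ G) (SGA7.pt (K := k) kb ⟶ X)]
    (hsm : ∀ (g : SGA7.pt (K := k) kb ⟶ G) (y : SGA7.pt (K := k) kb ⟶ X), g • y = lift g y ≫ aX.act)
    (fX : FrobPair k aX k kb →[SGA7.Pts kb G] SGA7.Pts kb X) (hfX : ∀ p, fX p = p.x)
    (x : SGA7.Pts kb X) (g₀ : SGA7.Pts kb G) (hg₀ : lift g₀ (fs k k kb ≫ x) ≫ aX.act = x)
    {W : Set (bX kb G).left} (hW : IsClosed W) (hirr : IsIrreducible W) (hone : (1 : SGA7.Pts kb G) ∈ ptsIn W)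
    (hmul : ∀ a ∈ ptsIn W, ∀ b ∈ ptsIn W, a * b ∈ ptsIn W) (hinv : ∀ a ∈ ptsIn W, a⁻¹ ∈ ptsIn W)
    (hpow : ∀ a ∈ ptsIn W, ∃ N, a ^ ringChar k ^ N = 1) (d : ℕ)
    (hdim : topologicalKrullDim ↥W = (d : WithBot ℕ∞))
    (hWst : ∀ a ∈ ptsIn W, lift a x ≫ aX.act = x)
    (hnorm : ∀ c : SGA7.Pts kb G, lift c x ≫ aX.act = x → ∀ a ∈ ptsIn W, c * a * c⁻¹ ∈ ptsIn W)
    (hfrob : ∀ g : SGA7.Pts kb G, lift g (fs k k kb ≫ x) ≫ aX.act = x →
      ∀ a ∈ ptsIn W, g * (fs k k kb ≫ a) * g⁻¹ ∈ ptsIn W)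
    {R : Set (SGA7.Pts kb G)} (hR : R.Finite)
    (hcov : ∀ a : SGA7.Pts kb G, lift a x ≫ aX.act = x → ∃ r ∈ R, r⁻¹ * a ∈ ptsIn W) :
    mass (MulAction.stabilizer (SGA7.pt (K := k) kb ⟶ G) x) (fibre fX x) = ((Nat.card k : ℚ) ^ d)⁻¹ := by
  classical
  haveI : IsAlgClosed kb := IsAlgClosure.isAlgClosed k
  let Γs := MulAction.stabilizer (SGA7.pt (K := k) kb ⟶ G) x
  have hmemΓ : ∀ a, a ∈ Γs ↔ lift a x ≫ aX.act = x := fun a => by
    rw [MulAction.mem_stabilizer_iff, hsm]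
  let S₀ : Subgroup Γs :=
    { carrier := {a | (a : SGA7.pt (K := k) kb ⟶ G) ∈ ptsIn W}
      one_mem' := hone
      mul_mem' := fun ha hb => hmul _ ha _ hb
      inv_mem' := fun ha => hinv _ ha }
  haveI : S₀.Normal := ⟨fun a ha c => hnorm _ ((hmemΓ _).1 c.2) _ ha⟩
  haveI : Finite (Γs ⧸ S₀) := by
    haveI := hR.to_subtype
    haveI : Finite {r : R // (r : SGA7.pt (K := k) kb ⟶ G) ∈ Γs} := Subtype.finite
    refine Finite.of_surjective (fun r : {r : R // (r : SGA7.pt (K := k) kb ⟶ G) ∈ Γs} =>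
      ((⟨r.1.1, r.2⟩ : Γs) : Γs ⧸ S₀)) fun q => ?_
    induction q using QuotientGroup.induction_on with
    | H a =>
      obtain ⟨r, hr, hra⟩ := hcov a.1 ((hmemΓ _).1 a.2)
      have hrΓ : r ∈ Γs := by
        have h1 : r = a.1 * (r⁻¹ * a.1)⁻¹ := by group
        rw [h1]
        exact Γs.mul_mem a.2 ((hmemΓ _).2 (hWst _ (hinv _ hra)))
      exact ⟨⟨⟨r, hr⟩, hrΓ⟩, (QuotientGroup.eq).2 hra⟩
  have hfix : ∀ m : fibre fX x, lift m.1.g (fs k k kb ≫ x) ≫ aX.act = x := fun m => by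
    have hx : m.1.x = x := (hfX m.1).symm.trans m.2
    conv_rhs => rw [← hx, ← m.1.fix, hx]
  let m₀ : fibre fX x := ⟨⟨g₀, x, hg₀⟩, hfX _⟩
  have hg : ∀ (a : Γs) (m : fibre fX x),
      (a • m).1.g = (a : SGA7.pt (K := k) kb ⟶ G) * m.1.g * (fs k k kb ≫ (a : SGA7.pt (K := k) kb ⟶ G))⁻¹ :=
    fun a m => rfl
  have hext : ∀ m m' : fibre fX x, m.1.g = m'.1.g → m = m' := fun m m' h =>
    Subtype.ext (FrobPair.ext h (((hfX m.1).symm.trans m.2).trans ((hfX m'.1).symm.trans m'.2).symm))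
  have hdiv : ∀ m : fibre fX x, m.1.g * g₀⁻¹ ∈ Γs := fun m => by
    rw [hmemΓ]
    calc lift (m.1.g * g₀⁻¹) x ≫ aX.act = lift (m.1.g * g₀⁻¹) (lift g₀ (fs k k kb ≫ x) ≫ aX.act) ≫ aX.act := by
          rw [hg₀]
      _ = x := by rw [act_mul, inv_mul_cancel_right, hfix m]
  have key := mass_of_normal (M := fibre fX x) S₀ (Nat.card k ^ d) ?_ ?_
  · rw [key, Nat.cast_pow]
  · intro m
    rw [← card_twFixed_unipotent hW hirr hone hmul hinv m.1.g (hfrob _ (hfix m)) hpow d hdim]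
    refine Nat.card_congr
      { toFun := fun a => ⟨a.1.1.1, a.1.2, ?_⟩
        invFun := fun a => ⟨⟨⟨a.1, (hmemΓ _).2 (hWst _ a.2.1)⟩, a.2.1⟩, ?_⟩
        left_inv := fun a => rfl
        right_inv := fun a => rfl }
    · have e : (a.1.1 • m).1.g = m.1.g := congrArg (fun z : fibre fX x => z.1.g) a.2
      rw [hg, mul_inv_eq_iff_eq_mul] at e
      rw [← e, mul_inv_cancel_right]
    · refine hext _ _ ?_
      show (a.1 : SGA7.pt (K := k) kb ⟶ G) * m.1.g * (fs k k kb ≫ a.1)⁻¹ = m.1.g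
      rw [mul_inv_eq_iff_eq_mul]
      exact (mul_inv_eq_iff_eq_mul.1 a.2.2).symm
  · let Φ : fibre fX x → Γs ⧸ S₀ := fun m => ((⟨m.1.g * g₀⁻¹, hdiv m⟩ : Γs) : Γs ⧸ S₀)
    have hΦ : ∀ a b : fibre fX x, MulAction.orbitRel S₀ (fibre fX x) a b → Φ a = Φ b := by
      rintro _ b ⟨s, rfl⟩
      refine ((QuotientGroup.eq).2 ?_).symm
      show (b.1.g * g₀⁻¹)⁻¹ * (((s.1 • b : fibre fX x)).1.g * g₀⁻¹) ∈ ptsIn W
      rw [hg]
      have hsW : (s.1 : SGA7.pt (K := k) kb ⟶ G) ∈ ptsIn W := s.2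
      have h1 := hfrob b.1.g (hfix b) _ (hinv _ hsW)
      rw [GrpObj.comp_inv] at h1
      have h2 := hmul _ hsW _ h1
      have h3 := hnorm _ ((hmemΓ _).1 (Γs.inv_mem (hdiv b))) _ h2
      rw [inv_inv] at h3
      convert h3 using 1
      simp only [_root_.mul_assoc, inv_mul_cancel_left]
    refine Nat.card_eq_of_bijective (Quotient.lift Φ hΦ) ⟨?_, ?_⟩
    · intro a b
      induction a using Quotient.inductionOn with
      | h a =>
      induction b using Quotient.inductionOn with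
      | h b =>
      intro hab
      have h1 : (b.1.g * g₀⁻¹)⁻¹ * (a.1.g * g₀⁻¹) ∈ ptsIn W := (QuotientGroup.eq).1 (Eq.symm hab)
      have h2 := hnorm _ ((hmemΓ _).1 (hdiv b)) _ h1
      rw [show b.1.g * g₀⁻¹ * ((b.1.g * g₀⁻¹)⁻¹ * (a.1.g * g₀⁻¹)) * (b.1.g * g₀⁻¹)⁻¹ = a.1.g * b.1.g⁻¹ by
        group] at h2
      obtain ⟨h, hh, he⟩ := lang hW hirr hmul hinv b.1.g (hfrob _ (hfix b))
        (fun w => finite_twFixed (k' := k) w) h2
      rw [inv_mul_cancel_right] at he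
      refine Quotient.sound ⟨⟨⟨h, (hmemΓ _).2 (hWst _ hh)⟩, hh⟩, hext _ _ ?_⟩
      show h * b.1.g * (fs k k kb ≫ h)⁻¹ = a.1.g
      exact he
    · intro q
      induction q using QuotientGroup.induction_on with
      | H a =>
      refine ⟨Quotient.mk _ ⟨⟨a.1 * g₀, x, by rw [← act_mul, hg₀]; exact (hmemΓ _).1 a.2⟩, hfX _⟩, ?_⟩
      show ((⟨a.1 * g₀ * g₀⁻¹, _⟩ : Γs) : Γs ⧸ S₀) = a
      congr 1
      exact Subtype.ext (mul_inv_cancel_right _ _)

/-- The mass of the pairs over one point whose stabiliser has unipotent identity component of dimension `d`. -/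
theorem mass_fibre_point (aX : AlgGrp.Action G X) [MulAction (SGA7.pt (K := k) kb ⟶ G) (SGA7.pt (K := k) kb ⟶ X)]
    (hsm : ∀ (g : SGA7.pt (K := k) kb ⟶ G) (y : SGA7.pt (K := k) kb ⟶ X), g • y = lift g y ≫ aX.act)
    (fX : FrobPair k aX k kb →[SGA7.Pts kb G] SGA7.Pts kb X) (hfX : ∀ p, fX p = p.x)
    (x : SGA7.Pts kb X) (g₀ : SGA7.Pts kb G) (hg₀ : lift g₀ (fs k k kb ≫ x) ≫ aX.act = x)
    (S : Over (Spec (CommRingCat.of kb))) [GrpObj S] (s : S ⟶ bcK kb G) [IsMonHom s] [Mono s]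
    (hS : ∀ (T : Over (Spec (CommRingCat.of kb)))
      (g : (Over.map (SGA7.pt (K := k) kb).hom).obj T ⟶ G),
      (∃ g' : T ⟶ S, g' ≫ s = (Over.mapPullbackAdj (SGA7.pt (K := k) kb).hom).homEquiv T G g) ↔
        lift g ((Over.homMk T.hom rfl : (Over.map (SGA7.pt (K := k) kb).hom).obj T ⟶ SGA7.pt (K := k) kb) ≫ x)
            ≫ aX.act =
          (Over.homMk T.hom rfl : (Over.map (SGA7.pt (K := k) kb).hom).obj T ⟶ SGA7.pt (K := k) kb) ≫ x)
    (hSu : Red.HasNoSubtorus kb S) (d : ℕ) (hd : topologicalKrullDim ↥S.left = (d : WithBot ℕ∞)) :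
    mass (MulAction.stabilizer (SGA7.pt (K := k) kb ⟶ G) x) (fibre fX x) = ((Nat.card k : ℚ) ^ d)⁻¹ := by
  obtain ⟨W, hW, hirr, hone, hmul, hinv, hpow, hdim, hWst, hnorm, hfrob, R, hR, hcov⟩ :=
    exists_stabComponent aX x S s hS hSu d hd
  exact mass_fibre_of_component aX hsm fX hfX x g₀ hg₀ hW hirr hone hmul hinv hpow d hdim hWst hnorm hfrob hR hcov

variable [Smooth G.hom] [QuasiCompact X.hom]

variable (kb G X) in
/-- The count: one term for each stable orbit. -/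
theorem ptCount_eq_sum_inv_pow (aX : AlgGrp.Action G X) (J : Type) [Fintype J] (x : J → SGA7.Pts kb X)
    (hdis : ∀ j j' : J, (∃ g : SGA7.Pts kb G, lift g (x j) ≫ aX.act = x j') → j = j')
    (hfix : ∀ (j : J) (σ : kb ≃ₐ[k] kb), ∃ g : SGA7.Pts kb G, lift g (σ • x j) ≫ aX.act = x j)
    (hall : ∀ y : SGA7.Pts kb X,
      (∀ σ : kb ≃ₐ[k] kb, ∃ g : SGA7.Pts kb G, lift g (σ • y) ≫ aX.act = y) →
        ∃ (j : J) (g : SGA7.Pts kb G), lift g (x j) ≫ aX.act = y)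
    (S : J → Over (Spec (CommRingCat.of kb))) [∀ j, GrpObj (S j)]
    (s : ∀ j, S j ⟶ GalTw.bcK kb G) [∀ j, IsMonHom (s j)] [∀ j, Mono (s j)]
    (hS : ∀ (j : J) (T : Over (Spec (CommRingCat.of kb)))
      (g : (Over.map (SGA7.pt (K := k) kb).hom).obj T ⟶ G),
      (∃ g' : T ⟶ S j, g' ≫ s j = (Over.mapPullbackAdj (SGA7.pt (K := k) kb).hom).homEquiv T G g) ↔
        lift g ((Over.homMk T.hom rfl : (Over.map (SGA7.pt (K := k) kb).hom).obj T ⟶ SGA7.pt (K := k) kb) ≫ x j)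
            ≫ aX.act =
          (Over.homMk T.hom rfl : (Over.map (SGA7.pt (K := k) kb).hom).obj T ⟶ SGA7.pt (K := k) kb) ≫ x j)
    (hSu : ∀ j, Red.HasNoSubtorus kb (S j))
    (d : J → ℕ) (hd : ∀ j, topologicalKrullDim ↥(S j).left = (d j : WithBot ℕ∞))
    (h : StkCnt.IsEssFinite (StkCnt.pts (AlgSt.QuotSt Scheme.etalePrecoverage G aX) k)) :
    StkCnt.ptCount (AlgSt.QuotSt Scheme.etalePrecoverage G aX) k h =
      ∑ j : J, ((Nat.card k : ℚ) ^ (d j))⁻¹ := by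
  letI := ptsAct (kb := kb) aX
  rw [ptCount_eq_mass kb h]
  haveI := finite_orbits kb h
  let fX : FrobPair k aX k kb →[SGA7.Pts kb G] SGA7.Pts kb X :=
    { toFun := fun p => p.x
      map_smul' := fun _ _ => rfl }
  have hg₀ : ∀ j, ∃ g : SGA7.Pts kb G, lift g (fs k k kb ≫ x j) ≫ aX.act = x j := fun j => by
    obtain ⟨g, hg⟩ := hfix j (frobK k k kb)
    rw [frobK_smul] at hg
    exact ⟨g, hg⟩
  rw [mass_eq_sum fX x (fun j => ?_) (fun i j hij => hdis i j hij) (fun p => ?_)]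
  · exact Finset.sum_congr rfl fun j _ =>
      mass_fibre_point aX (fun _ _ => rfl) fX (fun _ => rfl) (x j) _ (hg₀ j).choose_spec (S j) (s j) (hS j) (hSu j)
        (d j) (hd j)
  · exact ⟨⟨_, x j, (hg₀ j).choose_spec⟩, rfl⟩
  · obtain ⟨j, g, hg⟩ := hall p.x fun σ => exists_act_smul aX p.fix σ
    exact ⟨j, g, hg⟩

end Groth.Agent.ZH85.StackCount
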