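import Groth.Agent.ZH85.StackCount.FinOrbit

/-! The mass of the pairs over a finite scheme for a group with unipotent identity component. -/

noncomputable section

set_option autoImplicit false
set_option backward.isDefEq.respectTransparency false
set_option backward.isDefEq.respectTransparency.types false

universe u

open CategoryTheory CategoryTheory.Limits MonoidalCategory CartesianMonoidalCategory MonObj AlgebraicGeometry
open GalTw

namespace Groth.Agent.ZH85.StackCount

variable {k : Type u} [Field k] [Finite k] {kb : Type u} [Field kb] [Algebra k kb] [IsAlgClosure k kb]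

/-- The mass over the stable orbits of a finite scheme. -/
theorem mass_finScheme {F E : Over (Spec (CommRingCat.of k))} [GrpObj F] [Smooth F.hom] [IsAffineHom F.hom]
    [IsFinite E.hom] (aE : AlgGrp.Action F E) (hFu : Red.HasNoSubtorus kb (bcK kb F)) (d : ℕ)
    (hd : topologicalKrullDim ↥F.left = (d : WithBot ℕ∞))
    (J : Type) [Fintype J] (e : J → SGA7.Pts kb E)
    (hdis : ∀ j j' : J, (∃ g : SGA7.Pts kb F, lift g (e j) ≫ aE.act = e j') → j = j')
    (hfix : ∀ (j : J) (σ : kb ≃ₐ[k] kb), ∃ g : SGA7.Pts kb F, lift g (σ • e j) ≫ aE.act = e j)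
    (hall : ∀ y : SGA7.Pts kb E,
      (∀ σ : kb ≃ₐ[k] kb, ∃ g : SGA7.Pts kb F, lift g (σ • y) ≫ aE.act = y) →
        ∃ (j : J) (g : SGA7.Pts kb F), lift g (e j) ≫ aE.act = y)
    [Finite (MulAction.orbitRel.Quotient (SGA7.pt (K := k) kb ⟶ F) (FrobPair k aE k kb))] :
    mass (SGA7.pt (K := k) kb ⟶ F) (FrobPair k aE k kb) = (Fintype.card J : ℚ) * ((Nat.card k : ℚ) ^ d)⁻¹ := by
  obtain ⟨W, h1, h2, h3, h4, h5, h6, h7, h9, h10, R, hR, hcov⟩ := exists_component hFu d hd
  letI := ptsAct (kb := kb) aE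
  let fX : FrobPair k aE k kb →[SGA7.Pts kb F] SGA7.Pts kb E :=
    { toFun := fun p => p.x
      map_smul' := fun _ _ => rfl }
  have hg₀ : ∀ j, ∃ g : SGA7.Pts kb F, lift g (fs k k kb ≫ e j) ≫ aE.act = e j := fun j => by
    obtain ⟨g, hg⟩ := hfix j (frobK k k kb)
    rw [frobK_smul] at hg
    exact ⟨g, hg⟩
  rw [mass_eq_sum fX e (fun j => ?_) (fun i j hij => hdis i j hij) (fun p => ?_)]
  · rw [Finset.sum_congr rfl fun j _ =>
      mass_fibre_of_component aE (fun _ _ => rfl) fX (fun _ => rfl) (e j) _ (hg₀ j).choose_spec h1 h2 h3 h4 h5 h6 d h7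
        (fixes_of_isFinite h1 h2 h3 aE (e j)) (fun c _ => h9 c) (fun g _ => h10 g) hR (fun a _ => hcov a),
      Finset.sum_const, nsmul_eq_mul]
    rfl
  · exact ⟨⟨_, e j, (hg₀ j).choose_spec⟩, rfl⟩
  · obtain ⟨j, g, hg⟩ := hall p.x fun σ => exists_act_smul aE p.fix σ
    exact ⟨j, g, hg⟩

end Groth.Agent.ZH85.StackCount
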