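import Groth.Agent.ZH85.StackCount.ExactSeq

/-! Lang's theorem for connected groups. -/

noncomputable section

set_option autoImplicit false
set_option backward.isDefEq.respectTransparency false
set_option backward.isDefEq.respectTransparency.types false

universe u

open CategoryTheory CategoryTheory.Limits MonoidalCategory CartesianMonoidalCategory MonObj AlgebraicGeometry

namespace Groth.Agent.ZH85.StackCount

variable {k : Type u} [Field k] [Finite k] {kb : Type u} [Field kb] [Algebra k kb] [IsAlgClosure k kb]

/-- Every point of a connected group is of the form `h (Frob h)⁻¹`. -/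
theorem exists_div_frob {G : Over (Spec (CommRingCat.of k))} [GrpObj G] [LocallyOfFiniteType G.hom]
    [QuasiCompact G.hom] [ConnectedSpace G.left] (a : SGA7.pt (K := k) kb ⟶ G) :
    ∃ h : SGA7.pt (K := k) kb ⟶ G, h * (fs k k kb ≫ h)⁻¹ = a := by
  haveI : IsAlgClosed kb := IsAlgClosure.isAlgClosed k
  haveI := irreducibleSpace_bX (kb := kb) G
  obtain ⟨h, -, he⟩ := lang (W := (Set.univ : Set (bX kb G).left)) isClosed_univ
    (IrreducibleSpace.isIrreducible_univ _) (fun _ _ _ _ => trivial) (fun _ _ => trivial) 1 (fun _ _ => trivial)
    (fun w => finite_twFixed (k' := k) w) (a := a) trivial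
  exact ⟨h, by simpa using he⟩

end Groth.Agent.ZH85.StackCount
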