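import Groth.Agent.ZH85.StackCount.Sections
import Groth.Agent.SGA1Q.BaseChange
import Groth.Agent.SGA1Q.Orbits
import Groth.Agent.NonAbLib.GalQuot

/-! Morphisms of torsors from a generator-compatible pair of sections over a Galois cover of the base. -/

noncomputable section

set_option autoImplicit false
set_option backward.isDefEq.respectTransparency false
set_option backward.isDefEq.respectTransparency.types false

universe u

open CategoryTheory CategoryTheory.Limits MonoidalCategory CartesianMonoidalCategory MonObj AlgebraicGeometry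

namespace Groth.Agent.ZH85.StackCount

open Groth.Agent.QuotLib Groth.Agent.GrpSchLib AlgSt

/-- An action by automorphisms over `S`, on the underlying scheme. -/
abbrev leftAut {S : Scheme.{u}} {Z : Over S} {Γ : Type u} [Group Γ] (ρ : Γ →* Aut Z) : Γ →* Aut Z.left :=
  ((Over.forget S).mapAut Z).comp ρ

variable {S : Scheme.{u}} {G : Over S} [GrpObj G] {X : Over S} {aX : AlgGrp.Action G X}
  {K : Precoverage Scheme.{u}} [K.HasIsos]

/-- Generator-compatible sections give an equivariant map. -/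
theorem exists_top {A B : AlgSt.QuotObj K G aX} [Flat A.π.left] [Flat G.hom] (e : A.base ⟶ B.base)
    {L : Over S} {Γ : Type u} [Group Γ] [Finite Γ] (ρ₀ : Γ →* Aut L) (u : L ⟶ A.base) [Surjective u.left]
    [Flat u.left] [QuasiCompact u.left]
    (hq : SGA1.IsQuot (leftAut ρ₀) u.left) (γ : Γ) (hγ : ∀ σ, σ ∈ Subgroup.zpowers γ)
    (tA : L ⟶ A.P) (htA : tA ≫ A.π = u) (tB : L ⟶ B.P) (htB : tB ≫ B.π = u ≫ e)
    (hx : tB ≫ B.φ = tA ≫ A.φ) (g : L ⟶ G)
    (hgA : lift g ((ρ₀ γ).hom ≫ tA) ≫ A.act.act = tA) (hgB : lift g ((ρ₀ γ).hom ≫ tB) ≫ B.act.act = tB) :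
    ∃ top : A.P ⟶ B.P, A.act.act ≫ top = (G ◁ top) ≫ B.act.act ∧ top ≫ B.φ = A.φ ∧
      top ≫ B.π = A.π ≫ e ∧ tA ≫ top = tB := by
  let eA := orbitMap A tA
  let eB := orbitMap B tB
  have hsq : IsPullback eA (snd G L) A.π u := htA ▸ isPullback_orbitMap A tA
  have hu : ∀ σ, (ρ₀ σ).hom ≫ u = u := fun σ => Over.OverMorphism.ext (hq.inv σ)
  let r : Γ → (G ⊗ L ⟶ G ⊗ L) := fun σ => hsq.lift eA (snd G L ≫ (ρ₀ σ).hom) (by
    rw [Category.assoc, hu, hsq.w])
  have hr₁ : ∀ σ, r σ ≫ eA = eA := fun σ => hsq.lift_fst _ _ _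
  have hr₂ : ∀ σ, r σ ≫ snd G L = snd G L ≫ (ρ₀ σ).hom := fun σ => hsq.lift_snd _ _ _
  have hone : r 1 = 𝟙 _ := hsq.hom_ext (by rw [hr₁, Category.id_comp]) (by
    rw [hr₂, map_one, Category.id_comp]; exact Category.comp_id _)
  have hmul : ∀ σ τ, r (σ * τ) = r τ ≫ r σ := fun σ τ => hsq.hom_ext (by simp only [Category.assoc, hr₁]) (by
    rw [Category.assoc, hr₂, hr₂, reassoc_of% hr₂ τ, map_mul]; rfl)
  let ρ : Γ →* Aut (G ⊗ L) :=
    { toFun := fun σ => ⟨r σ, r σ⁻¹, by rw [← hmul, inv_mul_cancel, hone],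
        by rw [← hmul, mul_inv_cancel, hone]⟩
      map_one' := Iso.ext hone
      map_mul' := fun σ τ => Iso.ext (hmul σ τ) }
  have hgen : r γ = lift (fst G L * (snd G L ≫ g)) (snd G L ≫ (ρ₀ γ).hom) := by
    refine hsq.hom_ext ?_ ?_
    · rw [hr₁, lift_orbitMap, ← act_mul, Category.assoc, ← comp_lift_assoc, hgA]
      rw [← lift_orbitMap, lift_fst_snd, Category.id_comp]
    · rw [hr₂, lift_snd]
  have hinvγ : r γ ≫ eB = eB := by
    rw [hgen, lift_orbitMap, ← act_mul, Category.assoc, ← comp_lift_assoc, hgB]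
    rw [← lift_orbitMap, lift_fst_snd, Category.id_comp]
  let H : Subgroup Γ :=
    { carrier := {σ | r σ ≫ eB = eB}
      one_mem' := by simp [hone]
      mul_mem' := fun {a b} (ha : r a ≫ eB = eB) (hb : r b ≫ eB = eB) => by
        show r (a * b) ≫ eB = eB
        rw [hmul, Category.assoc, ha, hb]
      inv_mem' := fun {a} (ha : r a ≫ eB = eB) => by
        show r a⁻¹ ≫ eB = eB
        calc r a⁻¹ ≫ eB = r a⁻¹ ≫ r a ≫ eB := by rw [ha]
          _ = eB := by rw [← Category.assoc, ← hmul, mul_inv_cancel, hone, Category.id_comp] }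
  have hinv : ∀ σ, r σ ≫ eB = eB := fun σ =>
    (Subgroup.zpowers_le.2 (show γ ∈ H from hinvγ)) (hγ σ)
  have hqe : SGA1.IsQuot (leftAut ρ) eA.left :=
    SGA1Q.isQuot_baseChange hq A.π.left (snd G L).left eA.left (hsq.map (Over.forget S)).flip (leftAut ρ)
      (fun σ => congrArg CommaMorphism.left (hr₂ σ)) (fun σ => congrArg CommaMorphism.left (hr₁ σ))
  obtain ⟨top₀, htop₀, -⟩ := SGA1Q.desc_existsUnique_isQuot hqe eB.left
    (fun σ => congrArg CommaMorphism.left (hinv σ))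
  have hfqs : EssDimLib.fqs eA.left :=
    EssDimLib.fqs_of_isPullback hsq ⟨⟨inferInstance, inferInstance⟩, inferInstance⟩
  have hepi := EssDimLib.epi_of_fqs hfqs
  have : Flat eA.left := hfqs.1.1
  have : Surjective eA.left := hfqs.2
  have : QuasiCompact eA.left := hfqs.1.2
  have : Epi eA.left := Flat.epi_of_flat_of_surjective eA.left
  let top : A.P ⟶ B.P := Over.homMk top₀ (by
    rw [← cancel_epi eA.left, ← Category.assoc, htop₀, Over.w eB, Over.w eA])
  have htop : eA ≫ top = eB := Over.OverMorphism.ext htop₀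
  have hepi' : Epi (G ◁ eA) := EssDimLib.epi_of_fqs
    (EssDimLib.fqs_of_isPullback (isPullback_whiskerLeft (G := G) eA) hfqs)
  refine ⟨top, ?_, ?_, ?_, ?_⟩
  · rw [← cancel_epi (G ◁ eA), ← MonoidalCategory.whiskerLeft_comp_assoc, htop, ← Category.assoc]
    have h1 := (trivHom A tA (tA ≫ A.φ) rfl).eqv
    have h2 := (trivHom B tB (tB ≫ B.φ) rfl).eqv
    rw [show (G ◁ eA) ≫ A.act.act = (triv K G aX (tA ≫ A.φ)).act.act ≫ eA from h1.symm, Category.assoc, htop]
    exact h2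
  · rw [← cancel_epi eA, ← Category.assoc, htop]
    show ((G ◁ tB) ≫ B.act.act) ≫ B.φ = ((G ◁ tA) ≫ A.act.act) ≫ A.φ
    rw [Category.assoc, Category.assoc, A.eqv, B.eqv, ← MonoidalCategory.whiskerLeft_comp_assoc,
      ← MonoidalCategory.whiskerLeft_comp_assoc, hx]
  · rw [← cancel_epi eA, ← Category.assoc, htop, reassoc_of% hsq.w, (isPullback_orbitMap B tB).w, htB]
  · have hA1 : lift 1 (𝟙 L) ≫ eA = tA := by rw [lift_orbitMap, Category.id_comp, act_one]
    rw [← hA1, Category.assoc, htop, lift_orbitMap, Category.id_comp, act_one]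

/-- Generator-compatible sections give a morphism. -/
theorem exists_hom {A B : AlgSt.QuotObj K G aX} [Flat A.π.left] [Flat B.π.left] [Flat G.hom]
    (e : A.base ≅ B.base)
    {L : Over S} {Γ : Type u} [Group Γ] [Finite Γ] (ρ₀ : Γ →* Aut L) (u : L ⟶ A.base) [Surjective u.left]
    [Flat u.left] [QuasiCompact u.left]
    (hq : SGA1.IsQuot (leftAut ρ₀) u.left) (hq' : SGA1.IsQuot (leftAut ρ₀) (u ≫ e.hom).left)
    (γ : Γ) (hγ : ∀ σ, σ ∈ Subgroup.zpowers γ)
    (tA : L ⟶ A.P) (htA : tA ≫ A.π = u) (tB : L ⟶ B.P) (htB : tB ≫ B.π = u ≫ e.hom)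
    (hx : tB ≫ B.φ = tA ≫ A.φ) (g : L ⟶ G)
    (hgA : lift g ((ρ₀ γ).hom ≫ tA) ≫ A.act.act = tA) (hgB : lift g ((ρ₀ γ).hom ≫ tB) ≫ B.act.act = tB) :
    ∃ f : A ⟶ B, f.base = e.hom ∧ tA ≫ f.top = tB := by
  obtain ⟨top, h1, h2, h3, h4⟩ := exists_top e.hom ρ₀ u hq γ hγ tA htA tB htB hx g hgA hgB
  have hfl : EssDimLib.fqs u.left := ⟨⟨inferInstance, inferInstance⟩, inferInstance⟩
  have hfl' : EssDimLib.fqs (u ≫ e.hom).left := by
    haveI : IsIso e.hom.left := ((Over.forget S).mapIso e).isIso_hom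
    exact ⟨⟨inferInstanceAs (Flat (u.left ≫ e.hom.left)),
      inferInstanceAs (QuasiCompact (u.left ≫ e.hom.left))⟩,
      inferInstanceAs (Surjective (u.left ≫ e.hom.left))⟩
  obtain ⟨⟨_, _⟩, _⟩ := hfl'
  obtain ⟨top', h1', -, -, h4'⟩ := exists_top e.inv ρ₀ (u ≫ e.hom) hq' γ hγ tB htB tA
    (by rw [htA, Category.assoc, e.hom_inv_id, Category.comp_id]) hx.symm g hgB hgA
  have i1 : top ≫ top' = 𝟙 _ := eqv_ext A A.act tA (htA ▸ hfl)
    (by rw [reassoc_of% h1, h1', MonoidalCategory.whiskerLeft_comp_assoc])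
    (by simp) (by rw [reassoc_of% h4, h4', Category.comp_id])
  have i2 : top' ≫ top = 𝟙 _ := eqv_ext B B.act tB (htB ▸ ⟨⟨‹_›, ‹_›⟩, ‹_›⟩)
    (by rw [reassoc_of% h1', h1, MonoidalCategory.whiskerLeft_comp_assoc])
    (by simp) (by rw [reassoc_of% h4', h4, Category.comp_id])
  haveI : IsIso top := ⟨top', i1, i2⟩
  exact ⟨⟨e.hom, top, h1, IsPullback.of_horiz_isIso ⟨h3⟩, h2⟩, rfl, h4⟩

end Groth.Agent.ZH85.StackCount
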