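import Groth.Agent.ZH85.StackCount.QuotSquare
import Mathlib.GroupTheory.SpecificGroups.Cyclic
import Mathlib.AlgebraicGeometry.Sites.Etale

/-! Torsors from twisting data on a cyclic Galois cover of the base. -/

noncomputable section

set_option autoImplicit false
set_option backward.isDefEq.respectTransparency false
set_option backward.isDefEq.respectTransparency.types false

universe u

open CategoryTheory CategoryTheory.Limits MonoidalCategory CartesianMonoidalCategory MonObj AlgebraicGeometry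

namespace Groth.Agent.ZH85.StackCount

open Groth.Agent.QuotLib Groth.Agent.GrpSchLib AlgSt

variable {S : Scheme.{u}} {G : Over S} [GrpObj G] {L : Over S}

/-- The twisted powers of a point under an endomorphism. -/
def twPow (s : L ⟶ L) (g : L ⟶ G) : ℕ → (L ⟶ G)
  | 0 => 1
  | i + 1 => g * (s ≫ twPow s g i)

/-- Twisted translation on the trivial torsor. -/
def twTrans (s : L ⟶ L) (g : L ⟶ G) : End (G ⊗ L) := lift (fst G L * (snd G L ≫ g)) (snd G L ≫ s)

theorem twTrans_pow (s : End L) (g : L ⟶ G) (i : ℕ) :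
    twTrans s g ^ i = lift (fst G L * (snd G L ≫ twPow s g i)) (snd G L ≫ (s ^ i : End L)) := by
  induction i with
  | zero =>
      refine CartesianMonoidalCategory.hom_ext _ _ ?_ ?_
      · rw [lift_fst, twPow, MonObj.comp_one, _root_.mul_one]; exact Category.id_comp _
      · rw [lift_snd, pow_zero, pow_zero]; exact (Category.id_comp _).trans (Category.comp_id _).symm
  | succ i ih =>
      rw [pow_succ, End.mul_def, ih, twTrans]
      refine CartesianMonoidalCategory.hom_ext _ _ ?_ ?_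
      · simp only [Category.assoc, lift_fst, MonObj.comp_mul, lift_snd_assoc, twPow, _root_.mul_assoc]
      · simp only [Category.assoc, lift_snd, lift_snd_assoc, pow_succ, End.mul_def]

/-- Twisted translations commute with left multiplication. -/
theorem whiskerLeft_twTrans (s : L ⟶ L) (g : L ⟶ G) :
    (G ◁ (twTrans s g : G ⊗ L ⟶ G ⊗ L)) ≫ (AlgSt.leftMul G L).act = (AlgSt.leftMul G L).act ≫ twTrans s g := by
  apply CartesianMonoidalCategory.hom_ext <;>
    simp [twTrans, AlgSt.leftMul, MonObj.comp_mul, _root_.mul_assoc]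

/-- Left multiplication on points. -/
theorem lift_leftMul {V : Over S} (b : V ⟶ G) (q : V ⟶ G ⊗ L) :
    lift b q ≫ (AlgSt.leftMul G L).act = lift (b * (q ≫ fst G L)) (q ≫ snd G L) := by
  apply CartesianMonoidalCategory.hom_ext <;> simp [AlgSt.leftMul, MonObj.comp_mul]

variable {X : Over S} {aX : AlgGrp.Action G X}

/-- Torsors from twisting data on a cyclic Galois cover. -/
theorem exists_obj [IsAffine L.left] [IsAffineHom G.hom] [Flat G.hom]
    {T : Over S} (u : L ⟶ T) [Etale u.left] [Surjective u.left] (hflat : ∀ {Y : Scheme.{u}} (f : Y ⟶ T.left), Flat f)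
    {Γ : Type u} [Group Γ] [Finite Γ] (ρ₀ : Γ →* Aut L) (hq : SGA1.IsQuot (leftAut ρ₀) u.left)
    (hfree : SGA1Q.FreeOnGeomPoints (leftAut ρ₀)) (γ : Γ) (hγ : ∀ σ, σ ∈ Subgroup.zpowers γ)
    (g : L ⟶ G) (hg : twPow (ρ₀ γ).hom g (orderOf γ) = 1) (x : L ⟶ X)
    (hx : lift g ((ρ₀ γ).hom ≫ x) ≫ aX.act = x) :
    ∃ (A : AlgSt.QuotObj Scheme.etalePrecoverage G aX) (hA : A.base = T) (t : L ⟶ A.P),
      t ≫ A.π = u ≫ eqToHom hA.symm ∧ lift g ((ρ₀ γ).hom ≫ t) ≫ A.act.act = t ∧ t ≫ A.φ = x := by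
  let Z : Over S := G ⊗ L
  let n := orderOf γ
  have hn : 0 < n := orderOf_pos γ
  let s : End L := (ρ₀ γ).hom
  have hsn : s ^ n = 1 := by
    have h : Aut.toEnd L (ρ₀ γ) = s := rfl
    rw [← h, ← map_pow, ← map_pow, pow_orderOf_eq_one, map_one, map_one]
  let r : End Z := twTrans s g
  have hrn : r ^ n = 1 := by
    rw [twTrans_pow, hsn, hg]
    exact CartesianMonoidalCategory.hom_ext _ _
      (by rw [lift_fst, MonObj.comp_one, _root_.mul_one]; exact (Category.id_comp _).symm)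
      (by rw [lift_snd]; exact (Category.comp_id _).trans (Category.id_comp _).symm)
  let rU : (End Z)ˣ := Units.ofPowEqOne r n hrn hn.ne'
  let r' : Aut Z := Aut.unitsEndEquivAut Z rU
  have hr'n : r' ^ n = 1 := by
    rw [← map_pow, show rU ^ n = 1 from Units.ext (by rw [Units.val_pow_eq_pow_val]; exact hrn), map_one]
  let ρ : Γ →* Aut Z := monoidHomOfForallMemZpowers hγ (orderOf_dvd_of_pow_eq_one hr'n)
  have hργ : ρ γ = r' := monoidHomOfForallMemZpowers_apply_gen hγ _
  have hργ' : (ρ γ).hom = r := by rw [hργ]; rfl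
  have hsnd : ∀ σ, (ρ σ).hom ≫ snd G L = snd G L ≫ (ρ₀ σ).hom := by
    let H : Subgroup Γ :=
      { carrier := {σ | (ρ σ).hom ≫ snd G L = snd G L ≫ (ρ₀ σ).hom}
        one_mem' := by
          show (ρ 1).hom ≫ snd G L = snd G L ≫ (ρ₀ 1).hom
          rw [map_one, map_one]
          exact (Category.id_comp _).trans (Category.comp_id _).symm
        mul_mem' := fun {a b} (ha : _ = _) (hb : _ = _) => by
          show (ρ (a * b)).hom ≫ snd G L = snd G L ≫ (ρ₀ (a * b)).hom
          rw [map_mul, map_mul]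
          show ((ρ b).hom ≫ (ρ a).hom) ≫ snd G L = snd G L ≫ (ρ₀ b).hom ≫ (ρ₀ a).hom
          rw [Category.assoc, ha, reassoc_of% hb]
        inv_mem' := fun {a} (ha : _ = _) => by
          show (ρ a⁻¹).hom ≫ snd G L = snd G L ≫ (ρ₀ a⁻¹).hom
          rw [map_inv, map_inv]
          show (ρ a).inv ≫ snd G L = snd G L ≫ (ρ₀ a).inv
          rw [Iso.inv_comp_eq, reassoc_of% ha, Iso.hom_inv_id, Category.comp_id] }
    intro σ
    exact (Subgroup.zpowers_le.2 (show γ ∈ H from by
      show (ρ γ).hom ≫ snd G L = _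
      rw [hργ']; exact lift_snd _ _)) (hγ σ)
  haveI : IsAffineHom (snd G L).left :=
    MorphismProperty.of_isPullback ((isPullback_fst_snd G L).map (Over.forget S))
      (show IsAffineHom (toUnit G).left from ‹IsAffineHom G.hom›)
  haveI : IsAffine Z.left := isAffine_of_isAffineHom (snd G L).left
  obtain ⟨P₀, e₀, he⟩ := SGA1Q.exists_quotient (leftAut ρ)
    (fun z => ⟨⊤, isAffineOpen_top _, fun σ => trivial⟩)
  have hsndu : ∀ σ, (leftAut ρ σ).hom ≫ (snd G L).left ≫ u.left = (snd G L).left ≫ u.left := fun σ => by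
    rw [← Category.assoc, show (leftAut ρ σ).hom ≫ (snd G L).left = (snd G L).left ≫ (leftAut ρ₀ σ).hom from
      congrArg CommaMorphism.left (hsnd σ), Category.assoc, hq.inv]
  obtain ⟨π₀, hπ₀, -⟩ := SGA1Q.desc_existsUnique_isQuot he ((snd G L).left ≫ u.left) hsndu
  haveI : Flat π₀ := hflat π₀
  have hsq₀ := isPullback_of_free_quot he hq hfree (v := (snd G L).left)
    (fun σ => congrArg CommaMorphism.left (hsnd σ)) (π := π₀) hπ₀.symm
  let P : Over S := Over.mk (π₀ ≫ T.hom)
  let π : P ⟶ T := Over.homMk π₀ rfl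
  let e : Z ⟶ P := Over.homMk e₀ (by
    show e₀ ≫ π₀ ≫ T.hom = _
    rw [reassoc_of% hπ₀, Over.w u, Over.w (snd G L)])
  have hsq : IsPullback e (snd G L) π u := IsPullback.of_map (Over.forget S) (Over.OverMorphism.ext hsq₀.w) hsq₀
  have hinv : ∀ σ, (ρ σ).hom ≫ e = e := fun σ => Over.OverMorphism.ext (he.inv σ)
  have hfu : EssDimLib.fqs u.left := ⟨⟨inferInstance, by
    haveI := hq.affine; infer_instance⟩, inferInstance⟩
  have hfe := EssDimLib.fqs_of_isPullback hsq hfu
  have hepi := EssDimLib.epi_of_fqs hfe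
  -- the action
  let ρ' : Γ →* Aut (G ⊗ Z) := ((tensorLeft G).mapAut Z).comp ρ
  haveI : Flat (snd G P).left :=
    MorphismProperty.of_isPullback ((isPullback_fst_snd G P).map (Over.forget S))
      (show Flat (toUnit G).left from ‹Flat G.hom›)
  have hq' : SGA1.IsQuot (leftAut ρ') (G ◁ e).left :=
    SGA1Q.isQuot_baseChange he (snd G P).left (snd G Z).left (G ◁ e).left
      ((isPullback_whiskerLeft (G := G) e).map (Over.forget S)).flip (leftAut ρ')
      (fun σ => congrArg CommaMorphism.left (whiskerLeft_snd G (ρ σ).hom))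
      (fun σ => congrArg CommaMorphism.left (by
        show (G ◁ (ρ σ).hom) ≫ (G ◁ e) = G ◁ e
        rw [← MonoidalCategory.whiskerLeft_comp, hinv]))
  let mZ : G ⊗ Z ⟶ Z := (AlgSt.leftMul G L).act
  have hmZ : ∀ σ, (G ◁ (ρ σ).hom) ≫ mZ = mZ ≫ (ρ σ).hom := by
    let H : Subgroup Γ :=
      { carrier := {σ | (G ◁ (ρ σ).hom) ≫ mZ = mZ ≫ (ρ σ).hom}
        one_mem' := by
          show (G ◁ (ρ 1).hom) ≫ mZ = mZ ≫ (ρ 1).hom
          rw [map_one]
          show (G ◁ 𝟙 Z) ≫ mZ = mZ ≫ 𝟙 Z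
          rw [MonoidalCategory.whiskerLeft_id, Category.id_comp, Category.comp_id]
        mul_mem' := fun {a b} (ha : _ = _) (hb : _ = _) => by
          show (G ◁ (ρ (a * b)).hom) ≫ mZ = mZ ≫ (ρ (a * b)).hom
          rw [map_mul]
          show (G ◁ ((ρ b).hom ≫ (ρ a).hom)) ≫ mZ = mZ ≫ (ρ b).hom ≫ (ρ a).hom
          rw [MonoidalCategory.whiskerLeft_comp, Category.assoc, ha, reassoc_of% hb]
        inv_mem' := fun {a} (ha : _ = _) => by
          show (G ◁ (ρ a⁻¹).hom) ≫ mZ = mZ ≫ (ρ a⁻¹).hom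
          rw [map_inv]
          show (G ◁ (ρ a).inv) ≫ mZ = mZ ≫ (ρ a).inv
          rw [Iso.eq_comp_inv, Category.assoc, ← ha, ← MonoidalCategory.whiskerLeft_comp_assoc, Iso.inv_hom_id,
            MonoidalCategory.whiskerLeft_id, Category.id_comp] }
    intro σ
    exact (Subgroup.zpowers_le.2 (show γ ∈ H from by
      show (G ◁ (ρ γ).hom) ≫ mZ = mZ ≫ (ρ γ).hom
      rw [hργ']
      exact whiskerLeft_twTrans s g)) (hγ σ)
  obtain ⟨a₀, ha₀, -⟩ := SGA1Q.desc_existsUnique_isQuot hq' (mZ ≫ e).left (fun σ =>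
    congrArg CommaMorphism.left (show (G ◁ (ρ σ).hom) ≫ mZ ≫ e = mZ ≫ e by
      rw [reassoc_of% hmZ σ, hinv]))
  have hfGe : EssDimLib.fqs (G ◁ e).left :=
    EssDimLib.fqs_of_isPullback (isPullback_whiskerLeft (G := G) e) hfe
  haveI : Epi (G ◁ e).left := by
    obtain ⟨⟨_, _⟩, _⟩ := hfGe
    exact Flat.epi_of_flat_of_surjective _
  have hepi' := EssDimLib.epi_of_fqs hfGe
  let a : G ⊗ P ⟶ P := Over.homMk a₀ (by
    rw [← cancel_epi (G ◁ e).left, ← Category.assoc, ha₀, Over.w (mZ ≫ e), Over.w (G ◁ e)])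
  have ha : (G ◁ e) ≫ a = mZ ≫ e := Over.OverMorphism.ext ha₀
  have hpt : ∀ {V : Over S} (b : V ⟶ G) (q : V ⟶ Z),
      lift b (q ≫ e) ≫ a = lift (b * (q ≫ fst G L)) (q ≫ snd G L) ≫ e := fun {V} b q => by
    rw [← lift_whiskerLeft_assoc, ha, ← Category.assoc]
    congr 1
    exact lift_leftMul b q
  haveI : Epi ((G ⊗ G) ◁ e) := EssDimLib.epi_of_fqs
    (EssDimLib.fqs_of_isPullback (isPullback_whiskerLeft (G := G ⊗ G) e) hfe)
  haveI : Epi (𝟙_ (Over S) ◁ e) := EssDimLib.epi_of_fqs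
    (EssDimLib.fqs_of_isPullback (isPullback_whiskerLeft (G := 𝟙_ (Over S)) e) hfe)
  let act : AlgGrp.Action G P :=
    { act := a
      one_act := by
        rw [← cancel_epi (𝟙_ (Over S) ◁ e), whisker_exchange_assoc, ha, ← Category.assoc,
          show (η[G] ▷ Z) ≫ mZ = (λ_ Z).hom from (AlgSt.leftMul G L).one_act, leftUnitor_naturality]
      mul_act := by
        rw [← cancel_epi ((G ⊗ G) ◁ e), whisker_exchange_assoc, ha, ← Category.assoc,
          show (μ[G] ▷ Z) ≫ mZ = (α_ G G Z).hom ≫ (G ◁ mZ) ≫ mZ from (AlgSt.leftMul G L).mul_act,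
          associator_naturality_right_assoc, ← MonoidalCategory.whiskerLeft_comp_assoc, ha,
          MonoidalCategory.whiskerLeft_comp]
        simp only [Category.assoc]
        rw [ha] }
  have hπe : e ≫ π = snd G L ≫ u := hsq.w
  have haπ : a ≫ π = snd G P ≫ π := by
    rw [← cancel_epi (G ◁ e), reassoc_of% ha, hπe, whiskerLeft_snd_assoc, hπe]
    exact lift_snd_assoc _ _ _ |>.trans (Category.assoc _ _ _)
  -- freeness
  have hfree' : ∀ {V : Over S} (b b' : V ⟶ G) (q : V ⟶ P), lift b q ≫ a = lift b' q ≫ a → b = b' := by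
    intro V b b' q h
    let d := pullback.fst (q ≫ π) u
    let v := pullback.snd (q ≫ π) u
    have hd : EssDimLib.fqs d.left := EssDimLib.fqs_of_isPullback (IsPullback.of_hasPullback _ _) hfu
    have := EssDimLib.epi_of_fqs hd
    let z := hsq.lift (d ≫ q) v (by rw [Category.assoc]; exact pullback.condition)
    have hz₁ : z ≫ e = d ≫ q := hsq.lift_fst _ _ _
    have hz₂ : z ≫ snd G L = v := hsq.lift_snd _ _ _
    have h' := congrArg (d ≫ ·) h
    simp only [comp_lift_assoc, ← hz₁, hpt, hz₂] at h'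
    have h'' := congrArg (· ≫ fst G L) (hsq.hom_ext h' (by simp))
    simp only [lift_fst] at h''
    exact (cancel_epi d).1 (mul_right_cancel h'')
  let W2 := pullback π π
  let p : W2 ⟶ P := pullback.fst π π
  let q : W2 ⟶ P := pullback.snd π π
  obtain ⟨b, hb⟩ : ∃ b : W2 ⟶ G, lift b q ≫ a = p := by
    let d := pullback.fst (q ≫ π) u
    let v := pullback.snd (q ≫ π) u
    have hd : EssDimLib.fqs d.left := EssDimLib.fqs_of_isPullback (IsPullback.of_hasPullback _ _) hfu
    have := EssDimLib.epi_of_fqs hd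
    let zp := hsq.lift (d ≫ p) v (by
      rw [Category.assoc, show p ≫ π = q ≫ π from pullback.condition]; exact pullback.condition)
    let zq := hsq.lift (d ≫ q) v (by rw [Category.assoc]; exact pullback.condition)
    have hzp₁ : zp ≫ e = d ≫ p := hsq.lift_fst _ _ _
    have hzp₂ : zp ≫ snd G L = v := hsq.lift_snd _ _ _
    have hzq₁ : zq ≫ e = d ≫ q := hsq.lift_fst _ _ _
    have hzq₂ : zq ≫ snd G L = v := hsq.lift_snd _ _ _
    let b' := (zp ≫ fst G L) * (zq ≫ fst G L)⁻¹
    have hb' : lift b' (d ≫ q) ≫ a = d ≫ p := by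
      rw [← hzq₁, hpt, inv_mul_cancel_right, hzq₂, ← hzp₂, ← comp_lift, lift_fst_snd, Category.comp_id, hzp₁]
    obtain ⟨b, hb⟩ := EssDimLib.exists_desc_over d hd b' (fun {V} g₁ g₂ h => hfree' _ _ (g₁ ≫ d ≫ q) (by
      rw [← comp_lift_assoc, hb']
      rw [show g₁ ≫ d ≫ q = g₂ ≫ d ≫ q by rw [reassoc_of% h], show g₁ ≫ d ≫ p = g₂ ≫ d ≫ p by rw [reassoc_of% h],
        ← comp_lift_assoc, hb']))
    refine ⟨b, ?_⟩
    rw [← cancel_epi d, comp_lift_assoc, hb, hb']
  have hcart : IsPullback a (snd G P) π π := by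
    refine IsPullback.mk ⟨haπ⟩ ⟨PullbackCone.IsLimit.mk _
      (fun c => pullback.lift c.fst c.snd c.condition ≫ lift b q) ?_ ?_ ?_⟩
    · intro c
      rw [Category.assoc, hb]
      exact pullback.lift_fst _ _ _
    · intro c
      rw [Category.assoc, lift_snd]
      exact pullback.lift_snd _ _ _
    · intro c m hm₁ hm₂
      rw [comp_lift]
      refine CartesianMonoidalCategory.hom_ext _ _ ?_ ?_
      · rw [lift_fst]
        refine hfree' _ _ c.snd ?_
        have e1 : lift (m ≫ fst G P) c.snd ≫ a = c.fst := by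
          rw [show lift (m ≫ fst G P) c.snd = m from CartesianMonoidalCategory.hom_ext _ _ (by simp) (by
            rw [lift_snd, hm₂]), hm₁]
        have e2 : lift (pullback.lift c.fst c.snd c.condition ≫ b) c.snd ≫ a = c.fst := by
          calc _ = pullback.lift c.fst c.snd c.condition ≫ lift b q ≫ a := by
                rw [comp_lift_assoc, show pullback.lift c.fst c.snd c.condition ≫ q = c.snd from pullback.lift_snd _ _ _]
            _ = c.fst := by rw [hb]; exact pullback.lift_fst _ _ _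
        exact e1.trans e2.symm
      · rw [lift_snd, hm₂]
        exact (pullback.lift_snd _ _ _).symm
  let t : L ⟶ P := lift 1 (𝟙 L) ≫ e
  have htπ : t ≫ π = u := by rw [Category.assoc, hπe, lift_snd_assoc, Category.id_comp]
  -- the map to `X`
  let χ : Z ⟶ X := (G ◁ x) ≫ aX.act
  have hχ : ∀ {V : Over S} (b : V ⟶ G) (l : V ⟶ L), lift b l ≫ χ = lift b (l ≫ x) ≫ aX.act :=
    fun b l => lift_whiskerLeft_assoc _ _ _ _
  have hχinv : ∀ σ, (ρ σ).hom ≫ χ = χ := by
    let H : Subgroup Γ :=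
      { carrier := {σ | (ρ σ).hom ≫ χ = χ}
        one_mem' := by
          show (ρ 1).hom ≫ χ = χ
          rw [map_one]; exact Category.id_comp _
        mul_mem' := fun {a b} (ha : _ = _) (hb : _ = _) => by
          show (ρ (a * b)).hom ≫ χ = χ
          rw [map_mul]
          show ((ρ b).hom ≫ (ρ a).hom) ≫ χ = χ
          rw [Category.assoc, ha, hb]
        inv_mem' := fun {a} (ha : _ = _) => by
          show (ρ a⁻¹).hom ≫ χ = χ
          rw [map_inv]
          show (ρ a).inv ≫ χ = χ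
          rw [Iso.inv_comp_eq, ha] }
    intro σ
    exact (Subgroup.zpowers_le.2 (show γ ∈ H from by
      show (ρ γ).hom ≫ χ = χ
      rw [hργ']
      show lift _ _ ≫ χ = χ
      rw [hχ, ← act_mul, Category.assoc, ← comp_lift_assoc, hx, ← hχ, lift_fst_snd, Category.id_comp])) (hγ σ)
  obtain ⟨φ₀, hφ₀, -⟩ := SGA1Q.desc_existsUnique_isQuot he χ.left
    (fun σ => congrArg CommaMorphism.left (hχinv σ))
  haveI : Epi e.left := by
    obtain ⟨⟨_, _⟩, _⟩ := hfe
    exact Flat.epi_of_flat_of_surjective _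
  let φ : P ⟶ X := Over.homMk φ₀ (by rw [← cancel_epi e.left, ← Category.assoc, show e.left ≫ φ₀ = χ.left from hφ₀, Over.w χ, Over.w e])
  have hφ : e ≫ φ = χ := Over.OverMorphism.ext hφ₀
  refine ⟨⟨T, P, act, π, hcart, ?_, φ, ?_⟩, rfl, t, ?_, ?_, ?_⟩
  · refine ⟨Presieve.singleton u.left, (Scheme.singleton_mem_precoverage_iff _ _).2
      ⟨‹Surjective u.left›.surj, ‹Etale u.left›⟩, fun T' f hf => ?_⟩
    obtain ⟨⟩ := hf
    exact ⟨t.left, congrArg CommaMorphism.left htπ⟩
  · show a ≫ φ = (G ◁ φ) ≫ aX.act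
    rw [← cancel_epi (G ◁ e), reassoc_of% ha, ← MonoidalCategory.whiskerLeft_comp_assoc, hφ]
    exact (triv Scheme.etalePrecoverage G aX x).eqv
  · simpa using htπ
  · show lift g ((ρ₀ γ).hom ≫ t) ≫ a = t
    rw [show (ρ₀ γ).hom ≫ t = ((ρ₀ γ).hom ≫ lift 1 (𝟙 L)) ≫ e from (Category.assoc _ _ _).symm, hpt]
    have h1 : lift 1 (𝟙 L) ≫ r = lift g (ρ₀ γ).hom := by
      apply CartesianMonoidalCategory.hom_ext <;> simp [r, twTrans, MonObj.comp_mul, s]
    simp only [Category.assoc, lift_fst, lift_snd, MonObj.comp_one, _root_.mul_one, Category.comp_id]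
    rw [← h1, Category.assoc, ← hργ', hinv]
  · show t ≫ φ = x
    rw [Category.assoc, hφ, hχ, Category.id_comp, act_one]

end Groth.Agent.ZH85.StackCount
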