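import Groth.Agent.ZH85.StackCount.StabMass
import Groth.Agent.ZH85.StackCount.FinitePts
import Mathlib.AlgebraicGeometry.AffineSpace

/-! Orbits on a finite scheme of a group with unipotent identity component, and rational points of affine space. -/

noncomputable section

set_option autoImplicit false
set_option backward.isDefEq.respectTransparency false
set_option backward.isDefEq.respectTransparency.types false

universe u

open CategoryTheory CategoryTheory.Limits MonoidalCategory CartesianMonoidalCategory MonObj AlgebraicGeometry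
open GalTw

namespace Groth.Agent.ZH85.StackCount

open Groth.Agent.GrpSchLib (act_mul act_one)

variable {k : Type u} [Field k] [Finite k] {kb : Type u} [Field kb] [Algebra k kb] [IsAlgClosure k kb]
  {F : Over (Spec (CommRingCat.of k))} [GrpObj F] [LocallyOfFiniteType F.hom] [QuasiCompact F.hom]
  [IsAffineHom F.hom]

/-- The identity component over the closure, as a closed set. -/
theorem exists_component (hFu : Red.HasNoSubtorus kb (bcK kb F)) (d : ℕ)
    (hd : topologicalKrullDim ↥F.left = (d : WithBot ℕ∞)) :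
    ∃ W : Set (bX kb F).left, IsClosed W ∧ IsIrreducible W ∧ (1 : SGA7.Pts kb F) ∈ ptsIn W ∧
      (∀ a ∈ ptsIn W, ∀ b ∈ ptsIn W, a * b ∈ ptsIn W) ∧ (∀ a ∈ ptsIn W, a⁻¹ ∈ ptsIn W) ∧
      (∀ a ∈ ptsIn W, ∃ N, a ^ ringChar k ^ N = 1) ∧ topologicalKrullDim ↥W = (d : WithBot ℕ∞) ∧
      (∀ c : SGA7.Pts kb F, ∀ a ∈ ptsIn W, c * a * c⁻¹ ∈ ptsIn W) ∧
      (∀ g : SGA7.Pts kb F, ∀ a ∈ ptsIn W, g * (fs k k kb ≫ a) * g⁻¹ ∈ ptsIn W) ∧
      ∃ R : Set (SGA7.Pts kb F), R.Finite ∧ ∀ a : SGA7.Pts kb F, ∃ r ∈ R, r⁻¹ * a ∈ ptsIn W := by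
  haveI : IsAlgClosed kb := IsAlgClosure.isAlgClosed k
  haveI : LocallyOfFiniteType (𝟙_ (Over (Spec (CommRingCat.of k)))).hom :=
    inferInstanceAs (LocallyOfFiniteType (𝟙 (Spec (CommRingCat.of k))))
  haveI : Subsingleton ↥(Spec (CommRingCat.of k)) := FibDim.subsingleton_spec_field k
  haveI : Subsingleton ↥(SGA7.pt (K := k) kb).left := FibDim.subsingleton_spec_field kb
  haveI : Subsingleton ↥(Spec (CommRingCat.of kb)) := FibDim.subsingleton_spec_field kb
  haveI : Nonempty ↥(SGA7.pt (K := k) kb).left := ⟨IsLocalRing.closedPoint kb⟩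
  haveI : LocallyOfFiniteType (bcK kb F).hom :=
    inferInstanceAs (LocallyOfFiniteType (pullback.snd F.hom (SGA7.pt (K := k) kb).hom))
  have hdim : topologicalKrullDim ↥(bcK kb F).left = (d : WithBot ℕ∞) :=
    (FibDim.topologicalKrullDim_baseChange
      (IsPullback.of_hasPullback F.hom (SGA7.pt (K := k) kb).hom)).trans hd
  obtain ⟨W, h1, h2, h3, h4, h5, h6, h7, -, h9, h10, R, hR, hcov⟩ :=
    exists_stabComponent (AlgSt.trivAction F) (toUnit (SGA7.pt (K := k) kb)) (bcK kb F) (𝟙 _)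
      (fun T g => ⟨fun _ => toUnit_unique _ _, fun _ => ⟨_, Category.comp_id _⟩⟩) hFu d hdim
  exact ⟨W, h1, h2, h3, h4, h5, h6, h7, fun c => h9 c (toUnit_unique _ _), fun g => h10 g (toUnit_unique _ _),
    R, hR, fun a => hcov a (toUnit_unique _ _)⟩

omit [QuasiCompact F.hom] [IsAffineHom F.hom] [Finite k] in
/-- An irreducible set through the identity fixes every point of a finite scheme. -/
theorem fixes_of_isFinite {W : Set (bX kb F).left} (hW : IsClosed W) (hirr : IsIrreducible W)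
    (hone : (1 : SGA7.Pts kb F) ∈ ptsIn W) {E : Over (Spec (CommRingCat.of k))} [IsFinite E.hom]
    (aE : AlgGrp.Action F E) (e : SGA7.Pts kb E) : ∀ a ∈ ptsIn W, lift a e ≫ aE.act = e := by
  classical
  haveI : IsAlgClosed kb := IsAlgClosure.isAlgClosed k
  haveI : Finite (SGA7.pt (K := k) kb ⟶ E) := finite_points_of_isFinite kb
  letI := Fintype.ofFinite (SGA7.pt (K := k) kb ⟶ E)
  haveI : JacobsonSpace (bX kb F).left := LocallyOfFiniteType.jacobsonSpace
    (show (bX kb F).left ⟶ Spec (CommRingCat.of kb) from (snd F (SGA7.pt (K := k) kb)).left)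
  have ho : ∀ a : SGA7.Pts kb F, (orbitB aE e).left (cpt a) = cpt (lift a e ≫ aE.act) := fun a => by
    rw [cpt_map (orbitB aE e) (lift_snd _ _) a, orbitB, lift_fst, comp_lift_assoc, lift_fst, lift_snd_assoc,
      Category.id_comp]
  let P : Finset (Set (bX kb F).left) := Finset.univ.image fun e' => (orbitB aE e).left ⁻¹' {cpt e'}
  have hPc : ∀ Z ∈ P, IsClosed Z := fun Z hZ => by
    obtain ⟨e', -, rfl⟩ := Finset.mem_image.1 hZ
    exact (isClosed_cpt e').preimage (orbitB aE e).left.continuous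
  have hWP : W ⊆ ⋃₀ (P : Set (Set (bX kb F).left)) := by
    have hcl : IsClosed (⋃₀ (P : Set (Set (bX kb F).left))) := by
      rw [Set.sUnion_eq_biUnion]
      exact P.finite_toSet.isClosed_biUnion fun Z hZ => hPc Z hZ
    rw [← hW.closure_eq, ← JacobsonSpace.closure_inter_closedPoints_eq_closure hW.isLocallyClosed]
    refine closure_minimal ?_ hcl
    rintro w ⟨-, hwc⟩
    obtain ⟨b, rfl⟩ := exists_cpt hwc
    exact ⟨_, Finset.mem_image.2 ⟨lift b e ≫ aE.act, Finset.mem_univ _, rfl⟩, ho b⟩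
  obtain ⟨Z, hZ, hWZ⟩ := isIrreducible_iff_sUnion_isClosed.1 hirr P hPc hWP
  obtain ⟨e', -, rfl⟩ := Finset.mem_image.1 hZ
  have hall : ∀ a ∈ ptsIn W, lift a e ≫ aE.act = e' := fun a ha =>
    cpt_injective ((ho a).symm.trans (hWZ ha))
  intro a ha
  exact (hall a ha).trans ((hall 1 hone).symm.trans (act_one aE e))

omit [GrpObj F] [LocallyOfFiniteType F.hom] [QuasiCompact F.hom] [IsAffineHom F.hom] in
/-- Rational points of affine space. -/
theorem card_pts_affine_space {V : Over (Spec (CommRingCat.of k))} (n : ℕ)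
    (eV : V.left ≅ AffineSpace (ULift.{u} (Fin n)) (Spec (CommRingCat.of k)))
    (heV : eV.hom ≫ (AffineSpace (ULift.{u} (Fin n)) (Spec (CommRingCat.of k)) ↘ Spec (CommRingCat.of k)) = V.hom) :
    Nat.card {v : SGA7.Pts kb V // fs k k kb ≫ v = v} = Nat.card k ^ n := by
  let B := Spec (CommRingCat.of k)
  letI : (Spec (CommRingCat.of k)).Over B := ⟨(SGA7.pt (K := k) k).hom⟩
  let A := AffineSpace (ULift.{u} (Fin n)) B
  let e1 : (SGA7.pt (K := k) k ⟶ V) ≃ {f : Spec (CommRingCat.of k) ⟶ A // f.IsOver B} :=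
    { toFun := fun v => ⟨v.left ≫ eV.hom, ⟨by
        show (v.left ≫ eV.hom) ≫ _ = _
        rw [Category.assoc, heV]
        exact Over.w v⟩⟩
      invFun := fun f => Over.homMk (f.1 ≫ eV.inv) (by
        show (f.1 ≫ eV.inv) ≫ V.hom = _
        rw [← heV, Category.assoc, Iso.inv_hom_id_assoc]
        exact f.2.1)
      left_inv := fun v => Over.OverMorphism.ext (by simp)
      right_inv := fun f => Subtype.ext (by simp) }
  let e2 : Γ(Spec (CommRingCat.of k), ⊤) ≃ k :=
    (Scheme.ΓSpecIso (CommRingCat.of k)).commRingCatIsoToRingEquiv.toEquiv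
  rw [Nat.card_congr ((fixedEquiv k k kb V).symm.trans (e1.trans ((AffineSpace.homOverEquiv _).trans
    (Equiv.piCongrRight fun _ => e2))))]
  rw [Nat.card_fun, Nat.card_ulift, Nat.card_fin]

end Groth.Agent.ZH85.StackCount
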