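import Groth.Agent.ZH85.StackCount.Rational
import Groth.Agent.SGA1Q.Properties

/-! The form of a group defined by a twisted Frobenius on the points over the closure. -/

noncomputable section

set_option autoImplicit false
set_option backward.isDefEq.respectTransparency false
set_option backward.isDefEq.respectTransparency.types false

universe u

open CategoryTheory CategoryTheory.Limits MonoidalCategory CartesianMonoidalCategory MonObj AlgebraicGeometry

namespace Groth.Agent.ZH85.StackCount

open Groth.Agent.EssDimLib (spMap spMap_comp' fqs fqs_spMap)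

section Cyclic

variable {S : Scheme.{u}} {G : Over S} [GrpObj G] {L : Over S}

/-- Twisted conjugation on a product with a cover. -/
def twConj (s : L ⟶ L) (g : L ⟶ G) : End (G ⊗ L) :=
  lift ((snd G L ≫ g)⁻¹ * fst G L * (snd G L ≫ g)) (snd G L ≫ s)

theorem twConj_pow (s : End L) (g : L ⟶ G) (i : ℕ) :
    twConj s g ^ i = lift ((snd G L ≫ twPow s g i)⁻¹ * fst G L * (snd G L ≫ twPow s g i))
      (snd G L ≫ (s ^ i : End L)) := by
  induction i with
  | zero =>
      refine CartesianMonoidalCategory.hom_ext _ _ ?_ ?_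
      · rw [lift_fst, twPow, MonObj.comp_one, inv_one, _root_.one_mul, _root_.mul_one]
        exact Category.id_comp _
      · rw [lift_snd, pow_zero, pow_zero]; exact (Category.id_comp _).trans (Category.comp_id _).symm
  | succ i ih =>
      rw [pow_succ, End.mul_def, ih, twConj]
      refine CartesianMonoidalCategory.hom_ext _ _ ?_ ?_
      · simp only [Category.assoc, lift_fst, MonObj.comp_mul, GrpObj.comp_inv, lift_snd_assoc, twPow,
          mul_inv_rev, _root_.mul_assoc]
      · simp only [Category.assoc, lift_snd, lift_snd_assoc, pow_succ, End.mul_def]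

end Cyclic

variable {k : Type u} [Field k] [Finite k] {kb : Type u} [Field kb] [Algebra k kb] [IsAlgClosure k kb]
  {G : Over (Spec (CommRingCat.of k))} [GrpObj G] [IsAffineHom G.hom] [LocallyOfFiniteType G.hom]

/-- The twisted form: a scheme over `k` whose base change is `G` over the closure, the arithmetic Frobenius
acting through `a ↦ g Frob(a) g⁻¹`. -/
theorem exists_twistedForm (g : SGA7.pt (K := k) kb ⟶ G) :
    ∃ (Y : Over (Spec (CommRingCat.of k))) (_ : LocallyOfFiniteType Y.hom) (_ : QuasiCompact Y.hom)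
      (E : G ⊗ SGA7.pt (K := k) kb ⟶ Y),
      IsPullback E.left (snd G (SGA7.pt (K := k) kb)).left Y.hom (SGA7.pt (K := k) kb).hom ∧
      ∀ a : SGA7.pt (K := k) kb ⟶ G, fs k k kb ≫ lift a (𝟙 _) ≫ E =
        lift (g * (fs k k kb ≫ a) * g⁻¹) (𝟙 _) ≫ E := by
  let S := Spec (CommRingCat.of k)
  let P := SGA7.pt (K := k) kb
  obtain ⟨N₀, hN₀, hN₀1⟩ := exists_twPow_eq_one (k' := k) g
  obtain ⟨L₀, _, hL₀⟩ := exists_level (k' := k) g
  let N := N₀ * Module.finrank k L₀
  have hN : 0 < N := Nat.mul_pos hN₀ Module.finrank_pos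
  obtain ⟨F, _, hFN, hF⟩ := exists_fixedLevel (k := k) (k' := k) (kb := kb) N hN
  obtain ⟨g₀, hg₀⟩ := hL₀ F (le_fixedLevel (k := k) (Dvd.intro_left _ rfl) hF)
  haveI : Finite F := Module.finite_of_finite k
  haveI := isGalois_level (k := k) F ‹Finite k›
  let L := SGA7.pt (K := k) F
  let γ : F ≃ₐ[k] F := (frobLv k F)⁻¹
  let ρ₀ := galA k k F
  let s : End L := galS k k F (frobLv k F)
  have hs : (ρ₀ γ).hom = s := galA_frobLv F
  have hN1 : twPow (fs k k kb) g N = 1 := by
    let sK : End P := fs k k kb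
    have hfix : (sK ^ N₀ : End P) ≫ twPow (fs k k kb) g N₀ = twPow (fs k k kb) g N₀ := by
      rw [hN₀1, MonObj.comp_one]
    rw [show N = N₀ * Module.finrank k L₀ from rfl, twPow_mul sK g N₀ hfix, hN₀1, one_pow]
  have hg₀N : twPow s g₀ N = 1 := by
    haveI := epi_lres (k := k) F
    rw [← cancel_epi (lres (k := k) F), comp_twPow _ (fs_lres F), hg₀, hN1, MonObj.comp_one]
  have hsn : s ^ N = 1 := by
    have h1 : Aut.toEnd L (ρ₀ γ) = s := hs
    rw [← h1, ← map_pow, ← map_pow, ← hFN, ← orderOf_frobLv (k := k) F, pow_orderOf_eq_one, map_one, map_one]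
  let Z : Over S := G ⊗ L
  let r : End Z := twConj s g₀
  have hrn : r ^ N = 1 := by
    rw [twConj_pow, hsn, hg₀N]
    refine CartesianMonoidalCategory.hom_ext _ _ ?_ ?_
    · rw [lift_fst, MonObj.comp_one, inv_one, _root_.one_mul, _root_.mul_one]
      exact (Category.id_comp _).symm
    · rw [lift_snd]
      exact (Category.comp_id _).trans (Category.id_comp _).symm
  let r' : Aut Z := Aut.unitsEndEquivAut Z (Units.ofPowEqOne r N hrn hN.ne')
  have hr'n : r' ^ N = 1 := by
    rw [← map_pow, show Units.ofPowEqOne r N hrn hN.ne' ^ N = 1 from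
      Units.ext (by rw [Units.val_pow_eq_pow_val]; exact hrn), map_one]
  have hord : orderOf γ = N := (orderOf_frobLv (k := k) F).trans hFN
  have hγ : ∀ σ : F ≃ₐ[k] F, σ ∈ Subgroup.zpowers γ := mem_zpowers_frobLv F
  let ρ : (F ≃ₐ[k] F) →* Aut Z :=
    monoidHomOfForallMemZpowers hγ (orderOf_dvd_of_pow_eq_one (by rw [hord]; exact hr'n))
  have hργ : ρ γ = r' := monoidHomOfForallMemZpowers_apply_gen hγ _
  have hργ' : (ρ γ).hom = r := by rw [hργ]; rfl
  have hsnd : ∀ σ, (ρ σ).hom ≫ snd G L = snd G L ≫ (ρ₀ σ).hom := by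
    let H : Subgroup (F ≃ₐ[k] F) :=
      { carrier := {σ | (ρ σ).hom ≫ snd G L = snd G L ≫ (ρ₀ σ).hom}
        one_mem' := by
          show (ρ 1).hom ≫ snd G L = snd G L ≫ (ρ₀ 1).hom
          rw [map_one, map_one]
          exact (Category.id_comp _).trans (Category.comp_id _).symm
        mul_mem' := fun {a b} (ha : _ = _) (hb : _ = _) => by
          show (ρ (a * b)).hom ≫ snd G L = snd G L ≫ (ρ₀ (a * b)).hom
          rw [map_mul, map_mul]
          show ((ρ b).hom ≫ (ρ a).hom) ≫ snd G L = snd G L ≫ (ρ₀ b).hom ≫ (ρ₀ a).hom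
          rw [Category.assoc, ha, reassoc_of% hb]
        inv_mem' := fun {a} (ha : _ = _) => by
          show (ρ a⁻¹).hom ≫ snd G L = snd G L ≫ (ρ₀ a⁻¹).hom
          rw [map_inv, map_inv]
          show (ρ a).inv ≫ snd G L = snd G L ≫ (ρ₀ a).inv
          rw [Iso.inv_comp_eq, reassoc_of% ha, Iso.hom_inv_id, Category.comp_id] }
    intro σ
    exact (Subgroup.zpowers_le.2 (show γ ∈ H from by
      show (ρ γ).hom ≫ snd G L = _
      rw [hργ', hs]; exact lift_snd _ _)) (hγ σ)
  haveI : IsAffineHom (snd G L).left :=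
    MorphismProperty.of_isPullback ((AlgSt.isPullback_fst_snd G L).map (Over.forget S))
      (show IsAffineHom (toUnit G).left from ‹IsAffineHom G.hom›)
  haveI : IsAffine L.left := inferInstanceAs (IsAffine (Spec (CommRingCat.of F)))
  haveI : IsAffine Z.left := isAffine_of_isAffineHom (snd G L).left
  obtain ⟨Y₀, e₀, he⟩ := SGA1Q.exists_quotient (leftAut ρ) (fun z => ⟨⊤, isAffineOpen_top _, fun σ => trivial⟩)
  let u := lstr k k F
  let T := SGA7.pt (K := k) k
  have hsndu : ∀ σ, (leftAut ρ σ).hom ≫ (snd G L).left ≫ u.left = (snd G L).left ≫ u.left := fun σ => by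
    rw [← Category.assoc, show (leftAut ρ σ).hom ≫ (snd G L).left = (snd G L).left ≫ (leftAut ρ₀ σ).hom from
      congrArg CommaMorphism.left (hsnd σ), Category.assoc, (isQuot_galA k k F).inv]
  obtain ⟨π₀, hπ₀, -⟩ := SGA1Q.desc_existsUnique_isQuot he ((snd G L).left ≫ u.left) hsndu
  haveI : Flat π₀ := flat_over_field π₀
  have hsq₀ : IsPullback e₀ (snd G L).left π₀ u.left :=
    isPullback_of_free_quot he (isQuot_galA k k F) (free_galA k k F) (v := (snd G L).left)
      (fun σ => congrArg CommaMorphism.left (hsnd σ)) hπ₀.symm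
  have hT : T.hom = 𝟙 _ := by
    show Spec.map (CommRingCat.ofHom (algebraMap k k)) = 𝟙 _
    rw [← Spec.map_id]
    rfl
  let Y : Over S := Over.mk π₀
  let e : Z ⟶ Y := Over.homMk e₀ (by
    show e₀ ≫ π₀ = _
    rw [hπ₀, ← Over.w (snd G L), show u.left = L.hom by rw [← Over.w u, hT]; exact (Category.comp_id _).symm])
  have hf : e₀ ≫ π₀ = Z.hom := Over.w e
  have hlft : LocallyOfFiniteType Z.hom := by
    haveI : LocallyOfFiniteType (snd G L).left :=
      MorphismProperty.of_isPullback ((AlgSt.isPullback_fst_snd G L).map (Over.forget S))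
        (show LocallyOfFiniteType (toUnit G).left from ‹LocallyOfFiniteType G.hom›)
    haveI : LocallyOfFiniteType L.hom :=
      (HasRingHomProperty.Spec_iff (P := @LocallyOfFiniteType)).2
        (RingHom.finiteType_algebraMap.2 inferInstance)
    rw [← Over.w (snd G L)]
    infer_instance
  have hqc : QuasiCompact Z.hom := by
    haveI : CompactSpace Z.left := inferInstance
    exact (quasiCompact_iff_compactSpace Z.hom).2 inferInstance
  have hinv : ∀ σ, (ρ σ).hom ≫ e = e := fun σ => Over.OverMorphism.ext (he.inv σ)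
  let E : G ⊗ P ⟶ Y := (G ◁ lres (k := k) F) ≫ e
  refine ⟨Y, SGA1Q.locallyOfFiniteType_of_isQuot he hf hlft, SGA1Q.quasiCompact_of_isQuot he hf hqc, E, ?_, ?_⟩
  · have h1 : IsPullback (G ◁ lres (k := k) F).left (snd G P).left (snd G L).left (lres (k := k) F).left :=
      (AlgSt.isPullback_whiskerLeft (G := G) (lres (k := k) F)).map (Over.forget S)
    have h2 := h1.paste_horiz hsq₀
    rw [show (lres (k := k) F).left ≫ u.left = P.hom by
      rw [← Over.comp_left, lres_str, ← Over.w (lstr k k kb), hT]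
      exact (Category.comp_id _).symm] at h2
    exact h2
  · intro a
    have hE : ∀ b : P ⟶ G, lift b (𝟙 P) ≫ E = lift b (lres (k := k) F) ≫ e := fun b => by
      rw [lift_whiskerLeft_assoc, Category.id_comp]
    rw [hE, hE, comp_lift_assoc, fs_lres]
    conv_rhs => rw [← hinv γ, hργ', ← Category.assoc,
      show r = lift ((snd G L ≫ g₀)⁻¹ * fst G L * (snd G L ≫ g₀)) (snd G L ≫ (s : L ⟶ L)) from rfl]
    congr 1
    refine CartesianMonoidalCategory.hom_ext _ _ ?_ ?_
    · rw [lift_fst, Category.assoc, lift_fst]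
      simp only [MonObj.comp_mul, GrpObj.comp_inv]
      erw [lift_fst, lift_snd_assoc]
      rw [hg₀]
      group
    · rw [lift_snd, Category.assoc, lift_snd, lift_snd_assoc]

end Groth.Agent.ZH85.StackCount
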