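import Groth.Agent.ZH85.StackCount.LangTop
import Groth.Agent.ZH85.StackCount.TwistedForm
import Mathlib.AlgebraicGeometry.Morphisms.Integral
import Mathlib.FieldTheory.Normal.Basic
import Mathlib.FieldTheory.IsAlgClosed.Basic

/-! Points of a twisted form and closed sets stable under the twisted Frobenius. -/

noncomputable section

set_option autoImplicit false
set_option backward.isDefEq.respectTransparency false
set_option backward.isDefEq.respectTransparency.types false

universe u

open CategoryTheory CategoryTheory.Limits MonoidalCategory CartesianMonoidalCategory MonObj AlgebraicGeometry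

namespace Groth.Agent.ZH85.StackCount

open Groth.Agent.EssDimLib (spMap spMap_comp' fqs fqs_spMap)

variable {k : Type u} [Field k] [Finite k] {kb : Type u} [Field kb] [Algebra k kb] [IsAlgClosure k kb]

/-- Iterates of the Frobenius on points. -/
theorem fs_pow_comp {Y : Over (Spec (CommRingCat.of k))} (i : ℕ) (y : SGA7.pt (K := k) kb ⟶ Y) :
    (fun z => fs k k kb ≫ z)^[i] y = galS k k kb (frobK k k kb ^ i) ≫ y := by
  induction i with
  | zero =>
      rw [pow_zero, galS_one]
      exact (Category.id_comp y).symm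
  | succ i ih => rw [Function.iterate_succ_apply', ih, ← Category.assoc, pow_succ', galS_mul]

/-- Two points over the closure at the same point differ by a power of the Frobenius. -/
theorem exists_iterate_eq {Y : Over (Spec (CommRingCat.of k))} [LocallyOfFiniteType Y.hom]
    (y y' : SGA7.pt (K := k) kb ⟶ Y)
    (h : y.left (IsLocalRing.closedPoint kb) = y'.left (IsLocalRing.closedPoint kb)) :
    ∃ i : ℕ, (fun z => fs k k kb ≫ z)^[i] y = y' := by
  haveI := isAlgebraic_kb (k' := k) (kb := kb)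
  haveI : IsAlgClosed kb := IsAlgClosure.isAlgClosed k
  haveI : Normal k kb := IsAlgClosure.normal k kb
  let e := Scheme.SpecToEquivOfField kb Y.left
  obtain ⟨⟨p, f⟩, hpf⟩ : ∃ v, e y.left = v := ⟨_, rfl⟩
  obtain ⟨⟨p', f'⟩, hpf'⟩ : ∃ v, e y'.left = v := ⟨_, rfl⟩
  have hyl : Spec.map f ≫ Y.left.fromSpecResidueField p = y.left := by
    rw [show y.left = e.symm ⟨p, f⟩ by rw [← hpf, Equiv.symm_apply_apply]]
    rfl
  have hyl' : Spec.map f' ≫ Y.left.fromSpecResidueField p' = y'.left := by
    rw [show y'.left = e.symm ⟨p', f'⟩ by rw [← hpf', Equiv.symm_apply_apply]]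
    rfl
  obtain rfl : p = p' := by
    rw [← hyl, ← hyl'] at h
    simpa [Scheme.fromSpecResidueField_apply] using h
  let κ := Y.left.residueField p
  let v : Spec κ ⟶ Spec (CommRingCat.of k) := Y.left.fromSpecResidueField p ≫ Y.hom
  letI : Algebra k κ := (Spec.preimage v).hom.toAlgebra
  have halg : ∀ (w : SGA7.pt (K := k) kb ⟶ Y) (φ : κ ⟶ CommRingCat.of kb),
      Spec.map φ ≫ Y.left.fromSpecResidueField p = w.left → ∀ c, φ.hom (algebraMap k κ c) = algebraMap k kb c := by
    intro w φ hw c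
    have h1 : Spec.map (Spec.preimage v ≫ φ) = Spec.map (CommRingCat.ofHom (algebraMap k kb)) := by
      rw [Spec.map_comp, Spec.map_preimage, ← Category.assoc, hw]
      exact Over.w w
    exact congr($(Spec.map_injective h1).hom c)
  let a : κ →ₐ[k] kb := { f.hom with commutes' := halg y f hyl }
  let a' : κ →ₐ[k] kb := { f'.hom with commutes' := halg y' f' hyl' }
  let χ : a.fieldRange ≃ₐ[k] a'.fieldRange :=
    (AlgEquiv.ofInjectiveField a).symm.trans (AlgEquiv.ofInjectiveField a')
  let σ : kb ≃ₐ[k] kb := χ.liftNormal kb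
  have hσ : ∀ z, σ (a z) = a' z := fun z => by
    have h1 := χ.liftNormal_commutes kb ⟨a z, z, rfl⟩
    refine h1.trans ?_
    show ((AlgEquiv.ofInjectiveField a') ((AlgEquiv.ofInjectiveField a).symm ⟨a z, z, rfl⟩) : kb) = a' z
    rw [show (⟨a z, z, rfl⟩ : a.fieldRange) = AlgEquiv.ofInjectiveField a z from rfl, AlgEquiv.symm_apply_apply]
    rfl
  have hgal : galS k k kb σ ≫ y = y' := by
    apply Over.OverMorphism.ext
    rw [Over.comp_left, ← hyl, ← hyl', ← Category.assoc]
    congr 1
    show Spec.map (CommRingCat.ofHom _) ≫ Spec.map f = Spec.map f'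
    rw [← Spec.map_comp]
    refine congrArg Spec.map (CommRingCat.hom_ext (RingHom.ext fun z => ?_))
    exact hσ z
  obtain ⟨L, _, hL⟩ := exists_level (k' := k) y
  obtain ⟨yL, hyL⟩ := hL L le_rfl
  haveI := isGalois_level (k := k) L ‹Finite k›
  haveI : Finite L := Module.finite_of_finite k
  letI := Fintype.ofFinite k
  obtain ⟨n, hn⟩ := (FiniteField.bijective_frobeniusAlgEquivOfAlgebraic_pow k L).2 (σ.restrictNormal L)
  refine ⟨n, ?_⟩
  rw [fs_pow_comp, ← hgal, ← hyL, ← Category.assoc, ← Category.assoc,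
    lres_galS L (frobK k k kb ^ (n : ℕ)) (σ.restrictNormal L) ?_, lres_galS L σ (σ.restrictNormal L) ?_]
  · exact fun x => (AlgEquiv.restrictNormal_commutes σ L x).symm
  · intro x
    rw [← hn, frobK_pow_apply, AlgEquiv.coe_pow, FiniteField.coe_frobeniusAlgEquivOfAlgebraic_iterate]
    simp [Nat.card_eq_fintype_card]

/-- Every point is periodic for the Frobenius. -/
theorem exists_period {Y : Over (Spec (CommRingCat.of k))} [LocallyOfFiniteType Y.hom]
    (y : SGA7.pt (K := k) kb ⟶ Y) : ∃ r, 0 < r ∧ (fun z => fs k k kb ≫ z)^[r] y = y := by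
  obtain ⟨L, _, hL⟩ := exists_level (k' := k) y
  obtain ⟨F, _, -, hF⟩ := exists_fixedLevel (k := k) (k' := k) (kb := kb) (Module.finrank k L) Module.finrank_pos
  obtain ⟨yF, hyF⟩ := hL F (le_fixedLevel (k := k) dvd_rfl hF)
  refine ⟨Module.finrank k L, Module.finrank_pos, ?_⟩
  rw [fs_pow_comp, ← hyF, ← Category.assoc, lres_galS F _ 1 fun x => (hF x).1 x.2, galS_one, Category.comp_id]

variable {G : Over (Spec (CommRingCat.of k))} [GrpObj G]

/-- The twisted Frobenius of a group. -/
def twFrob (g a : SGA7.pt (K := k) kb ⟶ G) : SGA7.pt (K := k) kb ⟶ G := g * (fs k k kb ≫ a) * g⁻¹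

variable [LocallyOfFiniteType G.hom] {g : SGA7.pt (K := k) kb ⟶ G} {Y : Over (Spec (CommRingCat.of k))}
  [LocallyOfFiniteType Y.hom] {E : G ⊗ SGA7.pt (K := k) kb ⟶ Y}
  (hE : IsPullback E.left (snd G (SGA7.pt (K := k) kb)).left Y.hom (SGA7.pt (K := k) kb).hom)
  (hfs : ∀ a : SGA7.pt (K := k) kb ⟶ G, fs k k kb ≫ lift a (𝟙 _) ≫ E = lift (twFrob g a) (𝟙 _) ≫ E)

omit [Finite k] [IsAlgClosure k kb] [GrpObj G] [LocallyOfFiniteType G.hom] [LocallyOfFiniteType Y.hom] in
include hE in
theorem form_bijective : Function.Bijective fun a : SGA7.pt (K := k) kb ⟶ G => lift a (𝟙 _) ≫ E := by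
  constructor
  · intro a b h
    have h1 : (lift a (𝟙 (SGA7.pt (K := k) kb))).left = (lift b (𝟙 (SGA7.pt (K := k) kb))).left :=
      hE.hom_ext (congrArg CommaMorphism.left h) (by
        rw [← Over.comp_left, ← Over.comp_left, lift_snd, lift_snd])
    have h2 : lift a (𝟙 (SGA7.pt (K := k) kb)) = lift b (𝟙 (SGA7.pt (K := k) kb)) := Over.OverMorphism.ext h1
    simpa using congrArg (· ≫ fst G (SGA7.pt (K := k) kb)) h2
  · intro y
    let w : SGA7.pt (K := k) kb ⟶ G ⊗ SGA7.pt (K := k) kb :=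
      Over.homMk (hE.lift y.left (𝟙 _) ((Over.w y).trans (Category.id_comp _).symm)) (by
        rw [← Over.w (snd G (SGA7.pt (K := k) kb)), ← Category.assoc, hE.lift_snd]
        exact Category.id_comp _)
    have hw : w ≫ snd G (SGA7.pt (K := k) kb) = 𝟙 _ := Over.OverMorphism.ext (hE.lift_snd _ _ _)
    refine ⟨w ≫ fst G (SGA7.pt (K := k) kb), ?_⟩
    show lift (w ≫ fst G _) (𝟙 _) ≫ E = y
    rw [← hw, ← comp_lift, lift_fst_snd, Category.comp_id]
    exact Over.OverMorphism.ext (hE.lift_fst _ _ _)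

omit [LocallyOfFiniteType G.hom] [LocallyOfFiniteType Y.hom] in
include hfs in
theorem form_iterate (i : ℕ) (a : SGA7.pt (K := k) kb ⟶ G) :
    (fun z => fs k k kb ≫ z)^[i] (lift a (𝟙 _) ≫ E) = lift ((twFrob g)^[i] a) (𝟙 _) ≫ E := by
  induction i with
  | zero => rfl
  | succ i ih => rw [Function.iterate_succ_apply', Function.iterate_succ_apply', ih, hfs]

omit [LocallyOfFiniteType G.hom] in
include hE hfs in
theorem twFrob_periodic (a : SGA7.pt (K := k) kb ⟶ G) : ∃ r, 0 < r ∧ (twFrob g)^[r] a = a := by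
  obtain ⟨r, hr, h⟩ := exists_period (lift a (𝟙 _) ≫ E)
  rw [form_iterate hfs] at h
  exact ⟨r, hr, (form_bijective hE).1 h⟩

variable [IsAlgClosed kb] {W : Set (bX kb G).left} (hW : IsClosed W)
  (hst : ∀ a ∈ ptsIn W, twFrob g a ∈ ptsIn W)

omit [IsAlgClosed kb] [LocallyOfFiniteType G.hom] in
theorem twFrob_iterate_mem (hst : ∀ a ∈ ptsIn W, twFrob g a ∈ ptsIn W) (i : ℕ)
    (a : SGA7.pt (K := k) kb ⟶ G) (ha : a ∈ ptsIn W) : (twFrob g)^[i] a ∈ ptsIn W := by
  induction i with
  | zero => exact ha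
  | succ i ih => rw [Function.iterate_succ_apply']; exact hst _ ih

include hE in
theorem isClosedMap_form : IsClosedMap E.left := by
  haveI : IsIntegralHom (SGA7.pt (K := k) kb).hom := by
    haveI : Algebra.IsAlgebraic k kb := IsAlgClosure.isAlgebraic
    exact IsIntegralHom.SpecMap_iff.2 (algebraMap_isIntegral_iff.2 Algebra.IsAlgebraic.isIntegral)
  haveI : IsIntegralHom E.left := MorphismProperty.of_isPullback hE.flip inferInstance
  exact E.left.isClosedMap

include hE hW hfs hst in
/-- A point lands in the image of a stable closed set only if it lies in it. -/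
theorem mem_ptsIn_iff_form (a : SGA7.pt (K := k) kb ⟶ G) :
    a ∈ ptsIn W ↔ (lift a (𝟙 _) ≫ E).left (IsLocalRing.closedPoint kb) ∈ E.left '' W := by
  refine ⟨fun h => ⟨cpt a, h, rfl⟩, ?_⟩
  rintro ⟨x, hx, hxe⟩
  have hpt : IsClosed ({E.left x} : Set Y.left) := by
    rw [hxe, show (lift a (𝟙 _) ≫ E).left (IsLocalRing.closedPoint kb) = E.left (cpt a) from rfl,
      ← Set.image_singleton]
    exact isClosedMap_form hE _ (isClosed_cpt a)
  haveI : JacobsonSpace (bX kb G).left :=
    LocallyOfFiniteType.jacobsonSpace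
      (show (bX kb G).left ⟶ Spec (CommRingCat.of kb) from (snd G (SGA7.pt (K := k) kb)).left)
  obtain ⟨z, ⟨hzW, hzx⟩, hzc⟩ := nonempty_inter_closedPoints (Z := W ∩ E.left ⁻¹' {E.left x})
    ⟨x, hx, rfl⟩ (hW.inter (hpt.preimage E.left.continuous)).isLocallyClosed
  obtain ⟨b, rfl⟩ := exists_cpt hzc
  obtain ⟨i, hi⟩ := exists_iterate_eq (lift b (𝟙 _) ≫ E) (lift a (𝟙 _) ≫ E)
    ((show (lift b (𝟙 _) ≫ E).left (IsLocalRing.closedPoint kb) = E.left x from hzx).trans hxe)
  rw [form_iterate hfs] at hi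
  rw [← (form_bijective hE).1 hi]
  exact twFrob_iterate_mem hst i b hzW

include hE hW hfs hst in
/-- A stable closed set is the preimage of its image. -/
theorem preimage_image_form : E.left ⁻¹' (E.left '' W) = W := by
  haveI : JacobsonSpace (bX kb G).left :=
    LocallyOfFiniteType.jacobsonSpace
      (show (bX kb G).left ⟶ Spec (CommRingCat.of kb) from (snd G (SGA7.pt (K := k) kb)).left)
  refine Set.Subset.antisymm ?_ (Set.subset_preimage_image _ _)
  have hcl : IsClosed (E.left ⁻¹' (E.left '' W)) :=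
    ((isClosedMap_form hE) _ hW).preimage E.left.continuous
  rw [← hcl.closure_eq, ← JacobsonSpace.closure_inter_closedPoints_eq_closure hcl.isLocallyClosed]
  refine closure_minimal ?_ hW
  rintro z ⟨hz, hzc⟩
  obtain ⟨a, rfl⟩ := exists_cpt hzc
  exact (mem_ptsIn_iff_form hE hfs hW hst a).2 hz

end Groth.Agent.ZH85.StackCount
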