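import Groth.Agent.ZH85.StackCount.Level

/-! Torsors over a finite field through the Frobenius of an algebraic closure. -/

noncomputable section

set_option autoImplicit false
set_option backward.isDefEq.respectTransparency false
set_option backward.isDefEq.respectTransparency.types false

universe u

open CategoryTheory CategoryTheory.Limits MonoidalCategory CartesianMonoidalCategory MonObj AlgebraicGeometry

namespace Groth.Agent.ZH85.StackCount

open Groth.Agent.GrpSchLib (act_mul act_one)

open Groth.Agent.EssDimLib (spMap spMap_comp spMap_comp' fqs fqs_spMap)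

section Powers

variable {S : Scheme.{u}} {G : Over S} [GrpObj G] {L L' : Over S}

theorem twPow_add (s : End L) (g : L ⟶ G) (i j : ℕ) :
    twPow s g (i + j) = twPow s g i * ((s ^ i : End L) ≫ twPow s g j) := by
  induction i with
  | zero =>
      rw [Nat.zero_add, pow_zero]
      exact ((_root_.one_mul _).trans (Category.id_comp _)).symm
  | succ i ih =>
      rw [Nat.succ_add, twPow, ih, MonObj.comp_mul, ← _root_.mul_assoc, twPow, pow_succ, End.mul_def, Category.assoc]

theorem comp_twPow (j : L' ⟶ L) {s : L ⟶ L} {s' : L' ⟶ L'} (h : s' ≫ j = j ≫ s) (g : L ⟶ G) (i : ℕ) :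
    j ≫ twPow s g i = twPow s' (j ≫ g) i := by
  induction i with
  | zero => exact MonObj.comp_one _
  | succ i ih => rw [twPow, MonObj.comp_mul, twPow, ← ih, reassoc_of% h]

theorem twPow_mul (s : End L) (g : L ⟶ G) (n : ℕ) (hfix : (s ^ n : End L) ≫ twPow s g n = twPow s g n) (m : ℕ) :
    twPow s g (n * m) = twPow s g n ^ m := by
  induction m with
  | zero => exact (pow_zero _).symm
  | succ m ih =>
      rw [Nat.mul_succ, Nat.add_comm, twPow_add, ih, MonObj.comp_pow, hfix, pow_succ']

end Powers

variable {k : Type u} [Field k] [Finite k] {k' : Type u} [Field k'] [Algebra k k'] [Module.Finite k k']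
  {kb : Type u} [Field kb] [Algebra k kb] [Algebra k' kb]
  [IsScalarTower k k' kb] [IsAlgClosure k' kb]

variable (k k' kb) in
/-- The arithmetic Frobenius of the closure over `k'`. -/
def frobK : kb ≃ₐ[k'] kb :=
  haveI : Finite k' := Module.finite_of_finite k
  haveI := isAlgebraic_kb (k' := k') (kb := kb)
  Galois.frob (k := k') (K := kb)

theorem frobK_apply (c : kb) : frobK k k' kb c = c ^ Nat.card k' := by
  haveI : Finite k' := Module.finite_of_finite k
  haveI := isAlgebraic_kb (k' := k') (kb := kb)
  exact Galois.frob_apply c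

theorem frobK_pow_apply (j : ℕ) (c : kb) : (frobK k k' kb ^ j) c = c ^ (Nat.card k' ^ j) := by
  induction j generalizing c with
  | zero => simp
  | succ j ih => rw [pow_succ', AlgEquiv.mul_apply, ih, frobK_apply, ← pow_mul, pow_succ]

variable (k k' kb) in
/-- The morphism of `Spec kb` given by the Frobenius. -/
abbrev fs : SGA7.pt (K := k) kb ⟶ SGA7.pt kb := galS k k' kb (frobK k k' kb)

/-- The fields cut out by powers of the Frobenius. -/
theorem exists_fixedLevel (N : ℕ) (hN : 0 < N) :
    ∃ F : IntermediateField k' kb, FiniteDimensional k' F ∧ Module.finrank k' F = N ∧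
      ∀ x : kb, x ∈ F ↔ (frobK k k' kb ^ N) x = x := by
  classical
  haveI : Finite k' := Module.finite_of_finite k
  haveI := isAlgebraic_kb (k' := k') (kb := kb)
  haveI : IsAlgClosed kb := IsAlgClosure.isAlgClosed k'
  let F := IntermediateField.fixedField (Subgroup.zpowers (frobK k k' kb ^ N))
  have hmem : ∀ x : kb, x ∈ F ↔ (frobK k k' kb ^ N) x = x := by
    intro x
    refine ⟨fun h => (IntermediateField.mem_fixedField_iff _ _).1 h _ (Subgroup.mem_zpowers _), fun h => ?_⟩
    refine (IntermediateField.mem_fixedField_iff _ _).2 fun σ hσ => ?_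
    exact Subgroup.zpowers_le.2 (show frobK k k' kb ^ N ∈ MulAction.stabilizer _ x from h) hσ
  let Q := Nat.card k' ^ N
  have hQ : 1 < Q := Nat.one_lt_pow hN.ne' Finite.one_lt_card
  let p : Polynomial k' := Polynomial.X ^ Q - Polynomial.X
  obtain ⟨c, hc⟩ := CharP.exists k'
  haveI := hc
  haveI : Fact (Nat.Prime c) := ⟨CharP.char_is_prime k' c⟩
  have hsep : p.Separable := by
    refine galois_poly_separable c Q ?_
    letI := Fintype.ofFinite k'
    obtain ⟨m, hm, he⟩ := FiniteField.card k' c
    refine dvd_pow ?_ hN.ne'
    rw [Nat.card_eq_fintype_card, he]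
    exact dvd_pow_self c m.ne_zero
  have hset : (F : Set kb) = p.rootSet kb := by
    ext x
    rw [SetLike.mem_coe, hmem, frobK_pow_apply, Polynomial.mem_rootSet]
    simp [p, FiniteField.X_pow_card_sub_X_ne_zero k' hQ, sub_eq_zero, Q]
  have hcard : Nat.card F = Q := by
    show Nat.card (F : Set kb) = Q
    rw [hset, Nat.card_eq_fintype_card, Polynomial.card_rootSet_eq_natDegree hsep (IsAlgClosed.splits _),
      FiniteField.X_pow_card_sub_X_natDegree_eq k' hQ]
  haveI : Finite F := Nat.finite_of_card_ne_zero (by omega)
  haveI : FiniteDimensional k' F := Module.Finite.of_finite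
  refine ⟨F, inferInstance, ?_, hmem⟩
  have h := Module.natCard_eq_pow_finrank (K := k') (V := F)
  rw [hcard] at h
  exact (Nat.pow_right_injective Finite.one_lt_card h).symm

/-- Members of a finite level are fixed by the corresponding power of the Frobenius. -/
theorem le_fixedLevel {L : IntermediateField k' kb} [FiniteDimensional k' L] {N : ℕ}
    (hN : Module.finrank k' L ∣ N) {F : IntermediateField k' kb}
    (hF : ∀ x : kb, x ∈ F ↔ (frobK k k' kb ^ N) x = x) : L ≤ F := by
  haveI : Finite k' := Module.finite_of_finite k
  haveI : Finite L := Module.finite_of_finite k'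
  letI := Fintype.ofFinite L
  obtain ⟨m, rfl⟩ := hN
  intro x hx
  refine (hF x).2 ?_
  rw [frobK_pow_apply, pow_mul, ← Module.natCard_eq_pow_finrank, Nat.card_eq_fintype_card]
  exact congrArg Subtype.val (FiniteField.pow_card_pow m (⟨x, hx⟩ : L))

variable (k) in
/-- The Frobenius of a finite level. -/
def frobLv (L : IntermediateField k' kb) [FiniteDimensional k' L] : L ≃ₐ[k'] L :=
  haveI : Finite k' := Module.finite_of_finite k
  letI := Fintype.ofFinite k'
  FiniteField.frobeniusAlgEquivOfAlgebraic k' L

theorem fs_lres (L : IntermediateField k' kb) [FiniteDimensional k' L] :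
    fs k k' kb ≫ lres L = lres L ≫ galS k k' L (frobLv k L) := by
  refine lres_galS L _ _ fun x => ?_
  haveI : Finite k' := Module.finite_of_finite k
  letI := Fintype.ofFinite k'
  rw [frobK_apply, Nat.card_eq_fintype_card]
  simp [frobLv]

theorem orderOf_frobLv (L : IntermediateField k' kb) [FiniteDimensional k' L] :
    orderOf (frobLv k L)⁻¹ = Module.finrank k' L := by
  haveI : Finite k' := Module.finite_of_finite k
  haveI : Finite L := Module.finite_of_finite k'
  letI := Fintype.ofFinite k'
  rw [orderOf_inv]
  exact FiniteField.orderOf_frobeniusAlgEquivOfAlgebraic k' L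

theorem mem_zpowers_frobLv (L : IntermediateField k' kb) [FiniteDimensional k' L] (σ : L ≃ₐ[k'] L) :
    σ ∈ Subgroup.zpowers (frobLv k L)⁻¹ := by
  haveI : Finite k' := Module.finite_of_finite k
  haveI : Finite L := Module.finite_of_finite k'
  letI := Fintype.ofFinite k'
  rw [Subgroup.zpowers_inv]
  obtain ⟨n, rfl⟩ := (FiniteField.bijective_frobeniusAlgEquivOfAlgebraic_pow k' L).2 σ
  exact Subgroup.npow_mem_zpowers _ _

theorem galA_frobLv (L : IntermediateField k' kb) [FiniteDimensional k' L] :
    (galA k k' L (frobLv k L)⁻¹).hom = galS k k' L (frobLv k L) := by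
  rw [galA_hom, inv_inv]

theorem isGalois_level (L : IntermediateField k' kb) [FiniteDimensional k' L] (hk : Finite k) : IsGalois k' L := by
  haveI : Finite k' := Module.finite_of_finite k
  haveI : Finite L := Module.finite_of_finite k'
  infer_instance

/-- An affine scheme of finite type has finitely many points over a finite field. -/
theorem finite_points {Y : Over (Spec (CommRingCat.of k))} [IsAffineHom Y.hom] [LocallyOfFiniteType Y.hom]
    (L : Type u) [Field L] [Finite L] [Algebra k L] : Finite (SGA7.pt (K := k) L ⟶ Y) := by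
  haveI : IsAffine Y.left := isAffine_of_isAffineHom Y.hom
  let A := Γ(Y.left, ⊤)
  have hU := isAffineOpen_top Y.left
  let v : Spec (CommRingCat.of A) ⟶ Spec (CommRingCat.of k) := hU.fromSpec ≫ Y.hom
  letI : Algebra k A := (Spec.preimage v).hom.toAlgebra
  have hv : Spec.map (CommRingCat.ofHom (algebraMap k A)) = v := Spec.map_preimage v
  have : LocallyOfFiniteType (Spec.map (CommRingCat.ofHom (algebraMap k A))) := by
    rw [hv]; infer_instance
  have hft : Algebra.FiniteType k A :=
    RingHom.finiteType_algebraMap.1 ((HasRingHomProperty.Spec_iff (P := @LocallyOfFiniteType)).1 this)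
  obtain ⟨s, hs⟩ := hft.out
  haveI : Finite (A →ₐ[k] L) := Finite.of_injective (fun f => fun a : (s : Set A) => f a.1) fun f g h =>
    AlgHom.ext_of_adjoin_eq_top hs fun a ha => congrFun h ⟨a, ha⟩
  haveI : IsIso hU.fromSpec := by
    rw [IsAffineOpen.fromSpec_top]; infer_instance
  let w : (SGA7.pt (K := k) L ⟶ Y) → (Spec (CommRingCat.of L) ⟶ Spec (CommRingCat.of A)) :=
    fun y => y.left ≫ inv hU.fromSpec
  refine Finite.of_injective (fun y => ({ (Spec.preimage (w y)).hom with
    commutes' := fun c => by
      have h1 : Spec.map (CommRingCat.ofHom (algebraMap k A) ≫ Spec.preimage (w y)) =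
          Spec.map (CommRingCat.ofHom (algebraMap k L)) := by
        rw [Spec.map_comp, Spec.map_preimage, hv]
        simp only [w, v, Category.assoc, IsIso.inv_hom_id_assoc]
        exact Over.w y
      exact congr($(Spec.map_injective h1).hom c) } : A →ₐ[k] L)) fun y y' h => ?_
  have h2 : Spec.preimage (w y) = Spec.preimage (w y') := by
    ext a
    exact congr($h a)
  apply Over.OverMorphism.ext
  rw [← cancel_mono (inv hU.fromSpec)]
  show w y = w y'
  rw [← Spec.map_preimage (w y), h2, Spec.map_preimage]

end Groth.Agent.ZH85.StackCount
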