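import Groth.Agent.ZH85.StackCount.QFrob
import Groth.Agent.VarDim.IrredFibres
import Groth.Agent.VarDim.FibreDim
import Groth.Agent.NonAbLib.EtaleTorsor
import Mathlib.AlgebraicGeometry.AlgClosed.Basic
import Mathlib.AlgebraicGeometry.Morphisms.FinitePresentation

/-! Lang's theorem for closed irreducible subgroups stable under a twisted Frobenius. -/

noncomputable section

set_option autoImplicit false
set_option backward.isDefEq.respectTransparency false
set_option backward.isDefEq.respectTransparency.types false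

universe u

open CategoryTheory CategoryTheory.Limits MonoidalCategory CartesianMonoidalCategory MonObj AlgebraicGeometry
open Topology

namespace Groth.Agent.ZH85.StackCount

open Groth.Agent.VarDim

/-- An endomorphism preserving the closed points of an irreducible closed set, with finite fibres on them, fixes
the generic point. -/
theorem generic_fixed {K : Type u} [Field K] {X : Scheme.{u}} (p : X ⟶ Spec (CommRingCat.of K))
    [LocallyOfFiniteType p] [JacobsonSpace X] (f : X ⟶ X) (hf : f ≫ p = p) {W : Set X} (hW : IsClosed W) {ξ : X}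
    (hξ : IsGenericPoint ξ W) (hmap : ∀ x ∈ W, IsClosed ({x} : Set X) → f x ∈ W)
    (hfin : ∀ y : X, IsClosed ({y} : Set X) → {x ∈ W | IsClosed ({x} : Set X) ∧ f x = y}.Finite) :
    f ξ = ξ := by
  haveI : LocallyOfFiniteType f := by
    haveI : LocallyOfFiniteType (f ≫ p) := by rw [hf]; infer_instance
    exact locallyOfFiniteType_of_comp f p
  have hWcl : closure (W ∩ closedPoints X) = W := by
    rw [JacobsonSpace.closure_inter_closedPoints_eq_closure hW.isLocallyClosed, hW.closure_eq]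
  have hfW : f ξ ∈ W := by
    have hsub : W ∩ closedPoints X ⊆ f ⁻¹' W := fun x hx => hmap x hx.1 hx.2
    have h := closure_minimal hsub (hW.preimage f.continuous)
    rw [hWcl] at h
    exact h hξ.mem
  obtain ⟨x, hξx, hx⟩ := exists_closed_specialization p ξ
  obtain ⟨x', hξx', -, hfx', hdeg⟩ := exists_fdeg_ge f p hξx
  have hy : IsClosed ({f x} : Set X) := by
    rw [closedPoint_iff_deg_eq_zero p]
    have := deg_map_le f p hf x
    rw [(closedPoint_iff_deg_eq_zero p x).1 hx] at this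
    omega
  have hx'W : closure ({x'} : Set X) ⊆ W :=
    closure_minimal (Set.singleton_subset_iff.2 (hξx'.mem_closed hW hξ.mem)) hW
  have hx'f : closure ({x'} : Set X) ⊆ f ⁻¹' {f x} :=
    closure_minimal (Set.singleton_subset_iff.2 hfx') (hy.preimage f.continuous)
  have hx'fin : (closure ({x'} : Set X) ∩ closedPoints X).Finite :=
    (hfin (f x) hy).subset fun z hz => ⟨hx'W hz.1, hz.2, hx'f hz.1⟩
  have hx'cl : IsClosed ({x'} : Set X) := by
    have h1 : closure (closure ({x'} : Set X) ∩ closedPoints X) = closure ({x'} : Set X) := by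
      rw [JacobsonSpace.closure_inter_closedPoints_eq_closure isClosed_closure.isLocallyClosed, closure_closure]
    have h2 : IsClosed (closure ({x'} : Set X) ∩ closedPoints X) := by
      rw [← Set.biUnion_of_singleton (closure ({x'} : Set X) ∩ closedPoints X)]
      exact hx'fin.isClosed_biUnion fun z hz => hz.2
    rw [h2.closure_eq] at h1
    have hmem : x' ∈ closure ({x'} : Set X) ∩ closedPoints X := by
      rw [h1]; exact subset_closure rfl
    exact hmem.2
  have h0 : fdeg f ξ = 0 := by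
    have := deg_eq_add f p hf x'
    rw [(closedPoint_iff_deg_eq_zero p x').1 hx'cl] at this
    omega
  refine (eq_of_specializes_of_deg_le p (hξ.specializes hfW) ?_).symm
  have := deg_eq_add f p hf ξ
  omega

variable {k : Type u} [Field k] {kb : Type u} [Field kb] [Algebra k kb]

/-- The base change to the closure, in the slice over `k`. -/
abbrev bX (kb : Type u) [Field kb] [Algebra k kb] (X : Over (Spec (CommRingCat.of k))) :
    Over (Spec (CommRingCat.of k)) := X ⊗ SGA7.pt (K := k) kb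

/-- The closed point of the base change attached to a point. -/
def cpt {X : Over (Spec (CommRingCat.of k))} (x : SGA7.pt (K := k) kb ⟶ X) : (bX kb X).left :=
  (lift x (𝟙 (SGA7.pt (K := k) kb))).left (IsLocalRing.closedPoint kb)

variable {X : Over (Spec (CommRingCat.of k))} [LocallyOfFiniteType X.hom]

instance locallyOfFiniteType_bX : LocallyOfFiniteType (snd X (SGA7.pt (K := k) kb)).left :=
  MorphismProperty.of_isPullback ((AlgSt.isPullback_fst_snd X (SGA7.pt (K := k) kb)).map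
    (Over.forget (Spec (CommRingCat.of k)))) ‹LocallyOfFiniteType X.hom›

omit [LocallyOfFiniteType X.hom] in
theorem lift_left_snd (x : SGA7.pt (K := k) kb ⟶ X) :
    (lift x (𝟙 (SGA7.pt (K := k) kb))).left ≫ (snd X (SGA7.pt (K := k) kb)).left = 𝟙 _ :=
  congrArg CommaMorphism.left (lift_snd x (𝟙 (SGA7.pt (K := k) kb)))

variable [IsAlgClosed kb]

theorem isClosed_cpt (x : SGA7.pt (K := k) kb ⟶ X) : IsClosed ({cpt x} : Set (bX kb X).left) :=
  ((pointEquivClosedPoint (snd X (SGA7.pt (K := k) kb)).left) ⟨_, lift_left_snd x⟩).2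

theorem cpt_injective : Function.Injective (cpt (kb := kb) (X := X)) := fun a b h => by
  have h1 := ext_of_apply_closedPoint_eq (snd X (SGA7.pt (K := k) kb)).left (lift_left_snd a) (lift_left_snd b) h
  have h2 : lift a (𝟙 (SGA7.pt (K := k) kb)) = lift b (𝟙 (SGA7.pt (K := k) kb)) := Over.OverMorphism.ext h1
  simpa using congrArg (· ≫ fst X (SGA7.pt (K := k) kb)) h2

theorem exists_cpt {z : (bX kb X).left} (hz : IsClosed ({z} : Set (bX kb X).left)) :
    ∃ x : SGA7.pt (K := k) kb ⟶ X, cpt x = z := by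
  let s := pointOfClosedPoint (snd X (SGA7.pt (K := k) kb)).left z hz
  have hs : s ≫ (snd X (SGA7.pt (K := k) kb)).left = 𝟙 _ := pointOfClosedPoint_comp _ z hz
  let w : SGA7.pt (K := k) kb ⟶ bX kb X := Over.homMk s (by
    show s ≫ (bX kb X).hom = (SGA7.pt (K := k) kb).hom
    rw [← Over.w (snd X (SGA7.pt (K := k) kb)), ← Category.assoc, hs]
    exact Category.id_comp _)
  have hw : w ≫ snd X (SGA7.pt (K := k) kb) = 𝟙 _ := Over.OverMorphism.ext hs
  refine ⟨w ≫ fst X (SGA7.pt (K := k) kb), ?_⟩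
  have he : lift (w ≫ fst X (SGA7.pt (K := k) kb)) (𝟙 _) = w := by
    rw [← hw, ← comp_lift, lift_fst_snd, Category.comp_id]
  rw [cpt, he]
  exact pointOfClosedPoint_apply _ z hz _

omit [LocallyOfFiniteType X.hom] [IsAlgClosed kb] in
theorem cpt_map {Y : Over (Spec (CommRingCat.of k))} (f : bX kb X ⟶ bX kb Y)
    (hf : f ≫ snd Y (SGA7.pt (K := k) kb) = snd X (SGA7.pt (K := k) kb)) (x : SGA7.pt (K := k) kb ⟶ X) :
    f.left (cpt x) = cpt (lift x (𝟙 _) ≫ f ≫ fst Y (SGA7.pt (K := k) kb)) := by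
  have he : lift (lift x (𝟙 _) ≫ f ≫ fst Y (SGA7.pt (K := k) kb)) (𝟙 (SGA7.pt (K := k) kb)) =
      lift x (𝟙 _) ≫ f := by
    refine CartesianMonoidalCategory.hom_ext _ _ (by simp) ?_
    rw [lift_snd, Category.assoc, hf, lift_snd]
  rw [cpt, cpt, he]
  rfl

/-- The points of a subset. -/
def ptsIn (W : Set (bX kb X).left) : Set (SGA7.pt (K := k) kb ⟶ X) := {x | cpt x ∈ W}

variable [Finite k] [IsAlgClosure k kb] {G : Over (Spec (CommRingCat.of k))} [GrpObj G]
  [LocallyOfFiniteType G.hom] [QuasiCompact G.hom]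

/-- The twisted Lang map. -/
def langMap (F : G ⟶ G) (b g : SGA7.pt (K := k) kb ⟶ G) : bX kb G ⟶ bX kb G :=
  lift (fst G (SGA7.pt (K := k) kb) * (snd G (SGA7.pt (K := k) kb) ≫ b) * (fst G (SGA7.pt (K := k) kb) ≫ F)⁻¹ *
    (snd G (SGA7.pt (K := k) kb) ≫ g)⁻¹) (snd G (SGA7.pt (K := k) kb))

omit [IsAlgClosed kb] [Finite k] [IsAlgClosure k kb] [LocallyOfFiniteType G.hom] [QuasiCompact G.hom] in
theorem langMap_snd (F : G ⟶ G) (b g : SGA7.pt (K := k) kb ⟶ G) :
    langMap F b g ≫ snd G (SGA7.pt (K := k) kb) = snd G (SGA7.pt (K := k) kb) := lift_snd _ _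

omit [IsAlgClosed kb] [Finite k] [IsAlgClosure k kb] [LocallyOfFiniteType G.hom] [QuasiCompact G.hom] in
theorem langMap_fst (F : G ⟶ G) (b g x : SGA7.pt (K := k) kb ⟶ G) :
    lift x (𝟙 (SGA7.pt (K := k) kb)) ≫ langMap F b g ≫ fst G (SGA7.pt (K := k) kb) = x * b * (x ≫ F)⁻¹ * g⁻¹ := by
  rw [langMap, lift_fst]
  simp only [MonObj.comp_mul, GrpObj.comp_inv, lift_fst_assoc, lift_snd_assoc, Category.id_comp, lift_fst]

/-- **Lang's theorem.** -/
theorem lang {W : Set (bX kb G).left} (hW : IsClosed W) (hirr : IsIrreducible W)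
    (hmul : ∀ a ∈ ptsIn W, ∀ b ∈ ptsIn W, a * b ∈ ptsIn W) (hinv : ∀ a ∈ ptsIn W, a⁻¹ ∈ ptsIn W)
    (g : SGA7.pt (K := k) kb ⟶ G) (hF : ∀ a ∈ ptsIn W, g * (fs k k kb ≫ a) * g⁻¹ ∈ ptsIn W)
    (hfin : ∀ b : SGA7.pt (K := k) kb ⟶ G, Finite {h : SGA7.pt (K := k) kb ⟶ G // b * (fs k k kb ≫ h) * b⁻¹ = h})
    {a : SGA7.pt (K := k) kb ⟶ G} (ha : a ∈ ptsIn W) :
    ∃ h ∈ ptsIn W, h * g * (fs k k kb ≫ h)⁻¹ = a * g := by
  obtain ⟨F, hFr⟩ := exists_qFrob G kb
  let P := SGA7.pt (K := k) kb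
  let p : (bX kb G).left ⟶ Spec (CommRingCat.of kb) := (snd G P).left
  haveI : JacobsonSpace (bX kb G).left := LocallyOfFiniteType.jacobsonSpace p
  haveI : QuasiCompact p := MorphismProperty.of_isPullback ((AlgSt.isPullback_fst_snd G P).map
    (Over.forget (Spec (CommRingCat.of k)))) ‹QuasiCompact G.hom›
  haveI : IsSeparated G.hom := NonAbLib.isSeparated_grp_field G
  haveI : IsSeparated p := MorphismProperty.of_isPullback ((AlgSt.isPullback_fst_snd G P).map
    (Over.forget (Spec (CommRingCat.of k)))) ‹IsSeparated G.hom›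
  haveI : CompactSpace (bX kb G).left := QuasiCompact.compactSpace_of_compactSpace p
  haveI : IsLocallyNoetherian (bX kb G).left := LocallyOfFiniteType.isLocallyNoetherian p
  haveI : IsNoetherian (bX kb G).left := { }
  have hone : (1 : P ⟶ G) ∈ ptsIn W := by
    rw [← inv_mul_cancel a]; exact hmul _ (hinv _ ha) _ ha
  let ξ := hirr.genericPoint
  have hξ : IsGenericPoint ξ W := hirr.isGenericPoint_genericPoint hW
  let ψ : (P ⟶ G) → (bX kb G ⟶ bX kb G) := fun b => langMap F b g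
  have hψ : ∀ b x, lift x (𝟙 P) ≫ ψ b ≫ fst G P = x * b * (fs k k kb ≫ x)⁻¹ * g⁻¹ := fun b x => by
    rw [← hFr]
    exact langMap_fst F b g x
  have hψpt : ∀ b x, (ψ b).left (cpt x) = cpt (x * b * (fs k k kb ≫ x)⁻¹ * g⁻¹) := fun b x => by
    rw [cpt_map (ψ b) (langMap_snd _ _ _) x, hψ]
  have key : ∀ c ∈ ptsIn W, ∃ V : Set (bX kb G).left, IsOpen V ∧ ξ ∈ V ∧ V ∩ W ⊆ (ψ (c * g)).left '' W := by
    intro c hc
    let f := (ψ (c * g)).left
    have hfp : f ≫ p = p := congrArg CommaMorphism.left (langMap_snd F _ g)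
    haveI : LocallyOfFiniteType f := by
      haveI : LocallyOfFiniteType (f ≫ p) := by rw [hfp]; infer_instance
      exact locallyOfFiniteType_of_comp f p
    haveI : QuasiCompact f := by
      haveI : QuasiCompact (f ≫ p) := by rw [hfp]; infer_instance
      exact QuasiCompact.of_comp f p
    have hmap : ∀ x ∈ W, IsClosed ({x} : Set (bX kb G).left) → f x ∈ W := by
      intro x hx hxc
      obtain ⟨y, rfl⟩ := exists_cpt hxc
      rw [hψpt]
      show _ ∈ ptsIn W
      have h1 : g * (fs k k kb ≫ y⁻¹) * g⁻¹ ∈ ptsIn W := hF _ (hinv _ hx)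
      rw [show y * (c * g) * (fs k k kb ≫ y)⁻¹ * g⁻¹ = y * c * (g * (fs k k kb ≫ y⁻¹) * g⁻¹) by
        rw [GrpObj.comp_inv]; simp only [_root_.mul_assoc]]
      exact hmul _ (hmul _ hx _ hc) _ h1
    have hgen : f ξ = ξ := by
      refine generic_fixed p f hfp hW hξ hmap fun y hy => ?_
      rcases Set.eq_empty_or_nonempty {x ∈ W | IsClosed ({x} : Set (bX kb G).left) ∧ f x = y} with h | ⟨x₀, -, hx₀, hx₀y⟩
      · rw [h]; exact Set.finite_empty
      obtain ⟨y₀, rfl⟩ := exists_cpt hx₀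
      haveI := hfin (c * g)
      refine Set.Finite.subset (Set.finite_range fun h : {h : P ⟶ G // c * g * (fs k k kb ≫ h) * (c * g)⁻¹ = h} =>
        cpt (y₀ * h.1)) ?_
      rintro x ⟨-, hx, hxy⟩
      obtain ⟨z, rfl⟩ := exists_cpt hx
      have e := cpt_injective (((hψpt _ z).symm.trans hxy).trans (hx₀y.symm.trans (hψpt _ y₀)))
      have e' := mul_right_cancel e
      refine ⟨⟨y₀⁻¹ * z, ?_⟩, by simp⟩
      rw [mul_inv_eq_iff_eq_mul, MonObj.comp_mul, GrpObj.comp_inv]
      calc c * g * ((fs k k kb ≫ y₀)⁻¹ * (fs k k kb ≫ z))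
          = y₀⁻¹ * (y₀ * (c * g) * (fs k k kb ≫ y₀)⁻¹) * (fs k k kb ≫ z) := by group
        _ = y₀⁻¹ * (z * (c * g) * (fs k k kb ≫ z)⁻¹) * (fs k k kb ≫ z) := by rw [e']
        _ = y₀⁻¹ * z * (c * g) := by group
    have hWcons : IsConstructible W := by
      rw [← isConstructible_compl]
      exact (TopologicalSpace.NoetherianSpace.isCompact Wᶜ).isConstructible hW.isOpen_compl
    have himg : IsConstructible (f '' W) := f.isConstructible_image hWcons
    have hW' : IsClosedEmbedding (Subtype.val : W → (bX kb G).left) := hW.isClosedEmbedding_subtypeVal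
    haveI : CompactSpace W := isCompact_iff_compactSpace.1 hW.isCompact
    have hnh := (@mem_nhds_of_isConstructible W _ ⟨ξ, hξ.mem⟩
      (fun x => (subtype_specializes_iff _ _).2 (hξ.specializes x.2)) _
      (himg.preimage_of_isClosedEmbedding hW' (by
        rw [Subtype.range_val]
        exact TopologicalSpace.NoetherianSpace.isCompact Wᶜ))).1
      ⟨ξ, hξ.mem, hgen⟩
    obtain ⟨U, hUsub, hU, hξU⟩ := mem_nhds_iff.1 hnh
    obtain ⟨V, hV, rfl⟩ := isOpen_induced_iff.1 hU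
    exact ⟨V, hV, hξU, fun z hz => hUsub (show (⟨z, hz.2⟩ : W) ∈ Subtype.val ⁻¹' V from hz.1)⟩
  obtain ⟨V₁, hV₁, hξ₁, h₁⟩ := key 1 hone
  obtain ⟨V₂, hV₂, hξ₂, h₂⟩ := key a ha
  obtain ⟨z, ⟨⟨hz₁, hz₂⟩, hzW⟩, hzc⟩ := nonempty_inter_closedPoints (Z := V₁ ∩ V₂ ∩ W)
    ⟨ξ, ⟨hξ₁, hξ₂⟩, hξ.mem⟩ ((hV₁.inter hV₂).isLocallyClosed.inter hW.isLocallyClosed)
  have hclosed : ∀ b, ∀ x ∈ W, (ψ b).left x = z →
      ∃ y ∈ ptsIn W, cpt (y * b * (fs k k kb ≫ y)⁻¹ * g⁻¹) = z := by
    intro b x hx hxz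
    have hfp : (ψ b).left ≫ p = p := congrArg CommaMorphism.left (langMap_snd F _ g)
    have hne : ((W ∩ (ψ b).left ⁻¹' {z}) ∩ closedPoints (bX kb G).left).Nonempty :=
      nonempty_inter_closedPoints ⟨x, hx, hxz⟩
        (hW.inter (hzc.preimage (ψ b).left.continuous)).isLocallyClosed
    obtain ⟨x', ⟨hx'W, hx'z⟩, hx'c⟩ := hne
    obtain ⟨y, rfl⟩ := exists_cpt hx'c
    exact ⟨y, hx'W, by rw [← hψpt]; exact hx'z⟩
  obtain ⟨x₁, hx₁W, hx₁⟩ := h₁ ⟨hz₁, hzW⟩
  obtain ⟨x₂, hx₂W, hx₂⟩ := h₂ ⟨hz₂, hzW⟩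
  obtain ⟨y₁, hy₁, e₁⟩ := hclosed _ x₁ hx₁W hx₁
  obtain ⟨y₂, hy₂, e₂⟩ := hclosed _ x₂ hx₂W hx₂
  have e := mul_right_cancel (cpt_injective (e₁.trans e₂.symm))
  rw [_root_.one_mul] at e
  refine ⟨y₂⁻¹ * y₁, hmul _ (hinv _ hy₂) _ hy₁, ?_⟩
  rw [MonObj.comp_mul, GrpObj.comp_inv, mul_inv_rev, inv_inv]
  calc y₂⁻¹ * y₁ * g * ((fs k k kb ≫ y₁)⁻¹ * (fs k k kb ≫ y₂))
      = y₂⁻¹ * (y₁ * g * (fs k k kb ≫ y₁)⁻¹) * (fs k k kb ≫ y₂) := by group
    _ = y₂⁻¹ * (y₂ * (a * g) * (fs k k kb ≫ y₂)⁻¹) * (fs k k kb ≫ y₂) := by rw [e]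
    _ = a * g := by group

end Groth.Agent.ZH85.StackCount
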