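import Groth.Agent.ZH85.StackCount.Effective
import Groth.Agent.ZH85.Galois.Frob
import Groth.Agent.EssDimLib.QuotBound
import Mathlib.RingTheory.Etale.Field
import Mathlib.FieldTheory.Separable
import Mathlib.RingTheory.Jacobson.Ring

/-! Finite levels of the points over an algebraic closure of a finite field. -/

noncomputable section

set_option autoImplicit false
set_option backward.isDefEq.respectTransparency false
set_option backward.isDefEq.respectTransparency.types false

universe u

open CategoryTheory CategoryTheory.Limits MonoidalCategory CartesianMonoidalCategory MonObj AlgebraicGeometry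

namespace Groth.Agent.ZH85.StackCount

open Groth.Agent.EssDimLib (spMap spMap_comp spMap_comp' fqs fqs_spMap)

variable {k : Type u} [Field k] {k' : Type u} [Field k'] [Algebra k k']

section General

variable (k) (k') (L : Type u) [Field L] [Algebra k L] [Algebra k' L] [IsScalarTower k k' L]

/-- The structure map of the spectrum of an extension. -/
abbrev lstr : SGA7.pt (K := k) L ⟶ SGA7.pt k' := spMap (IsScalarTower.toAlgHom k k' L)

/-- The spectrum of an automorphism. -/
abbrev galS (σ : L ≃ₐ[k'] L) : SGA7.pt (K := k) L ⟶ SGA7.pt L := spMap ((σ : L →ₐ[k'] L).restrictScalars k)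

theorem galS_one : galS k k' L 1 = 𝟙 _ := by
  apply Over.OverMorphism.ext
  show Spec.map (CommRingCat.ofHom _) = 𝟙 _
  rw [← Spec.map_id]
  rfl

theorem galS_mul (σ τ : L ≃ₐ[k'] L) : galS k k' L (σ * τ) = galS k k' L σ ≫ galS k k' L τ :=
  spMap_comp ((τ : L →ₐ[k'] L).restrictScalars k) ((σ : L →ₐ[k'] L).restrictScalars k)

theorem galS_str (σ : L ≃ₐ[k'] L) : galS k k' L σ ≫ lstr k k' L = lstr k k' L :=
  spMap_comp' (AlgHom.ext fun x => σ.commutes x)

/-- The action of automorphisms on the spectrum. -/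
def galA : (L ≃ₐ[k'] L) →* Aut (SGA7.pt (K := k) L) where
  toFun σ := ⟨galS k k' L σ⁻¹, galS k k' L σ, by rw [← galS_mul, inv_mul_cancel, galS_one],
    by rw [← galS_mul, mul_inv_cancel, galS_one]⟩
  map_one' := Iso.ext (by show galS k k' L 1⁻¹ = 𝟙 _; rw [inv_one, galS_one])
  map_mul' σ τ := Iso.ext (by
    show galS k k' L (σ * τ)⁻¹ = galS k k' L τ⁻¹ ≫ galS k k' L σ⁻¹
    rw [mul_inv_rev, galS_mul])

theorem galA_hom (σ : L ≃ₐ[k'] L) : (galA k k' L σ).hom = galS k k' L σ⁻¹ := rfl

variable [FiniteDimensional k' L] [IsGalois k' L]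

theorem isQuot_galA : SGA1.IsQuot (leftAut (galA k k' L)) (lstr k k' L).left := by
  have : Algebra.IsInvariant k' L (L ≃ₐ[k'] L) :=
    ⟨fun x hx => IntermediateField.mem_bot.1 ((IsGalois.mem_bot_iff_fixed x).2 hx)⟩
  exact SGA1Q.isQuot_Spec (L ≃ₐ[k'] L) L k' (leftAut (galA k k' L)) (Set.ext fun f => ⟨by
    rintro ⟨σ, rfl⟩; exact ⟨σ⁻¹, rfl⟩, by rintro ⟨σ, rfl⟩; exact ⟨σ⁻¹, by
      show (galS k k' L σ⁻¹⁻¹).left = _; rw [inv_inv]; rfl⟩⟩)

omit [IsGalois k' L] in
theorem free_galA : SGA1Q.FreeOnGeomPoints (leftAut (galA k k' L)) :=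
  NonAbLib.freeOnGeomPoints_of_over (k := k') (K := L) (𝟙 _) _ (fun σ => by
    rw [Category.id_comp]; exact Category.comp_id _)

theorem etale_lstr : Etale (lstr k k' L).left := by
  haveI : Algebra.FormallyEtale k' L := Algebra.FormallyEtale.of_isSeparable k' L
  haveI : Algebra.FinitePresentation k' L :=
    Algebra.FinitePresentation.of_finiteType.1 inferInstance
  haveI : Algebra.Etale k' L := ⟨‹_›, ‹_›⟩
  exact (HasRingHomProperty.Spec_iff (P := @Etale)).2 (RingHom.etale_algebraMap.2 inferInstance)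

omit [FiniteDimensional k' L] [IsGalois k' L] in
theorem fqs_lstr : fqs (lstr k k' L).left := fqs_spMap _

end General

omit [Algebra k k'] in
theorem flat_over_field {Y : Scheme.{u}} (f : Y ⟶ Spec (CommRingCat.of k')) : Flat f := inferInstance

section Closure

variable [Finite k] [Module.Finite k k'] {kb : Type u} [Field kb] [Algebra k kb] [Algebra k' kb]
  [IsScalarTower k k' kb] [IsAlgClosure k' kb]

omit [Finite k] [Module.Finite k k'] in
theorem isAlgebraic_kb : Algebra.IsAlgebraic k' kb := IsAlgClosure.isAlgebraic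

/-- Restriction from the closure to a level. -/
abbrev lres (L : IntermediateField k' kb) : SGA7.pt (K := k) kb ⟶ SGA7.pt L := spMap (L.val.restrictScalars k)

omit [Finite k] [Module.Finite k k'] [IsAlgClosure k' kb] in
theorem lres_str (L : IntermediateField k' kb) : lres (k := k) L ≫ lstr k k' L = lstr k k' kb :=
  spMap_comp' (AlgHom.ext fun _ => rfl)

omit [Finite k] [Module.Finite k k'] [IsAlgClosure k' kb] in
theorem epi_lres (L : IntermediateField k' kb) : Epi (lres (k := k) L) :=
  EssDimLib.epi_of_fqs (fqs_spMap _)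

omit [Finite k] [Module.Finite k k'] [IsAlgClosure k' kb] in
theorem lres_galS (L : IntermediateField k' kb) (σ : kb ≃ₐ[k'] kb) (τ : L ≃ₐ[k'] L)
    (h : ∀ x : L, σ (x : kb) = (τ x : kb)) :
    galS k k' kb σ ≫ lres (k := k) L = lres L ≫ galS k k' L τ := by
  rw [← spMap_comp, ← spMap_comp]
  congr 1
  exact AlgHom.ext h

/-- Every point over the closure comes from a finite level. -/
theorem exists_level {Y : Over (Spec (CommRingCat.of k))} [LocallyOfFiniteType Y.hom]
    (y : SGA7.pt (K := k) kb ⟶ Y) :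
    ∃ L : IntermediateField k' kb, FiniteDimensional k' L ∧ ∀ L' : IntermediateField k' kb, L ≤ L' →
      ∃ yL : SGA7.pt (K := k) L' ⟶ Y, lres L' ≫ yL = y := by
  haveI : Algebra.IsAlgebraic k' kb := isAlgebraic_kb (k' := k') (kb := kb)
  obtain ⟨U, hU, hyU, -⟩ := exists_isAffineOpen_mem_and_subset (U := (⊤ : Y.left.Opens))
    (x := y.left (IsLocalRing.closedPoint kb)) trivial
  let A := Γ(Y.left, U)
  let v : Spec (CommRingCat.of A) ⟶ Spec (CommRingCat.of k) := hU.fromSpec ≫ Y.hom
  letI : Algebra k A := (Spec.preimage v).hom.toAlgebra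
  have hv : Spec.map (CommRingCat.ofHom (algebraMap k A)) = v := Spec.map_preimage v
  have : LocallyOfFiniteType (Spec.map (CommRingCat.ofHom (algebraMap k A))) := by
    rw [hv]; infer_instance
  have hft : Algebra.FiniteType k A :=
    RingHom.finiteType_algebraMap.1 ((HasRingHomProperty.Spec_iff (P := @LocallyOfFiniteType)).1 this)
  have hrange : Set.range y.left ⊆ Set.range hU.fromSpec := by
    rw [hU.range_fromSpec]
    rintro _ ⟨p, rfl⟩
    rw [show p = IsLocalRing.closedPoint kb from Subsingleton.elim (α := PrimeSpectrum kb) _ _]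
    exact hyU
  let w := IsOpenImmersion.lift hU.fromSpec y.left hrange
  have hw : w ≫ hU.fromSpec = y.left := IsOpenImmersion.lift_fac _ _ _
  obtain ⟨f, hf⟩ := Spec.map_surjective w
  have hfk : ∀ c : k, f.hom (algebraMap k A c) = algebraMap k kb c := fun c => by
    have h1 : Spec.map (CommRingCat.ofHom (algebraMap k A) ≫ f) =
        Spec.map (CommRingCat.ofHom (algebraMap k kb)) := by
      rw [Spec.map_comp, hf, hv, ← Category.assoc, hw]
      exact Over.w y
    exact congr($(Spec.map_injective h1).hom c)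
  obtain ⟨s, hs⟩ := hft.out
  refine ⟨IntermediateField.adjoin k' ((fun a => f.hom a) '' (s : Set A)), ?_, fun L' hL' => ?_⟩
  · exact IntermediateField.finiteDimensional_adjoin fun x _ => (Algebra.IsAlgebraic.isAlgebraic x).isIntegral
  let fa : A →ₐ[k] kb := { f.hom with commutes' := hfk }
  have hle : ∀ a, fa a ∈ L' := by
    intro a
    have : a ∈ (L'.restrictScalars k).toSubalgebra.comap fa := by
      refine (hs ▸ Algebra.adjoin_le ?_) (show a ∈ (⊤ : Subalgebra k A) from trivial)
      intro b hb
      exact hL' (IntermediateField.subset_adjoin k' _ ⟨b, hb, rfl⟩)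
    exact this
  let fL : A →+* L' := (fa : A →+* kb).codRestrict L'.toSubfield hle
  refine ⟨Over.homMk (Spec.map (CommRingCat.ofHom fL) ≫ hU.fromSpec) ?_, ?_⟩
  · show (Spec.map _ ≫ hU.fromSpec) ≫ Y.hom = Spec.map _
    rw [Category.assoc, show hU.fromSpec ≫ Y.hom = v from rfl, ← hv, ← Spec.map_comp, ← CommRingCat.ofHom_comp]
    congr 2
    ext c
    exact hfk c
  · apply Over.OverMorphism.ext
    show Spec.map _ ≫ Spec.map _ ≫ hU.fromSpec = y.left
    rw [← Category.assoc, ← Spec.map_comp, ← hw, ← hf]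
    rfl

end Closure

end Groth.Agent.ZH85.StackCount
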