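import Groth.Agent.ZH85.StackCount.FrobLevel

/-! The category of points of a quotient stack over a finite field, through twisted Frobenius fixed pairs. -/

noncomputable section

set_option autoImplicit false
set_option backward.isDefEq.respectTransparency false
set_option backward.isDefEq.respectTransparency.types false

universe u

open CategoryTheory CategoryTheory.Limits MonoidalCategory CartesianMonoidalCategory MonObj AlgebraicGeometry

namespace Groth.Agent.ZH85.StackCount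

open Groth.Agent.GrpSchLib (act_mul act_one)
open Groth.Agent.EssDimLib (spMap spMap_comp' fqs fqs_spMap)
open AlgSt

variable {k : Type u} [Field k] [Finite k]
  {G X : Over (Spec (CommRingCat.of k))} [GrpObj G] {aX : AlgGrp.Action G X}
  {k' : Type u} [Field k'] [Algebra k k'] [Module.Finite k k']
  {kb : Type u} [Field kb] [Algebra k kb] [Algebra k' kb] [IsScalarTower k k' kb] [IsAlgClosure k' kb]

variable (G aX k') in
/-- Objects over `k'`. -/
abbrev PtObj : Type (u + 1) := StkCnt.pts (AlgSt.QuotSt Scheme.etalePrecoverage G aX) k'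

variable (kb) in
/-- A section of the torsor over the closure. -/
structure KSec (A : PtObj G aX k') where
  /-- the point -/
  t : SGA7.pt (K := k) kb ⟶ A.1.P
  /-- it lies over the structure map -/
  ht : t ≫ A.1.π = lstr k k' kb ≫ eqToHom A.2.symm

theorem fqs_sec {A : PtObj G aX k'} (tA : KSec kb A) : fqs (tA.t ≫ A.1.π).left := by
  rw [tA.ht]
  have hA := A.2
  obtain ⟨⟨base, P, act, π, cart, loc, φ, eqv⟩, hA'⟩ := A
  cases hA'
  simpa using fqs_lstr k k' kb

theorem flat_π (A : PtObj G aX k') : Flat A.1.π.left := by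
  obtain ⟨⟨base, P, act, π, cart, loc, φ, eqv⟩, hA'⟩ := A
  cases hA'
  exact flat_over_field _

theorem eq_shift (A : PtObj G aX k') (σ : kb ≃ₐ[k'] kb) (tA : KSec kb A) :
    (galS k k' kb σ ≫ tA.t) ≫ A.1.π = tA.t ≫ A.1.π := by
  rw [Category.assoc, tA.ht, ← Category.assoc, galS_str]

/-- The Frobenius transition element of a section. -/
def KSec.g {A : PtObj G aX k'} (tA : KSec kb A) : SGA7.pt (K := k) kb ⟶ G :=
  (exists_div A.1 tA.t (fs k k' kb ≫ tA.t) (eq_shift A _ tA).symm).choose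

theorem KSec.g_spec {A : PtObj G aX k'} (tA : KSec kb A) :
    lift tA.g (fs k k' kb ≫ tA.t) ≫ A.1.act.act = tA.t :=
  (exists_div A.1 tA.t (fs k k' kb ≫ tA.t) (eq_shift A _ tA).symm).choose_spec

theorem KSec.g_eq {A : PtObj G aX k'} (tA : KSec kb A) {g : SGA7.pt (K := k) kb ⟶ G}
    (h : lift g (fs k k' kb ≫ tA.t) ≫ A.1.act.act = tA.t) : tA.g = g :=
  act_free A.1 (tA.g_spec.trans h.symm)

/-- The point of `X` of a section. -/
abbrev KSec.x {A : PtObj G aX k'} (tA : KSec kb A) : SGA7.pt (K := k) kb ⟶ X := tA.t ≫ A.1.φ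

theorem KSec.g_x {A : PtObj G aX k'} (tA : KSec kb A) :
    lift tA.g (fs k k' kb ≫ tA.x) ≫ aX.act = tA.x := by
  show lift tA.g (fs k k' kb ≫ tA.t ≫ A.1.φ) ≫ aX.act = tA.t ≫ A.1.φ
  rw [← Category.assoc (fs k k' kb), ← act_φ, ← Category.assoc, tA.g_spec]

/-- A translate of a section. -/
def KSec.smul {A : PtObj G aX k'} (h : SGA7.pt (K := k) kb ⟶ G) (tA : KSec kb A) : KSec kb A where
  t := lift h tA.t ≫ A.1.act.act
  ht := by rw [Category.assoc, lift_act_π, tA.ht]

theorem KSec.smul_x {A : PtObj G aX k'} (h : SGA7.pt (K := k) kb ⟶ G) (tA : KSec kb A) :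
    (tA.smul h).x = lift h tA.x ≫ aX.act := by
  show (lift h tA.t ≫ A.1.act.act) ≫ A.1.φ = _
  rw [Category.assoc, act_φ]

theorem KSec.smul_g {A : PtObj G aX k'} (h : SGA7.pt (K := k) kb ⟶ G) (tA : KSec kb A) :
    (tA.smul h).g = h * tA.g * (fs k k' kb ≫ h)⁻¹ := by
  refine KSec.g_eq _ ?_
  show lift _ (fs k k' kb ≫ lift h tA.t ≫ A.1.act.act) ≫ A.1.act.act = lift h tA.t ≫ A.1.act.act
  rw [comp_lift_assoc, act_mul, inv_mul_cancel_right, ← act_mul, tA.g_spec]

/-- Two sections are translates of one another. -/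
theorem KSec.exists_smul {A : PtObj G aX k'} (tA tA' : KSec kb A) :
    ∃ h, (tA.smul h).t = tA'.t :=
  exists_div A.1 tA'.t tA.t (tA'.ht.trans tA.ht.symm)

theorem KSec.ext {A : PtObj G aX k'} {tA tA' : KSec kb A} (h : tA.t = tA'.t) : tA = tA' := by
  cases tA; cases tA'; cases h; rfl

/-- A morphism in the fibre lies over the identity. -/
theorem hom_base {A B : PtObj G aX k'} (f : A ⟶ B) : f.1.base = eqToHom (A.2.trans B.2.symm) := by
  haveI := f.2
  have := IsHomLift.fac' (AlgSt.QuotSt Scheme.etalePrecoverage G aX).p (𝟙 (SGA7.pt (K := k) k')) f.1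
  change f.1.base = _ at this
  rw [this]
  simp

/-- The image of a section under a morphism. -/
def KSec.map {A B : PtObj G aX k'} (f : A ⟶ B) (tA : KSec kb A) : KSec kb B where
  t := tA.t ≫ f.1.top
  ht := by rw [Category.assoc, f.1.cart.w, ← Category.assoc, tA.ht, hom_base f, Category.assoc, eqToHom_trans]

theorem KSec.map_x {A B : PtObj G aX k'} (f : A ⟶ B) (tA : KSec kb A) : (tA.map f).x = tA.x := by
  show (tA.t ≫ f.1.top) ≫ B.1.φ = tA.t ≫ A.1.φ
  rw [Category.assoc, f.1.wφ]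

theorem KSec.map_g {A B : PtObj G aX k'} (f : A ⟶ B) (tA : KSec kb A) : (tA.map f).g = tA.g := by
  refine KSec.g_eq _ ?_
  show lift tA.g (fs k k' kb ≫ tA.t ≫ f.1.top) ≫ B.1.act.act = tA.t ≫ f.1.top
  rw [← Category.assoc (fs k k' kb), ← act_top, tA.g_spec]

/-- Morphisms agreeing on a section are equal. -/
theorem ptHom_ext {A B : PtObj G aX k'} (tA : KSec kb A) {f f' : A ⟶ B}
    (h : tA.t ≫ f.1.top = tA.t ≫ f'.1.top) : f = f' :=
  Subtype.ext (hom_ext_of_section ((hom_base f).trans (hom_base f').symm) tA.t (fqs_sec tA) h)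

/-- A point over the closure with a finite level. -/
theorem exists_level_sec (A : PtObj G aX k') :
    ∃ (L : IntermediateField k' kb), FiniteDimensional k' L ∧ ∀ L' : IntermediateField k' kb, L ≤ L' →
      ∃ tL : SGA7.pt (K := k) L' ⟶ A.1.P, (lres L' ≫ tL) ≫ A.1.π = lstr k k' kb ≫ eqToHom A.2.symm := by
  haveI : IsAlgClosed kb := IsAlgClosure.isAlgClosed k'
  obtain ⟨⟨base, P, act, π, cart, loc, φ, eqv⟩, hA⟩ := A
  cases hA
  obtain ⟨R, hR, hsec⟩ := loc
  obtain ⟨T', f, hf, w, -⟩ :=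
    ((Presieve.mem_comap_jointlySurjectivePrecoverage_iff Scheme.forget).1 hR.1) (IsLocalRing.closedPoint k')
  haveI : Etale f := hR.2 hf
  obtain ⟨s, hs⟩ := hsec f hf
  let W : Over (Spec (CommRingCat.of k)) := Over.mk (f ≫ (SGA7.pt (K := k) k').hom)
  let fW : W ⟶ SGA7.pt (K := k) k' := Over.homMk f rfl
  let sW : W ⟶ P := Over.homMk s (by
    show s ≫ P.hom = f ≫ _
    rw [← Over.w π, ← Category.assoc]
    exact congrArg (· ≫ _) hs)
  have hsW : sW ≫ π = fW := Over.OverMorphism.ext hs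
  let Q := pullback fW (lstr k k' kb)
  have hsq := (IsPullback.of_hasPullback fW (lstr k k' kb)).map (Over.forget (Spec (CommRingCat.of k)))
  haveI : Etale (pullback.snd fW (lstr k k' kb)).left := MorphismProperty.of_isPullback hsq ‹Etale f›
  obtain ⟨q, -⟩ := Scheme.Pullback.exists_preimage_pullback (f := f) (g := (lstr k k' kb).left) w
    (IsLocalRing.closedPoint kb) (Subsingleton.elim (α := PrimeSpectrum k') _ _)
  obtain ⟨l, hl, -⟩ := Groth.Agent.AlgSpPts.exists_section_of_etale (pullback.snd fW (lstr k k' kb))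
    (hsq.isoPullback.inv q)
  let y := l ≫ pullback.fst fW (lstr k k' kb)
  have hy : y ≫ fW = lstr k k' kb := by rw [Category.assoc, pullback.condition, reassoc_of% hl]
  haveI : LocallyOfFiniteType (SGA7.pt (K := k) k').hom := by
    refine (HasRingHomProperty.Spec_iff (P := @LocallyOfFiniteType)).2 ?_
    exact RingHom.finiteType_algebraMap.2 inferInstance
  haveI : LocallyOfFiniteType W.hom := inferInstanceAs (LocallyOfFiniteType (f ≫ _))
  obtain ⟨L, hL, hy'⟩ := exists_level (k' := k') y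
  refine ⟨L, hL, fun L' hL' => ?_⟩
  obtain ⟨yL, hyL⟩ := hy' L' hL'
  refine ⟨yL ≫ sW, ?_⟩
  rw [← Category.assoc, hyL, Category.assoc, hsW, hy]
  simp

theorem exists_kSec (A : PtObj G aX k') : Nonempty (KSec kb A) := by
  obtain ⟨L, -, h⟩ := exists_level_sec (kb := kb) A
  obtain ⟨tL, htL⟩ := h L le_rfl
  exact ⟨⟨_, htL⟩⟩

variable [Smooth G.hom] [IsAffineHom G.hom]

/-- Sections come from finite levels. -/
theorem KSec.exists_level {A : PtObj G aX k'} (tA : KSec kb A) :
    ∃ (L : IntermediateField k' kb), FiniteDimensional k' L ∧ ∀ L' : IntermediateField k' kb, L ≤ L' →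
      ∃ tL : SGA7.pt (K := k) L' ⟶ A.1.P, lres L' ≫ tL = tA.t := by
  obtain ⟨L₁, _, h₁⟩ := exists_level_sec (kb := kb) A
  obtain ⟨t₁, ht₁⟩ := h₁ L₁ le_rfl
  obtain ⟨a, ha⟩ := exists_div A.1 tA.t _ (tA.ht.trans ht₁.symm)
  obtain ⟨L₂, _, h₂⟩ := StackCount.exists_level (k' := k') a
  refine ⟨L₁ ⊔ L₂, inferInstance, fun L' hL' => ?_⟩
  obtain ⟨t', ht'⟩ := h₁ L' (le_sup_left.trans hL')
  obtain ⟨b, hb⟩ := exists_div A.1 tA.t _ (tA.ht.trans ht'.symm)
  obtain ⟨L₃, _, h₃⟩ := StackCount.exists_level (k' := k') b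
  -- compare the two sections at the larger level
  obtain ⟨aL, haL⟩ := h₂ L' (le_sup_right.trans hL')
  let j : SGA7.pt (K := k) L' ⟶ SGA7.pt L₁ :=
    spMap ((IntermediateField.inclusion (le_sup_left.trans hL')).restrictScalars k)
  have hj : lres (k := k) L' ≫ j = lres L₁ := spMap_comp' (AlgHom.ext fun _ => rfl)
  refine ⟨lift aL (j ≫ t₁) ≫ A.1.act.act, ?_⟩
  rw [comp_lift_assoc, haL, reassoc_of% hj, ha]

/-- Sections with the same invariants give a morphism carrying one to the other. -/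
theorem exists_ptHom {A B : PtObj G aX k'} (tA : KSec kb A) (tB : KSec kb B) (hg : tA.g = tB.g)
    (hx : tA.x = tB.x) : ∃ f : A ⟶ B, tA.t ≫ f.1.top = tB.t := by
  obtain ⟨L₁, _, h₁⟩ := tA.exists_level
  obtain ⟨L₂, _, h₂⟩ := tB.exists_level
  obtain ⟨L₃, _, h₃⟩ := exists_level (k' := k') tA.g
  let L := L₁ ⊔ L₂ ⊔ L₃
  obtain ⟨a, ha⟩ := h₁ L (le_sup_left.trans le_sup_left)
  obtain ⟨b, hb⟩ := h₂ L (le_sup_right.trans le_sup_left)
  obtain ⟨g, hgL⟩ := h₃ L le_sup_right
  haveI := isGalois_level L ‹Finite k›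
  haveI := etale_lstr k k' L
  haveI := epi_lres (k := k) L
  haveI := flat_π A
  haveI := flat_π B
  haveI : Smooth G.hom := ‹_›
  haveI : Flat G.hom := inferInstance
  let u : SGA7.pt (K := k) L ⟶ A.1.base := lstr k k' L ≫ eqToHom A.2.symm
  let e : A.1.base ≅ B.1.base := eqToIso (A.2.trans B.2.symm)
  have hu' : u ≫ e.hom = lstr k k' L ≫ eqToHom B.2.symm := by simp [u, e]
  have hiso : ∀ (T : Over (Spec (CommRingCat.of k))) (hT : T = SGA7.pt (K := k) k'),
      fqs (lstr k k' L ≫ eqToHom hT.symm).left ∧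
        SGA1.IsQuot (leftAut (galA k k' L)) (lstr k k' L ≫ eqToHom hT.symm).left := by
    intro T hT
    subst hT
    simpa using And.intro (fqs_lstr k k' L) (isQuot_galA k k' L)
  obtain ⟨⟨⟨_, _⟩, _⟩, hq⟩ := hiso A.1.base A.2
  have hq' : SGA1.IsQuot (leftAut (galA k k' L)) (u ≫ e.hom).left := hu' ▸ (hiso B.1.base B.2).2
  obtain ⟨f, hf, hft⟩ := exists_hom (A := A.1) (B := B.1) e (galA k k' L) u hq hq' (frobLv k L)⁻¹
    (mem_zpowers_frobLv L) a
    (by rw [← cancel_epi (lres (k := k) L), reassoc_of% ha, tA.ht, reassoc_of% lres_str L])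
    b (by rw [hu', ← cancel_epi (lres (k := k) L), reassoc_of% hb, tB.ht, reassoc_of% lres_str L])
    (by rw [← cancel_epi (lres (k := k) L), reassoc_of% ha, reassoc_of% hb]; exact hx.symm) g
    (by rw [galA_frobLv, ← cancel_epi (lres (k := k) L), comp_lift_assoc, hgL, ← reassoc_of% fs_lres L, ha,
      tA.g_spec])
    (by rw [galA_frobLv, ← cancel_epi (lres (k := k) L), comp_lift_assoc, hgL, ← reassoc_of% fs_lres L, hb, hg,
      tB.g_spec])
  have hlift : (AlgSt.QuotSt Scheme.etalePrecoverage G aX).p.IsHomLift (𝟙 (SGA7.pt (K := k) k')) f :=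
    IsHomLift.of_fac _ _ _ A.2 B.2 (by
      show 𝟙 _ = eqToHom _ ≫ f.base ≫ eqToHom _
      rw [hf]
      simp [e])
  exact ⟨⟨f, hlift⟩, by rw [← ha, Category.assoc, hft, hb]⟩

/-- Every twisted fixed pair comes from an object. -/
theorem exists_ptObj [LocallyOfFiniteType X.hom] (g : SGA7.pt (K := k) kb ⟶ G) (x : SGA7.pt (K := k) kb ⟶ X)
    (hx : lift g (fs k k' kb ≫ x) ≫ aX.act = x) :
    ∃ (A : PtObj G aX k') (tA : KSec kb A), tA.g = g ∧ tA.x = x := by
  haveI : Finite k' := Module.finite_of_finite k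
  haveI : Flat G.hom := inferInstance
  obtain ⟨L₁, _, h₁⟩ := exists_level (k' := k') g
  obtain ⟨L₂, _, h₂⟩ := exists_level (k' := k') x
  let n := Module.finrank k' ↥(L₁ ⊔ L₂)
  have hn : 0 < n := Module.finrank_pos
  obtain ⟨F₀, _, hF₀n, hF₀⟩ := exists_fixedLevel (k := k) (k' := k') (kb := kb) n hn
  have hle : L₁ ⊔ L₂ ≤ F₀ := le_fixedLevel (k := k) dvd_rfl hF₀
  obtain ⟨g₀, hg₀⟩ := h₁ F₀ (le_sup_left.trans hle)
  haveI : Finite F₀ := Module.finite_of_finite k'
  haveI : Finite (SGA7.pt (K := k) F₀ ⟶ G) := finite_points F₀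
  let N₀ := twPow (galS k k' F₀ (frobLv k F₀)) g₀ n
  let m := orderOf N₀
  have hm : 0 < m := orderOf_pos N₀
  obtain ⟨F, _, hFn, hF⟩ := exists_fixedLevel (k := k) (k' := k') (kb := kb) (n * m) (Nat.mul_pos hn hm)
  have hle' : L₁ ⊔ L₂ ≤ F := le_fixedLevel (k := k) (dvd_mul_right n m) hF
  obtain ⟨gF, hgF⟩ := h₁ F (le_sup_left.trans hle')
  obtain ⟨xF, hxF⟩ := h₂ F (le_sup_right.trans hle')
  haveI := isGalois_level F ‹Finite k›
  haveI := isGalois_level F₀ ‹Finite k›
  haveI := etale_lstr k k' F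
  haveI := epi_lres (k := k) F
  have hγ : (galA k k' F (frobLv k F)⁻¹).hom = galS k k' F (frobLv k F) := galA_frobLv F
  have hnorm : twPow (galA k k' F (frobLv k F)⁻¹).hom gF (orderOf (frobLv k F)⁻¹) = 1 := by
    rw [orderOf_frobLv, hFn, hγ, ← cancel_epi (lres (k := k) F), comp_twPow _ (fs_lres F), hgF, MonObj.comp_one]
    have e0 : twPow (fs k k' kb) g n = lres F₀ ≫ N₀ := by
      rw [comp_twPow _ (fs_lres F₀), hg₀]
    let sK : End (SGA7.pt (K := k) kb) := fs k k' kb
    let s0 : End (SGA7.pt (K := k) F₀) := galS k k' F₀ (frobLv k F₀)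
    have hsn : ∀ i : ℕ, (sK ^ i : End (SGA7.pt (K := k) kb)) ≫ lres (k := k) F₀ =
        lres (k := k) F₀ ≫ (s0 ^ i : End (SGA7.pt (K := k) F₀)) := by
      intro i
      induction i with
      | zero =>
          rw [pow_zero, pow_zero]
          exact (Category.id_comp _).trans (Category.comp_id _).symm
      | succ i ih => rw [pow_succ, End.mul_def, Category.assoc, ih, pow_succ, End.mul_def, ← Category.assoc,
          show sK ≫ lres (k := k) F₀ = lres F₀ ≫ s0 from fs_lres F₀, Category.assoc]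
    have hfix0 : s0 ^ n = 1 := by
      have h1 : Aut.toEnd _ (galA k k' F₀ (frobLv k F₀)⁻¹) = s0 := galA_frobLv F₀
      rw [← h1, ← map_pow, ← map_pow, ← hF₀n, ← orderOf_frobLv (k := k) F₀, pow_orderOf_eq_one, map_one, map_one]
    have hfix : (sK ^ n : End (SGA7.pt (K := k) kb)) ≫ twPow sK g n = twPow sK g n := by
      show _ ≫ twPow (fs k k' kb) g n = twPow (fs k k' kb) g n
      rw [e0, reassoc_of% hsn n, hfix0]
      simp [End.one_def]
    rw [show fs k k' kb = sK from rfl, twPow_mul sK g n hfix, show twPow sK g n = lres F₀ ≫ N₀ from e0, ← MonObj.comp_pow, pow_orderOf_eq_one, MonObj.comp_one]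
  haveI : Surjective (lstr k k' F).left := (fqs_lstr k k' F).2
  haveI : IsAffine (SGA7.pt (K := k) F).left := inferInstanceAs (IsAffine (Spec _))
  obtain ⟨A, hA, t, htπ, htg, htφ⟩ := exists_obj (X := X) (aX := aX) (lstr k k' F)
    (fun f => flat_over_field f) (galA k k' F) (isQuot_galA k k' F) (free_galA k k' F) (frobLv k F)⁻¹
    (mem_zpowers_frobLv F) gF hnorm xF (by
      rw [hγ, ← cancel_epi (lres (k := k) F), comp_lift_assoc, hgF, ← reassoc_of% fs_lres F, hxF, hx])
  let tA : KSec kb (⟨A, hA⟩ : PtObj G aX k') := ⟨lres F ≫ t, by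
    rw [Category.assoc, htπ, reassoc_of% lres_str F]⟩
  refine ⟨⟨A, hA⟩, tA, KSec.g_eq _ ?_, ?_⟩
  · show lift g (fs k k' kb ≫ lres F ≫ t) ≫ A.act.act = lres F ≫ t
    rw [reassoc_of% fs_lres F, ← hgF, ← comp_lift_assoc, ← hγ, htg]
  · show (lres F ≫ t) ≫ A.φ = x
    rw [Category.assoc, htφ, hxF]

end Groth.Agent.ZH85.StackCount
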