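import Groth.Agent.ZH85.StackCount.Descent
import Groth.Agent.SGA1Q.Free

/-! An equivariant map to a free Galois cover makes the square of quotients cartesian. -/

noncomputable section

set_option autoImplicit false
set_option backward.isDefEq.respectTransparency false
set_option backward.isDefEq.respectTransparency.types false

universe u

open CategoryTheory CategoryTheory.Limits AlgebraicGeometry

namespace Groth.Agent.ZH85.StackCount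

open Groth.Agent.NonAbLib

/-- An equivariant map to a free quotient gives a cartesian square of quotients. -/
theorem isPullback_of_free_quot {Γ : Type u} [Group Γ] [Finite Γ] {Z P L T : Scheme.{u}}
    {ρ : Γ →* Aut Z} {e : Z ⟶ P} (he : SGA1.IsQuot ρ e) {ρ₀ : Γ →* Aut L} {ι : L ⟶ T}
    (hι : SGA1.IsQuot ρ₀ ι) (hfree : SGA1Q.FreeOnGeomPoints ρ₀) {v : Z ⟶ L}
    (hv : ∀ σ, (ρ σ).hom ≫ v = v ≫ (ρ₀ σ).hom) {π : P ⟶ T} [Flat π] (hsq : v ≫ ι = e ≫ π) :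
    IsPullback e v π ι := by
  let W := pullback π ι
  let θ : Z ⟶ W := pullback.lift e v hsq.symm
  have hθ₁ : θ ≫ pullback.fst π ι = e := pullback.lift_fst _ _ _
  have hθ₂ : θ ≫ pullback.snd π ι = v := pullback.lift_snd _ _ _
  let rW : Γ → (W ⟶ W) := fun σ => pullback.lift (pullback.fst π ι) (pullback.snd π ι ≫ (ρ₀ σ).hom)
    (by rw [Category.assoc, hι.inv, pullback.condition])
  have hW₁ : ∀ σ, rW σ ≫ pullback.fst π ι = pullback.fst π ι := fun σ => pullback.lift_fst _ _ _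
  have hW₂ : ∀ σ, rW σ ≫ pullback.snd π ι = pullback.snd π ι ≫ (ρ₀ σ).hom := fun σ => pullback.lift_snd _ _ _
  have hW1 : rW 1 = 𝟙 _ := pullback.hom_ext (by rw [hW₁, Category.id_comp])
    (by rw [hW₂, map_one, Category.id_comp]; exact Category.comp_id _)
  have hWm : ∀ σ τ, rW (σ * τ) = rW τ ≫ rW σ := fun σ τ => pullback.hom_ext
    (by simp only [Category.assoc, hW₁])
    (by rw [Category.assoc, hW₂, hW₂, reassoc_of% hW₂ τ, map_mul]; rfl)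
  let ρW : Γ →* Aut W :=
    { toFun := fun σ => ⟨rW σ, rW σ⁻¹, by rw [← hWm, inv_mul_cancel, hW1], by rw [← hWm, mul_inv_cancel, hW1]⟩
      map_one' := Iso.ext hW1
      map_mul' := fun σ τ => Iso.ext (hWm σ τ) }
  have hqW : SGA1.IsQuot ρW (pullback.fst π ι) :=
    SGA1Q.isQuot_baseChange hι π (pullback.snd π ι) _ (IsPullback.of_hasPullback π ι).flip ρW hW₂ hW₁
  have hfreeW : SGA1Q.FreeOnGeomPoints ρW := fun Ω _ _ ξ σ h => hfree Ω (ξ ≫ pullback.snd π ι) σ (by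
    rw [Category.assoc, ← hW₂, ← Category.assoc]; exact congrArg (· ≫ pullback.snd π ι) h)
  haveI : Flat (pullback.fst π ι) := SGA1Q.flat_of_free hfreeW hqW
  let W' := pullback e (pullback.fst π ι)
  let p₁ : W' ⟶ Z := pullback.fst e (pullback.fst π ι)
  let p₂ : W' ⟶ W := pullback.snd e (pullback.fst π ι)
  have hcond : p₁ ≫ e = p₂ ≫ pullback.fst π ι := pullback.condition
  let rZ : Γ → (W' ⟶ W') := fun σ => pullback.lift (p₁ ≫ (ρ σ).hom) p₂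
    (by rw [Category.assoc, he.inv, hcond])
  let rS : Γ → (W' ⟶ W') := fun σ => pullback.lift p₁ (p₂ ≫ rW σ)
    (by rw [Category.assoc, hW₁, hcond])
  have hZ₁ : ∀ σ, rZ σ ≫ p₁ = p₁ ≫ (ρ σ).hom := fun σ => pullback.lift_fst _ _ _
  have hZ₂ : ∀ σ, rZ σ ≫ p₂ = p₂ := fun σ => pullback.lift_snd _ _ _
  have hS₁ : ∀ σ, rS σ ≫ p₁ = p₁ := fun σ => pullback.lift_fst _ _ _
  have hS₂ : ∀ σ, rS σ ≫ p₂ = p₂ ≫ rW σ := fun σ => pullback.lift_snd _ _ _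
  have hZ1 : rZ 1 = 𝟙 _ := pullback.hom_ext
    (by show rZ 1 ≫ p₁ = 𝟙 _ ≫ p₁; rw [hZ₁, map_one, Category.id_comp]; exact Category.comp_id _)
    (by show rZ 1 ≫ p₂ = 𝟙 _ ≫ p₂; rw [hZ₂, Category.id_comp])
  have hZm : ∀ σ τ, rZ (σ * τ) = rZ τ ≫ rZ σ := fun σ τ => pullback.hom_ext
    (by show rZ (σ * τ) ≫ p₁ = (rZ τ ≫ rZ σ) ≫ p₁
        rw [Category.assoc, hZ₁, hZ₁, reassoc_of% hZ₁ τ, map_mul]; rfl)
    (by show rZ (σ * τ) ≫ p₂ = (rZ τ ≫ rZ σ) ≫ p₂; simp only [Category.assoc, hZ₂])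
  have hS1 : rS 1 = 𝟙 _ := pullback.hom_ext
    (by show rS 1 ≫ p₁ = 𝟙 _ ≫ p₁; rw [hS₁, Category.id_comp])
    (by show rS 1 ≫ p₂ = 𝟙 _ ≫ p₂; rw [hS₂, hW1, Category.comp_id, Category.id_comp])
  have hSm : ∀ σ τ, rS (σ * τ) = rS τ ≫ rS σ := fun σ τ => pullback.hom_ext
    (by show rS (σ * τ) ≫ p₁ = (rS τ ≫ rS σ) ≫ p₁; simp only [Category.assoc, hS₁])
    (by show rS (σ * τ) ≫ p₂ = (rS τ ≫ rS σ) ≫ p₂
        rw [Category.assoc, hS₂, hS₂, reassoc_of% hS₂ τ, hWm])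
  let ρZ : Γ →* Aut W' :=
    { toFun := fun σ => ⟨rZ σ, rZ σ⁻¹, by rw [← hZm, inv_mul_cancel, hZ1], by rw [← hZm, mul_inv_cancel, hZ1]⟩
      map_one' := Iso.ext hZ1
      map_mul' := fun σ τ => Iso.ext (hZm σ τ) }
  let ρS : Γ →* Aut W' :=
    { toFun := fun σ => ⟨rS σ, rS σ⁻¹, by rw [← hSm, inv_mul_cancel, hS1], by rw [← hSm, mul_inv_cancel, hS1]⟩
      map_one' := Iso.ext hS1
      map_mul' := fun σ τ => Iso.ext (hSm σ τ) }
  have hqZ : SGA1.IsQuot ρZ p₂ := SGA1Q.isQuot_baseChange he (pullback.fst π ι) p₁ p₂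
    (IsPullback.of_hasPullback _ _) ρZ hZ₁ hZ₂
  have hfreeS : SGA1Q.FreeOnGeomPoints ρS := fun Ω _ _ ξ σ h => hfreeW Ω (ξ ≫ p₂) σ (by
    rw [Category.assoc]
    show ξ ≫ p₂ ≫ rW σ = _
    rw [← hS₂, ← Category.assoc]
    exact congrArg (· ≫ p₂) h)
  have : Flat e := by
    refine SGA1Q.flat_of_free (fun Ω _ _ ξ σ h => hfree Ω (ξ ≫ v) σ ?_) he
    rw [Category.assoc, ← hv, ← Category.assoc]
    exact congrArg (· ≫ v) h
  have hqS : SGA1.IsQuot ρS p₁ := SGA1Q.isQuot_baseChange hqW e p₂ p₁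
    (IsPullback.of_hasPullback _ _).flip ρS hS₂ hS₁
  let s : Z ⟶ W' := pullback.lift (𝟙 Z) θ (by rw [Category.id_comp, hθ₁])
  have hs₁ : s ≫ p₁ = 𝟙 Z := pullback.lift_fst _ _ _
  have hs₂ : s ≫ p₂ = θ := pullback.lift_snd _ _ _
  haveI hiso : IsIso (Sigma.desc fun σ : Γ => s ≫ (ρS σ).hom) := isIso_sigmaDesc_section hqS hfreeS s hs₁
  let j : Γ → (Z ⟶ W') := fun σ => s ≫ rS σ
  have hiso' : IsIso (Sigma.desc j) := hiso
  have hj₁ : ∀ σ, j σ ≫ p₁ = 𝟙 Z := fun σ => by rw [Category.assoc, hS₁, hs₁]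
  have hj₂ : ∀ σ, j σ ≫ p₂ = θ ≫ rW σ := fun σ => by rw [Category.assoc, hS₂, ← Category.assoc, hs₂]
  have hθW : ∀ σ, θ ≫ rW σ = (ρ σ).hom ≫ θ := fun σ => pullback.hom_ext
    (by rw [Category.assoc, hW₁, hθ₁, Category.assoc, hθ₁, he.inv])
    (by rw [Category.assoc, hW₂, ← Category.assoc, hθ₂, Category.assoc, hθ₂, hv])
  have hext : ∀ {T' : Scheme.{u}} (f f' : W' ⟶ T'), (∀ σ, j σ ≫ f = j σ ≫ f') → f = f' := fun f f' h => by
    rw [← cancel_epi (Sigma.desc j)]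
    exact Sigma.hom_ext _ _ fun σ => by rw [Sigma.ι_desc_assoc, Sigma.ι_desc_assoc]; exact h σ
  let ψ : W' ⟶ Z := inv (Sigma.desc j) ≫ Sigma.desc fun σ => (ρ σ).hom
  have hψ : ∀ σ, j σ ≫ ψ = (ρ σ).hom := fun σ => by
    rw [← Sigma.ι_desc j σ]
    simp only [ψ]
    rw [Category.assoc, IsIso.hom_inv_id_assoc, Sigma.ι_desc]
  have hψinv : ∀ τ, rZ τ ≫ ψ = ψ := fun τ => hext _ _ fun σ => by
    have : j σ ≫ rZ τ = (ρ τ).hom ≫ j (σ * τ⁻¹) := by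
      refine pullback.hom_ext ?_ ?_
      · show (j σ ≫ rZ τ) ≫ p₁ = ((ρ τ).hom ≫ j (σ * τ⁻¹)) ≫ p₁
        rw [Category.assoc, hZ₁, reassoc_of% hj₁ σ, Category.assoc, hj₁, Category.comp_id]
      · show (j σ ≫ rZ τ) ≫ p₂ = ((ρ τ).hom ≫ j (σ * τ⁻¹)) ≫ p₂
        rw [Category.assoc, hZ₂, hj₂, Category.assoc, hj₂, hθW, hθW, ← Category.assoc]
        congr 1
        show (ρ σ).hom = (ρ (σ * τ⁻¹) * ρ τ).hom
        rw [← map_mul, inv_mul_cancel_right]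
    rw [reassoc_of% this, hψ, hψ]
    show (ρ (σ * τ⁻¹) * ρ τ).hom = _
    rw [← map_mul, inv_mul_cancel_right]
  obtain ⟨θ', hθ', -⟩ := SGA1Q.desc_existsUnique_isQuot hqZ ψ hψinv
  have h1 : θ ≫ θ' = 𝟙 Z := by
    have h0 : j 1 ≫ p₂ = θ := by rw [hj₂, hW1, Category.comp_id]
    rw [← h0, Category.assoc, hθ', hψ, map_one]
    rfl
  have h2 : θ' ≫ θ = 𝟙 W := by
    refine (SGA1Q.desc_existsUnique_isQuot hqZ p₂ hZ₂).unique ?_ (Category.comp_id _)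
    rw [← Category.assoc, hθ']
    exact hext _ _ fun σ => by rw [reassoc_of% hψ σ, hj₂, hθW]
  exact IsPullback.of_iso_pullback ⟨hsq.symm⟩ ⟨θ, θ', h1, h2⟩ hθ₁ hθ₂

end Groth.Agent.ZH85.StackCount
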