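import Groth.Agent.FBaseLib.Product
import Groth.Agent.GrpSchLib.Reduced
import Groth.Agent.GrpSchLib.Cartier
import Groth.Agent.GrpSchLib.IdentityComp
import Groth.Agent.H23.RedSub

/-! The reduced identity component of a group scheme over an algebraically closed field. -/

noncomputable section

set_option autoImplicit false
set_option backward.isDefEq.respectTransparency false
set_option backward.isDefEq.respectTransparency.types false

universe u

open CategoryTheory CategoryTheory.Limits MonoidalCategory CartesianMonoidalCategory MonObj AlgebraicGeometry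

namespace Groth.Agent.ZH85.StackCount

open Groth.Agent

variable {K : Type u} [Field K] [PerfectField K]

theorem isReduced_pullback_spec_perfect {A B : CommRingCat.{u}} (a : Spec A ⟶ Spec (CommRingCat.of K))
    (b : Spec B ⟶ Spec (CommRingCat.of K)) [AlgebraicGeometry.IsReduced (Spec A)]
    [AlgebraicGeometry.IsReduced (Spec B)] : AlgebraicGeometry.IsReduced (pullback a b) := by
  obtain ⟨φ, rfl⟩ := Spec.map_surjective a
  obtain ⟨ψ, rfl⟩ := Spec.map_surjective b
  letI : Algebra K A := φ.hom.toAlgebra
  letI : Algebra K B := ψ.hom.toAlgebra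
  haveI : _root_.IsReduced A := (affine_isReduced_iff A).mp inferInstance
  haveI : _root_.IsReduced B := (affine_isReduced_iff B).mp inferInstance
  haveI : Algebra.IsGeometricallyReduced K A := GrpSchLib.isGeometricallyReduced_of_isReduced K A
  haveI : _root_.IsReduced (TensorProduct K B A) := FBaseLib.isReduced_tensor A B
  haveI : _root_.IsReduced (TensorProduct K A B) :=
    isReduced_of_injective (Algebra.TensorProduct.comm K A B) (Algebra.TensorProduct.comm K A B).injective
  exact isReduced_of_isOpenImmersion (pullbackSpecIso K A B).hom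

/-- A product of reduced schemes over a perfect field is reduced. -/
theorem isReduced_pullback_perfect {X S : Scheme.{u}} (f : X ⟶ Spec (CommRingCat.of K))
    (g : S ⟶ Spec (CommRingCat.of K)) [AlgebraicGeometry.IsReduced X] [AlgebraicGeometry.IsReduced S] :
    AlgebraicGeometry.IsReduced (pullback f g) := by
  apply +allowSynthFailures @IsReduced.of_openCover
    (𝒰 := Scheme.Pullback.openCoverOfLeftRight X.affineCover S.affineCover f g)
  rintro ⟨i, j⟩
  haveI : AlgebraicGeometry.IsReduced (X.affineCover.X i) := isReduced_of_isOpenImmersion (X.affineCover.f i)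
  haveI : AlgebraicGeometry.IsReduced (S.affineCover.X j) := isReduced_of_isOpenImmersion (S.affineCover.f j)
  exact @isReduced_pullback_spec_perfect K _ _ _ _ (X.affineCover.f i ≫ f) (S.affineCover.f j ≫ g)
    (‹AlgebraicGeometry.IsReduced (X.affineCover.X i)›) (‹AlgebraicGeometry.IsReduced (S.affineCover.X j)›)

/-- The reduced identity component: smooth, irreducible, closed. -/
theorem exists_redComponent [IsAlgClosed K] (S : Over (Spec (CommRingCat.of K))) [GrpObj S]
    [LocallyOfFiniteType S.hom] :
    ∃ (A : Over (Spec (CommRingCat.of K))) (_ : GrpObj A) (incl : A ⟶ S) (_ : IsMonHom incl),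
      IsClosedImmersion incl.left ∧ Smooth A.hom ∧ IrreducibleSpace A.left ∧
        Set.range incl.left = connectedComponent (η[S].left (IsLocalRing.closedPoint K)) := by
  obtain ⟨G₀, _, i, _, hci, -, hr, hgi, -⟩ := GrpSchLib.exists_identityComponent (G := S)
  haveI := hgi
  haveI := hci
  haveI : Subsingleton ↥(Spec (CommRingCat.of K)) := inferInstanceAs (Subsingleton (PrimeSpectrum K))
  haveI : IrreducibleSpace G₀.left := GeometricallyIrreducible.irreducibleSpace G₀.hom
    fun s _ => Subsingleton.set_cases (p := IsOpen) isOpen_empty isOpen_univ _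
  let I := G₀.left.nilradical
  haveI : AlgebraicGeometry.IsReduced I.subscheme := H23.RedSub.isReduced_nilradical G₀.left
  let A : Over (Spec (CommRingCat.of K)) := Over.mk (I.subschemeι ≫ G₀.hom)
  let j : A ⟶ G₀ := Over.homMk I.subschemeι rfl
  haveI hj : IsClosedImmersion j.left := inferInstanceAs (IsClosedImmersion I.subschemeι)
  haveI : Mono j := (Over.forget _).mono_of_mono_map (inferInstanceAs (Mono I.subschemeι))
  haveI : AlgebraicGeometry.IsReduced A.left := ‹AlgebraicGeometry.IsReduced I.subscheme›
  have hrj : Set.range j.left = Set.univ := by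
    show Set.range I.subschemeι = _
    rw [Scheme.IdealSheafData.range_subschemeι, Scheme.support_nilradical]
    rfl
  have hfac : ∀ {T : Over (Spec (CommRingCat.of K))} (f : T ⟶ G₀), AlgebraicGeometry.IsReduced T.left →
      ∃ f₀ : T ⟶ A, f₀ ≫ j = f := by
    intro T f _
    obtain ⟨g, hg⟩ := H23.RedSub.exists_lift_closed f.left j.left (by rw [hrj]; exact Set.subset_univ _)
    refine ⟨Over.homMk g ?_, Over.OverMorphism.ext hg⟩
    show g ≫ j.left ≫ G₀.hom = _
    rw [reassoc_of% hg, Over.w]
  haveI : AlgebraicGeometry.IsReduced (𝟙_ (Over (Spec (CommRingCat.of K)))).left :=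
    inferInstanceAs (AlgebraicGeometry.IsReduced (Spec (CommRingCat.of K)))
  obtain ⟨e₀, he₀⟩ := hfac η[G₀] inferInstance
  obtain ⟨m₀, hm₀⟩ := hfac ((fst A A ≫ j) * (snd A A ≫ j))
    (show AlgebraicGeometry.IsReduced (pullback A.hom A.hom) from isReduced_pullback_perfect A.hom A.hom)
  obtain ⟨v₀, hv₀⟩ := hfac j⁻¹ inferInstance
  letI : GrpObj A := GrpSchLib.grpObjOfFactor j e₀ he₀ m₀ hm₀ v₀ hv₀
  haveI hjm : IsMonHom j := ⟨he₀, by
    show m₀ ≫ j = _
    rw [hm₀]
    simp [Hom.mul_def]⟩
  haveI : LocallyOfFiniteType G₀.hom := by rw [← Over.w i]; infer_instance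
  haveI : LocallyOfFiniteType A.hom := inferInstanceAs (LocallyOfFiniteType (I.subschemeι ≫ G₀.hom))
  haveI : Surjective j.left := ⟨fun x => hrj.symm.subset (Set.mem_univ x)⟩
  refine ⟨A, inferInstance, j ≫ i, inferInstance, ?_, GrpSchLib.smooth_of_isReduced_of_isAlgClosed A, ?_, ?_⟩
  · rw [Over.comp_left]; infer_instance
  · let e : A.left ≃ₜ G₀.left := j.left.isEmbedding.toHomeomorph.trans
      ((Homeomorph.setCongr hrj).trans (Homeomorph.Set.univ _))
    refine @IrreducibleSpace.mk _ _ ⟨?_⟩ ⟨e.symm (Classical.arbitrary _)⟩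
    rw [← Set.image_univ_of_surjective e.symm.surjective]
    exact ((IrreducibleSpace.isIrreducible_univ _).image _ e.symm.continuous.continuousOn).isPreirreducible
  · rw [← hr, Over.comp_left]
    show Set.range (i.left ∘ j.left) = _
    exact Function.Surjective.range_comp j.left.surjective _

end Groth.Agent.ZH85.StackCount
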