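import Groth.Agent.ZH85.StackCount.QuotPts
import Groth.Agent.EssDimLib.EquivDescent

/-! Sections of torsors in a quotient stack: division, freeness and rigidity of morphisms. -/

noncomputable section

set_option autoImplicit false
set_option backward.isDefEq.respectTransparency false
set_option backward.isDefEq.respectTransparency.types false

universe u

open CategoryTheory CategoryTheory.Limits MonoidalCategory CartesianMonoidalCategory MonObj AlgebraicGeometry

namespace Groth.Agent.ZH85.StackCount

open Groth.Agent.QuotLib Groth.Agent.GrpSchLib AlgSt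

variable {S : Scheme.{u}} {G : Over S} [GrpObj G] {X : Over S} {aX : AlgGrp.Action G X}
  {K : Precoverage Scheme.{u}}

section
variable (A : AlgSt.QuotObj K G aX) {V : Over S}

/-- Translation does not change the image in the base. -/
theorem lift_act_π (g : V ⟶ G) (b : V ⟶ A.P) : lift g b ≫ A.act.act ≫ A.π = b ≫ A.π := by
  rw [A.cart.w, lift_snd_assoc]

/-- Two points over the same point of the base differ by a translation. -/
theorem exists_div (a b : V ⟶ A.P) (h : a ≫ A.π = b ≫ A.π) : ∃ g : V ⟶ G, lift g b ≫ A.act.act = a := by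
  refine ⟨A.cart.lift a b h ≫ fst G A.P, ?_⟩
  rw [show lift (A.cart.lift a b h ≫ fst G A.P) b = A.cart.lift a b h from
    CartesianMonoidalCategory.hom_ext _ _ (by simp) (by rw [lift_snd]; exact (A.cart.lift_snd _ _ _).symm)]
  exact A.cart.lift_fst _ _ _

/-- The action on the torsor is free. -/
theorem act_free {g g' : V ⟶ G} {b : V ⟶ A.P} (h : lift g b ≫ A.act.act = lift g' b ≫ A.act.act) : g = g' := by
  have : lift g b = lift g' b := A.cart.hom_ext h (by simp)
  simpa using congrArg (· ≫ fst G A.P) this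

/-- The map to the space is equivariant on points. -/
theorem act_φ (g : V ⟶ G) (b : V ⟶ A.P) : lift g b ≫ A.act.act ≫ A.φ = lift g (b ≫ A.φ) ≫ aX.act := by
  rw [A.eqv, lift_whiskerLeft_assoc]

end

/-- An equivariant map of total spaces commutes with translations. -/
theorem act_top {A B : AlgSt.QuotObj K G aX} (f : A ⟶ B) {V : Over S} (g : V ⟶ G) (b : V ⟶ A.P) :
    (lift g b ≫ A.act.act) ≫ f.top = lift g (b ≫ f.top) ≫ B.act.act := by
  rw [Category.assoc, f.eqv, lift_whiskerLeft_assoc]

/-- The orbit map of a point of the torsor. -/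
def orbitMap (A : AlgSt.QuotObj K G aX) {V : Over S} (t : V ⟶ A.P) : G ⊗ V ⟶ A.P := (G ◁ t) ≫ A.act.act

theorem lift_orbitMap (A : AlgSt.QuotObj K G aX) {V W : Over S} (t : V ⟶ A.P) (g : W ⟶ G) (v : W ⟶ V) :
    lift g v ≫ orbitMap A t = lift g (v ≫ t) ≫ A.act.act := lift_whiskerLeft_assoc _ _ _ _

theorem isPullback_orbitMap [K.HasIsos] (A : AlgSt.QuotObj K G aX) {V : Over S} (t : V ⟶ A.P) :
    IsPullback (orbitMap A t) (snd G V) A.π (t ≫ A.π) :=
  (trivHom A t (t ≫ A.φ) rfl).cart

/-- An equivariant map is determined by its value on one point over a faithfully flat cover of the base. -/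
theorem eqv_ext [K.HasIsos] (A : AlgSt.QuotObj K G aX) {P : Over S} (act : AlgGrp.Action G P) {V : Over S} (t : V ⟶ A.P)
    (hu : EssDimLib.fqs (t ≫ A.π).left) {f f' : A.P ⟶ P} (hf : A.act.act ≫ f = (G ◁ f) ≫ act.act)
    (hf' : A.act.act ≫ f' = (G ◁ f') ≫ act.act) (h : t ≫ f = t ≫ f') : f = f' := by
  have := EssDimLib.epi_of_fqs (EssDimLib.fqs_of_isPullback (isPullback_orbitMap A t) hu)
  rw [← cancel_epi (orbitMap A t), orbitMap, Category.assoc, Category.assoc, hf, hf',
    ← MonoidalCategory.whiskerLeft_comp_assoc, ← MonoidalCategory.whiskerLeft_comp_assoc, h]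

/-- A morphism is determined by its base and the image of one such point. -/
theorem hom_ext_of_section [K.HasIsos] {A B : AlgSt.QuotObj K G aX} {f f' : A ⟶ B} (hb : f.base = f'.base)
    {V : Over S} (t : V ⟶ A.P) (hu : EssDimLib.fqs (t ≫ A.π).left) (h : t ≫ f.top = t ≫ f'.top) : f = f' :=
  AlgSt.QuotObj.hom_ext hb (eqv_ext A B.act t hu f.eqv f'.eqv h)

end Groth.Agent.ZH85.StackCount
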