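import Groth.Agent.ZH85.StackCount.SubKb
import Groth.Agent.GrpSchLib.IdentityComp

/-! The stabiliser of a point is a closed subgroup. -/

noncomputable section

set_option autoImplicit false
set_option backward.isDefEq.respectTransparency false
set_option backward.isDefEq.respectTransparency.types false

universe u

open CategoryTheory CategoryTheory.Limits MonoidalCategory CartesianMonoidalCategory MonObj AlgebraicGeometry
open GalTw

namespace Groth.Agent.ZH85.StackCount

variable {k : Type u} [Field k] {kb : Type u} [Field kb] [Algebra k kb] [IsAlgClosed kb]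
  {G X : Over (Spec (CommRingCat.of k))} [GrpObj G] [LocallyOfFiniteType X.hom] [LocallyOfFiniteType G.hom]
  (aX : AlgGrp.Action G X) (x : SGA7.Pts kb X)

/-- The orbit map over the closure. -/
def orbitB : bX kb G ⟶ bX kb X :=
  lift (lift (fst G (SGA7.pt (K := k) kb)) (snd G (SGA7.pt (K := k) kb) ≫ x) ≫ aX.act)
    (snd G (SGA7.pt (K := k) kb))

/-- The point as a section. -/
def pointB : SGA7.pt (K := k) kb ⟶ bX kb X := lift x (𝟙 _)

omit [IsAlgClosed kb] [LocallyOfFiniteType X.hom] [LocallyOfFiniteType G.hom] in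
theorem comp_orbitB {V : Over (Spec (CommRingCat.of k))} (a : V ⟶ G) (p : V ⟶ SGA7.pt (K := k) kb) :
    lift a p ≫ orbitB aX x = p ≫ pointB x ↔ lift a (p ≫ x) ≫ aX.act = p ≫ x := by
  rw [orbitB, comp_lift, lift_snd, comp_lift_assoc, lift_fst, lift_snd_assoc, pointB, comp_lift, Category.comp_id]
  exact ⟨fun h => by simpa using congrArg (· ≫ fst X _) h, fun h => by rw [h]⟩

omit [LocallyOfFiniteType G.hom] in
theorem isClosedImmersion_pointB : IsClosedImmersion (pointB x).left := by
  let p := (snd X (SGA7.pt (K := k) kb)).left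
  have h : (pointB x).left ≫ p = 𝟙 _ := lift_left_snd x
  haveI : IsImmersion ((pointB x).left ≫ p) := by rw [h]; infer_instance
  haveI : IsImmersion (pointB x).left := IsImmersion.of_comp (pointB x).left p
  refine IsClosedImmersion.of_isPreimmersion _ ?_
  rw [show Set.range (pointB x).left = {cpt x} from Set.eq_singleton_iff_unique_mem.2
    ⟨⟨_, rfl⟩, fun z hz => by
      obtain ⟨w, rfl⟩ := hz
      exact congrArg (pointB x).left (Subsingleton.elim (α := PrimeSpectrum kb) w _)⟩]
  exact isClosed_cpt x

variable {S : Over (Spec (CommRingCat.of kb))} (s : S ⟶ bcK kb G)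
  (hS : ∀ (T : Over (Spec (CommRingCat.of kb)))
    (g : (Over.map (SGA7.pt (K := k) kb).hom).obj T ⟶ G),
    (∃ g' : T ⟶ S, g' ≫ s = (Over.mapPullbackAdj (SGA7.pt (K := k) kb).hom).homEquiv T G g) ↔
      lift g ((Over.homMk T.hom rfl : (Over.map (SGA7.pt (K := k) kb).hom).obj T ⟶ SGA7.pt (K := k) kb) ≫ x)
          ≫ aX.act =
        (Over.homMk T.hom rfl : (Over.map (SGA7.pt (K := k) kb).hom).obj T ⟶ SGA7.pt (K := k) kb) ≫ x)

omit [IsAlgClosed kb] [LocallyOfFiniteType X.hom] [LocallyOfFiniteType G.hom] in
include hS in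
/-- The defining property of the stabiliser through the orbit map. -/
theorem stab_iff (T : Over (Spec (CommRingCat.of kb))) (h : T ⟶ bcK kb G) :
    (∃ g' : T ⟶ S, g' ≫ s = h) ↔ h.left ≫ (orbitB aX x).left = T.hom ≫ (pointB x).left := by
  let f := (SGA7.pt (K := k) kb).hom
  let g := ((Over.mapPullbackAdj f).homEquiv T G).symm h
  let str : (Over.map f).obj T ⟶ SGA7.pt (K := k) kb := Over.homMk T.hom rfl
  have hg : (Over.mapPullbackAdj f).homEquiv T G g = h := Equiv.apply_symm_apply _ _
  have hleft : (lift g str).left = h.left := by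
    have hh : h.left ≫ pullback.fst G.hom f = g.left := by
      simp [g, Over.mapPullbackAdj, Adjunction.mkOfHomEquiv_homEquiv]
    refine pullback.hom_ext ?_ ?_
    · rw [show (lift g str).left ≫ pullback.fst G.hom f = g.left from congrArg CommaMorphism.left (lift_fst g str)]
      exact hh.symm
    · rw [show (lift g str).left ≫ pullback.snd G.hom f = T.hom from congrArg CommaMorphism.left (lift_snd g str)]
      exact (Over.w h).symm
  rw [← hg, hS T g, hg, ← comp_orbitB aX x g str, ← hleft]
  exact ⟨fun e => congrArg CommaMorphism.left e, fun e => Over.OverMorphism.ext e⟩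

include hS in
/-- The stabiliser is closed. -/
theorem isClosedImmersion_stab [Mono s] : IsClosedImmersion s.left := by
  haveI := isClosedImmersion_pointB (k := k) x
  let o := (orbitB aX x).left
  let z := (pointB x).left
  let R : Over (Spec (CommRingCat.of kb)) := Over.mk (pullback.fst o z ≫ (bcK kb G).hom)
  let r : R ⟶ bcK kb G := Over.homMk (pullback.fst o z) rfl
  haveI hr : IsClosedImmersion r.left := inferInstanceAs (IsClosedImmersion (pullback.fst o z))
  haveI : Mono r := (Over.forget _).mono_of_mono_map (inferInstanceAs (Mono r.left))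
  have hsnd : pullback.snd o z = R.hom := by
    have h1 : z ≫ (snd X (SGA7.pt (K := k) kb)).left = 𝟙 _ := lift_left_snd x
    calc pullback.snd o z = pullback.snd o z ≫ z ≫ (snd X (SGA7.pt (K := k) kb)).left := by
          rw [h1]; exact (Category.comp_id _).symm
      _ = pullback.fst o z ≫ o ≫ (snd X (SGA7.pt (K := k) kb)).left := (pullback.condition_assoc _).symm
      _ = R.hom := by
          show _ = pullback.fst o z ≫ (bcK kb G).hom
          congr 1
          exact congrArg CommaMorphism.left (lift_snd (lift (fst G (SGA7.pt (K := k) kb))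
            (snd G (SGA7.pt (K := k) kb) ≫ x) ≫ aX.act) (snd G (SGA7.pt (K := k) kb)))
  obtain ⟨v, hv⟩ : ∃ v : R ⟶ S, v ≫ s = r := (stab_iff aX x s hS R r).2 (by
    show pullback.fst o z ≫ o = R.hom ≫ z
    rw [← hsnd, pullback.condition])
  have hu0 := (stab_iff aX x s hS S s).1 ⟨𝟙 S, Category.id_comp s⟩
  let u : S ⟶ R := Over.homMk (pullback.lift s.left S.hom hu0) (by
    show pullback.lift _ _ _ ≫ pullback.fst o z ≫ _ = _
    rw [pullback.lift_fst_assoc, Over.w s])
  have hu : u ≫ r = s := Over.OverMorphism.ext (pullback.lift_fst _ _ _)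
  haveI : IsIso u := ⟨⟨v, by rw [← cancel_mono s, Category.assoc, hv, hu, Category.id_comp],
    by rw [← cancel_mono r, Category.assoc, hu, hv, Category.id_comp]⟩⟩
  haveI : IsIso u.left := (Over.forget _).map_isIso u
  rw [← hu, Over.comp_left]
  infer_instance

include hS in
/-- The points of the stabiliser. -/
theorem mem_subSet_stab [IsClosedImmersion s.left] (a : SGA7.Pts kb G) :
    a ∈ ptsIn (subSet s) ↔ lift a x ≫ aX.act = x := by
  rw [mem_subSet, stab_iff aX x s hS]
  have e1 : (secOfPt kb a).left = (lift a (𝟙 (SGA7.pt (K := k) kb))).left := by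
    refine pullback.hom_ext ?_ ?_
    · rw [secOfPt_left, pullback.lift_fst]
      exact (congrArg CommaMorphism.left (lift_fst a (𝟙 (SGA7.pt (K := k) kb)))).symm
    · rw [secOfPt_left, pullback.lift_snd]
      exact (congrArg CommaMorphism.left (lift_snd a (𝟙 (SGA7.pt (K := k) kb)))).symm
  rw [e1]
  have h := comp_orbitB aX x a (𝟙 (SGA7.pt (K := k) kb))
  rw [Category.id_comp, Category.id_comp] at h
  rw [← h]
  refine ⟨fun e => Over.OverMorphism.ext (e.trans (Category.id_comp _)), fun e => ?_⟩
  exact (congrArg CommaMorphism.left e).trans (Category.id_comp _).symm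

end Groth.Agent.ZH85.StackCount
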