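import Groth.Agent.ZH85.StackCount.StabClosed
import Groth.Agent.ZH85.StackCount.RedComp
import Groth.Agent.H23.TopDim

/-! The identity component of a stabiliser as a closed set over the closure. -/

noncomputable section

set_option autoImplicit false
set_option backward.isDefEq.respectTransparency false
set_option backward.isDefEq.respectTransparency.types false

universe u

open CategoryTheory CategoryTheory.Limits MonoidalCategory CartesianMonoidalCategory MonObj AlgebraicGeometry
open GalTw Topology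

namespace Groth.Agent.ZH85.StackCount

open Groth.Agent.GrpSchLib (act_mul act_one)

variable {k : Type u} [Field k] {kb : Type u} [Field kb] [Algebra k kb]
  {G : Over (Spec (CommRingCat.of k))} [GrpObj G]

/-- Left translation over the closure. -/
def lT (b : SGA7.pt (K := k) kb ⟶ G) : bX kb G ⟶ bX kb G :=
  lift ((snd G (SGA7.pt (K := k) kb) ≫ b) * fst G (SGA7.pt (K := k) kb)) (snd G (SGA7.pt (K := k) kb))

/-- Conjugation over the closure. -/
def cj (b : SGA7.pt (K := k) kb ⟶ G) : bX kb G ⟶ bX kb G :=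
  lift ((snd G (SGA7.pt (K := k) kb) ≫ b) * fst G (SGA7.pt (K := k) kb) *
    (snd G (SGA7.pt (K := k) kb) ≫ b)⁻¹) (snd G (SGA7.pt (K := k) kb))

theorem lT_apply (b a : SGA7.pt (K := k) kb ⟶ G) : (lT b).left (cpt a) = cpt (b * a) := by
  rw [cpt_map (lT b) (lift_snd _ _) a, lT, lift_fst, MonObj.comp_mul, lift_fst, lift_snd_assoc, Category.id_comp]

theorem cj_apply (b a : SGA7.pt (K := k) kb ⟶ G) : (cj b).left (cpt a) = cpt (b * a * b⁻¹) := by
  rw [cpt_map (cj b) (lift_snd _ _) a, cj, lift_fst, MonObj.comp_mul, MonObj.comp_mul, GrpObj.comp_inv, lift_fst,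
    lift_snd_assoc, Category.id_comp]

theorem lT_comp (b c : SGA7.pt (K := k) kb ⟶ G) : lT b ≫ lT c = lT (c * b) := by
  refine CartesianMonoidalCategory.hom_ext _ _ ?_ ?_
  · simp only [lT, Category.assoc, lift_fst, MonObj.comp_mul, lift_snd_assoc, _root_.mul_assoc]
  · simp only [lT, Category.assoc, lift_snd]

theorem lT_one : lT (1 : SGA7.pt (K := k) kb ⟶ G) = 𝟙 _ := by
  refine CartesianMonoidalCategory.hom_ext _ _ ?_ ?_
  · rw [lT, lift_fst, MonObj.comp_one, _root_.one_mul, Category.id_comp]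
  · rw [lT, lift_snd, Category.id_comp]

/-- Left translation as a homeomorphism. -/
def lTHomeo (b : SGA7.pt (K := k) kb ⟶ G) : (bX kb G).left ≃ₜ (bX kb G).left :=
  Scheme.homeoOfIso ((Over.forget _).mapIso
    ⟨lT b, lT b⁻¹, by rw [lT_comp, inv_mul_cancel, lT_one], by rw [lT_comp, mul_inv_cancel, lT_one]⟩)

theorem lTHomeo_apply (b : SGA7.pt (K := k) kb ⟶ G) (z : (bX kb G).left) : lTHomeo b z = (lT b).left z := rfl

variable [Finite k] [IsAlgClosure k kb]

omit [GrpObj G] in
/-- The point of a Frobenius conjugate. -/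
theorem fs_apply (a : SGA7.pt (K := k) kb ⟶ G) :
    (G ◁ galS k k kb (frobK k k kb)⁻¹).left (cpt a) = cpt (fs k k kb ≫ a) := by
  have h : lift (fs k k kb ≫ a) (𝟙 (SGA7.pt (K := k) kb)) =
      fs k k kb ≫ lift a (𝟙 _) ≫ (G ◁ galS k k kb (frobK k k kb)⁻¹) := by
    rw [lift_whiskerLeft, comp_lift, Category.id_comp, ← galS_mul, mul_inv_cancel, galS_one]
  show _ = (lift (fs k k kb ≫ a) (𝟙 (SGA7.pt (K := k) kb))).left (IsLocalRing.closedPoint kb)
  rw [h]
  show _ = (G ◁ _).left ((lift a (𝟙 _)).left ((fs k k kb).left (IsLocalRing.closedPoint kb)))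
  rw [show (fs k k kb).left (IsLocalRing.closedPoint kb) = IsLocalRing.closedPoint kb from
    Subsingleton.elim (α := PrimeSpectrum kb) _ _]
  rfl

variable {X : Over (Spec (CommRingCat.of k))} [LocallyOfFiniteType X.hom] [LocallyOfFiniteType G.hom]
  [QuasiCompact G.hom] [IsAffineHom G.hom]

/-- The reduced identity component of the stabiliser of a point. -/
theorem exists_stabComponent (aX : AlgGrp.Action G X) (x : SGA7.Pts kb X)
    (S : Over (Spec (CommRingCat.of kb))) [GrpObj S] (s : S ⟶ bcK kb G) [IsMonHom s] [Mono s]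
    (hS : ∀ (T : Over (Spec (CommRingCat.of kb)))
      (g : (Over.map (SGA7.pt (K := k) kb).hom).obj T ⟶ G),
      (∃ g' : T ⟶ S, g' ≫ s = (Over.mapPullbackAdj (SGA7.pt (K := k) kb).hom).homEquiv T G g) ↔
        lift g ((Over.homMk T.hom rfl : (Over.map (SGA7.pt (K := k) kb).hom).obj T ⟶ SGA7.pt (K := k) kb) ≫ x)
            ≫ aX.act =
          (Over.homMk T.hom rfl : (Over.map (SGA7.pt (K := k) kb).hom).obj T ⟶ SGA7.pt (K := k) kb) ≫ x)
    (hSu : Red.HasNoSubtorus kb S) (d : ℕ) (hd : topologicalKrullDim ↥S.left = (d : WithBot ℕ∞)) :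
    ∃ W : Set (bX kb G).left, IsClosed W ∧ IsIrreducible W ∧ (1 : SGA7.Pts kb G) ∈ ptsIn W ∧
      (∀ a ∈ ptsIn W, ∀ b ∈ ptsIn W, a * b ∈ ptsIn W) ∧ (∀ a ∈ ptsIn W, a⁻¹ ∈ ptsIn W) ∧
      (∀ a ∈ ptsIn W, ∃ N, a ^ ringChar k ^ N = 1) ∧ topologicalKrullDim ↥W = (d : WithBot ℕ∞) ∧
      (∀ a ∈ ptsIn W, lift a x ≫ aX.act = x) ∧
      (∀ c : SGA7.Pts kb G, lift c x ≫ aX.act = x → ∀ a ∈ ptsIn W, c * a * c⁻¹ ∈ ptsIn W) ∧
      (∀ g : SGA7.Pts kb G, lift g (fs k k kb ≫ x) ≫ aX.act = x →
        ∀ a ∈ ptsIn W, g * (fs k k kb ≫ a) * g⁻¹ ∈ ptsIn W) ∧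
      ∃ R : Set (SGA7.Pts kb G), R.Finite ∧ ∀ a : SGA7.Pts kb G, lift a x ≫ aX.act = x →
        ∃ r ∈ R, r⁻¹ * a ∈ ptsIn W := by
  classical
  haveI : IsAlgClosed kb := IsAlgClosure.isAlgClosed k
  haveI : Fact (ringChar k).Prime := ⟨CharP.char_is_prime k (ringChar k)⟩
  haveI : CharP kb (ringChar k) := charP_of_injective_algebraMap (algebraMap k kb).injective (ringChar k)
  haveI := isClosedImmersion_stab aX x s hS
  have hmem := mem_subSet_stab aX x s hS
  haveI : LocallyOfFiniteType (bcK kb G).hom :=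
    inferInstanceAs (LocallyOfFiniteType (pullback.snd G.hom (SGA7.pt (K := k) kb).hom))
  haveI : LocallyOfFiniteType S.hom := by rw [← Over.w s]; infer_instance
  obtain ⟨A, _, incl, _, hci, hsm, hirr, hrange⟩ := exists_redComponent S
  haveI := hci
  haveI := hsm
  haveI := hirr
  haveI : IsClosedImmersion (incl ≫ s).left := by rw [Over.comp_left]; infer_instance
  haveI : Mono incl := by
    haveI : Mono ((Over.forget (Spec (CommRingCat.of kb))).map incl) := inferInstanceAs (Mono incl.left)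
    exact (Over.forget _).mono_of_mono_map ‹_›
  have hA : Red.HasNoSubtorus kb A := fun T _ j _ _ hT => hSu T (j ≫ incl) hT
  have hrW : subSet (incl ≫ s) = s.left '' Set.range incl.left := by
    rw [← Set.range_comp]
    rfl
  let W := subSet (incl ≫ s)
  haveI : JacobsonSpace (bX kb G).left := LocallyOfFiniteType.jacobsonSpace
    (show (bX kb G).left ⟶ Spec (CommRingCat.of kb) from (snd G (SGA7.pt (K := k) kb)).left)
  have hWst : ∀ a ∈ ptsIn W, lift a x ≫ aX.act = x := fun a ha => (hmem a).1 (by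
    obtain ⟨w, hw⟩ := (mem_subSet (incl ≫ s) a).1 ha
    exact (mem_subSet s a).2 ⟨w ≫ incl, by rw [Category.assoc]; exact hw⟩)
  have hst_inv : ∀ a : SGA7.Pts kb G, lift a x ≫ aX.act = x → lift a⁻¹ x ≫ aX.act = x := fun a ha => by
    conv_lhs => rw [← ha, act_mul, inv_mul_cancel]
    exact act_one aX x
  have hst_mul : ∀ a b : SGA7.Pts kb G, lift a x ≫ aX.act = x → lift b x ≫ aX.act = x →
      lift (a * b) x ≫ aX.act = x := fun a b ha hb => by rw [← act_mul, hb, ha]
  -- translations preserve the stabiliser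
  have hT : ∀ a : SGA7.Pts kb G, lift a x ≫ aX.act = x → ∀ z ∈ subSet s, (lT a).left z ∈ subSet s := by
    intro a ha z hz
    have hcl : IsClosed ((lT a).left ⁻¹' subSet s) := (isClosed_subSet s).preimage (lT a).left.continuous
    refine closure_minimal ?_ hcl (show z ∈ closure (subSet s ∩ closedPoints (bX kb G).left) by
      rw [JacobsonSpace.closure_inter_closedPoints_eq_closure (isClosed_subSet s).isLocallyClosed]
      exact subset_closure hz)
    rintro w ⟨hw, hwc⟩
    obtain ⟨b, rfl⟩ := exists_cpt hwc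
    show (lT a).left (cpt b) ∈ subSet s
    rw [lT_apply]
    exact (hmem _).2 (hst_mul a b ha ((hmem b).1 hw))
  -- cosets
  haveI : CompactSpace S.left := by
    haveI : QuasiCompact (bcK kb G).hom := MorphismProperty.pullback_snd _ _ ‹QuasiCompact G.hom›
    haveI : QuasiCompact S.hom := by rw [← Over.w s]; infer_instance
    exact QuasiCompact.compactSpace_of_compactSpace S.hom
  haveI : IsLocallyNoetherian S.left := LocallyOfFiniteType.isLocallyNoetherian S.hom
  haveI : IsNoetherian S.left := { }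
  haveI hfin : Finite (irreducibleComponents (S.left : Type u)) :=
    TopologicalSpace.NoetherianSpace.finite_irreducibleComponents.to_subtype
  have hone : s.left (η[S].left (IsLocalRing.closedPoint kb)) = cpt (1 : SGA7.Pts kb G) := by
    have h1 : η[S] ≫ s = secOfPt kb (1 : SGA7.Pts kb G) := by
      rw [show secOfPt kb (1 : SGA7.Pts kb G) = 1 from
        map_one (MonoidHom.mk' (secOfPt kb) secOfPt_mul : SGA7.Pts kb G →* _), IsMonHom.one_hom, Hom.one_def,
        toUnit_unique (toUnit (𝟙_ (Over (Spec (CommRingCat.of kb))))) (𝟙 _), Category.id_comp]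
    rw [← secOfPt_left_apply, ← h1]
    rfl
  have hsame : ∀ (C : Set S.left), C ∈ irreducibleComponents (S.left : Type u) → ∀ a b : SGA7.Pts kb G,
      cpt a ∈ s.left '' C → cpt b ∈ s.left '' C → a⁻¹ * b ∈ ptsIn W := by
    intro C hC a b ha hb
    have ha' : lift a x ≫ aX.act = x := (hmem a).1 (by
      obtain ⟨z, -, hz⟩ := ha; exact ⟨z, hz⟩)
    let T := (lT a⁻¹).left '' (s.left '' C)
    have hTs : T ⊆ Set.range s.left := by
      rintro _ ⟨_, ⟨z, -, rfl⟩, rfl⟩
      exact hT a⁻¹ (hst_inv a ha') _ ⟨z, rfl⟩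
    have hTp : _root_.IsPreconnected T := (hC.1.2.isPreconnected.image _ s.left.continuous.continuousOn).image _
      (lT a⁻¹).left.continuous.continuousOn
    have hpre : _root_.IsPreconnected (s.left ⁻¹' T) := by
      rw [← s.left.isEmbedding.isInducing.isPreconnected_image, Set.image_preimage_eq_of_subset hTs]
      exact hTp
    have h1 : η[S].left (IsLocalRing.closedPoint kb) ∈ s.left ⁻¹' T := by
      show s.left _ ∈ T
      rw [hone, ← inv_mul_cancel a, ← lT_apply]
      exact ⟨_, ha, rfl⟩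
    obtain ⟨z, hz, hzb⟩ := hb
    have hmemT : (lT a⁻¹).left (cpt b) ∈ T := ⟨cpt b, ⟨z, hz, hzb⟩, rfl⟩
    obtain ⟨w, hw⟩ := hTs hmemT
    show cpt (a⁻¹ * b) ∈ W
    rw [show W = s.left '' Set.range incl.left from hrW, hrange, ← lT_apply, ← hw]
    refine ⟨w, hpre.subset_connectedComponent h1 ?_, rfl⟩
    show s.left w ∈ T
    rw [hw]
    exact hmemT
  let pick : irreducibleComponents (S.left : Type u) → SGA7.Pts kb G := fun C =>
    if h : ∃ a : SGA7.Pts kb G, cpt a ∈ s.left '' C.1 then h.choose else 1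
  let R : Set (SGA7.Pts kb G) := Set.range pick
  have hR : ∀ a : SGA7.Pts kb G, lift a x ≫ aX.act = x → ∃ r ∈ R, r⁻¹ * a ∈ ptsIn W := by
    intro a ha
    obtain ⟨z, hz⟩ := (hmem a).2 ha
    obtain ⟨C, hC, hzC⟩ : ∃ C ∈ irreducibleComponents (S.left : Type u), z ∈ C :=
      ⟨_, irreducibleComponent_mem_irreducibleComponents z, mem_irreducibleComponent⟩
    have hex : ∃ b : SGA7.Pts kb G, cpt b ∈ s.left '' C := ⟨a, z, hzC, hz⟩
    refine ⟨pick ⟨C, hC⟩, ⟨⟨C, hC⟩, rfl⟩, hsame C hC _ a ?_ ⟨z, hzC, hz⟩⟩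
    simp only [pick, dif_pos hex]
    exact hex.choose_spec
  have hclosW : IsClosed W := isClosed_subSet (incl ≫ s)
  haveI : IrreducibleSpace A.left := hirr
  have hirrW : IsIrreducible W := isIrreducible_subSet (incl ≫ s)
  have hWone := one_mem_subSet (incl ≫ s)
  have hWmul := mul_mem_subSet (incl ≫ s)
  have hWinv := inv_mem_subSet (incl ≫ s)
  have hkey : ∀ (θ : (bX kb G).left ⟶ (bX kb G).left) (α : SGA7.Pts kb G → SGA7.Pts kb G),
      (∀ a, θ (cpt a) = cpt (α a)) → α 1 = 1 → (∀ a ∈ ptsIn W, lift (α a) x ≫ aX.act = x) →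
      ∀ a ∈ ptsIn W, α a ∈ ptsIn W := by
    intro θ α hθ hα1 hαst a ha
    have hRfin : R.Finite := Set.finite_range _
    let P : Finset (Set (bX kb G).left) :=
      hRfin.toFinset.image fun r => θ ⁻¹' ((lT r⁻¹).left ⁻¹' W)
    have hPc : ∀ Z ∈ P, IsClosed Z := fun Z hZ => by
      obtain ⟨r, -, rfl⟩ := Finset.mem_image.1 hZ
      exact (hclosW.preimage (lT r⁻¹).left.continuous).preimage θ.continuous
    have hWP : W ⊆ ⋃₀ (P : Set (Set (bX kb G).left)) := by
      have hcl : IsClosed (⋃₀ (P : Set (Set (bX kb G).left))) := by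
        rw [Set.sUnion_eq_biUnion]
        exact P.finite_toSet.isClosed_biUnion fun Z hZ => hPc Z hZ
      rw [← hclosW.closure_eq, ← JacobsonSpace.closure_inter_closedPoints_eq_closure hclosW.isLocallyClosed]
      refine closure_minimal ?_ hcl
      rintro w ⟨hw, hwc⟩
      obtain ⟨b, rfl⟩ := exists_cpt hwc
      obtain ⟨r, hr, hrb⟩ := hR _ (hαst b hw)
      refine ⟨_, Finset.mem_image.2 ⟨r, hRfin.mem_toFinset.2 hr, rfl⟩, ?_⟩
      show (lT r⁻¹).left (θ (cpt b)) ∈ W
      rw [hθ, lT_apply]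
      exact hrb
    obtain ⟨Z, hZ, hWZ⟩ := isIrreducible_iff_sUnion_isClosed.1 hirrW P hPc hWP
    obtain ⟨r, -, rfl⟩ := Finset.mem_image.1 hZ
    have hpt : ∀ b ∈ ptsIn W, r⁻¹ * α b ∈ ptsIn W := fun b hb => by
      have h : (lT r⁻¹).left (θ (cpt b)) ∈ W := hWZ hb
      rwa [hθ, lT_apply] at h
    have h1 := hpt 1 hWone
    rw [hα1, _root_.mul_one] at h1
    have := hWmul _ (hWinv _ h1) _ (hpt a ha)
    rwa [inv_inv, mul_inv_cancel_left] at this
  refine ⟨W, hclosW, hirrW, hWone, hWmul, hWinv, exists_pow_of_subSet (incl ≫ s) (ringChar k) hA, ?_, hWst,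
    fun c hc => hkey (cj c).left (fun a => c * a * c⁻¹) (cj_apply c) (by simp)
      (fun a ha => hst_mul _ _ (hst_mul _ _ hc (hWst a ha)) (hst_inv c hc)),
    fun g hg => hkey ((G ◁ galS k k kb (frobK k k kb)⁻¹).left ≫ (cj g).left)
      (fun a => g * (fs k k kb ≫ a) * g⁻¹) (fun a => ?_)
      (by rw [MonObj.comp_one, _root_.mul_one, mul_inv_cancel]) (fun a ha => ?_),
    R, Set.finite_range _, hR⟩
  · -- dimension
    refine le_antisymm ?_ ?_
    · rw [← hd, topologicalKrullDim_subSet]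
      exact incl.left.isEmbedding.isInducing.topologicalKrullDim_le
    · rw [← hd]
      let Y : R → Set S.left := fun r => s.left ⁻¹' ((lT (r : SGA7.Pts kb G)⁻¹).left ⁻¹' W)
      have hYc : ∀ r, IsClosed (Y r) := fun r =>
        (hclosW.preimage (lT (r : SGA7.Pts kb G)⁻¹).left.continuous).preimage s.left.continuous
      haveI : JacobsonSpace S.left := LocallyOfFiniteType.jacobsonSpace S.hom
      haveI : Finite R := (Set.finite_range _).to_subtype
      have hcov : ⋃ r, Y r = Set.univ := by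
        refine Set.eq_univ_of_univ_subset ?_
        rw [← closure_closedPoints]
        refine closure_minimal ?_ (isClosed_iUnion_of_finite hYc)
        intro z hz
        have hz' : IsClosed ({s.left z} : Set (bX kb G).left) := by
          rw [← Set.image_singleton]
          exact s.left.isClosedEmbedding.isClosedMap _ hz
        obtain ⟨b, hb⟩ := exists_cpt hz'
        obtain ⟨r, hr, hrb⟩ := hR b ((hmem b).1 ⟨z, hb.symm⟩)
        refine Set.mem_iUnion.2 ⟨⟨r, hr⟩, ?_⟩
        show (lT r⁻¹).left (s.left z) ∈ W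
        rw [← hb, lT_apply]
        exact hrb
      rw [H23.TopDim.dim_eq_iSup_of_closed_cover hYc (locallyFinite_of_finite _) hcov]
      refine iSup_le fun r => ?_
      have hind : IsInducing fun z : Y r =>
          (⟨(lT (r : SGA7.Pts kb G)⁻¹).left (s.left z.1), z.2⟩ : W) :=
        (((lTHomeo (r : SGA7.Pts kb G)⁻¹).isInducing.comp s.left.isEmbedding.isInducing).comp
          IsInducing.subtypeVal).codRestrict (s := W) fun z => z.2
      exact hind.topologicalKrullDim_le
  · show (cj g).left ((G ◁ galS k k kb (frobK k k kb)⁻¹).left (cpt a)) = _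
    rw [fs_apply, cj_apply]
  · -- conjugates of the Frobenius preserve the stabiliser
    have h1 : lift (fs k k kb ≫ a) (fs k k kb ≫ x) ≫ aX.act = fs k k kb ≫ x := by
      rw [← comp_lift_assoc, hWst a ha]
    conv_lhs => rw [← hg, act_mul, inv_mul_cancel_right, ← act_mul, h1, hg]

end Groth.Agent.ZH85.StackCount
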