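import Groth.Agent.ZH85.StackCount.UnipCount
import Groth.Agent.ZH85.StackCount.TwistPts
import Groth.Agent.Obs28.Unip.Fixed
import Mathlib.Algebra.CharP.Algebra

/-! Closed subgroups over the closure, as stable closed sets, and their unipotent elements. -/

noncomputable section

set_option autoImplicit false
set_option backward.isDefEq.respectTransparency false
set_option backward.isDefEq.respectTransparency.types false

universe u

open CategoryTheory CategoryTheory.Limits MonoidalCategory CartesianMonoidalCategory MonObj AlgebraicGeometry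
open GalTw

namespace Groth.Agent.ZH85.StackCount

open Groth.Agent.Obs28 Groth.Agent.Obs28.Unip GrpSchLib.Kunneth

/-- In positive characteristic a connected group without subtori has elements of `p`-power order. -/
theorem exists_pow_char_eq_one {K : Type u} [Field K] [IsAlgClosed K] (p : ℕ) [Fact p.Prime] [CharP K p]
    {A : Over (Spec (CommRingCat.of K))} [GrpObj A] [IsAffine A.left] [Smooth A.hom] [ConnectedSpace A.left]
    (hA : Red.HasNoSubtorus K A) (g : Rat A) : ∃ N, g ^ p ^ N = 1 := by
  classical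
  haveI := finiteType_fn A
  haveI := isReduced_grp A
  obtain ⟨s, hs⟩ := (Algebra.FiniteType.out : (⊤ : Subalgebra K (Fn A)).FG)
  let W := orbitSpan (rPi (G := A)) (s : Set (Fn A))
  haveI : Module.Finite K W := finite_orbitSpan rPi_regular s.finite_toSet
  let πW := subPi (rPi (G := A)) W (orbitSpan_stable _ _)
  obtain ⟨M, hM⟩ := isNilpotent_rep_sub_one hA (subPi_regular _ _ (orbitSpan_stable _ _) rPi_regular :
    IsRegular πW) g
  refine ⟨M, pfn_injective (AlgHom.ext_of_adjoin_eq_top hs fun f hf => ?_)⟩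
  let x : W := ⟨f, subset_orbitSpan _ _ hf⟩
  rcases subsingleton_or_nontrivial (Module.End K W) with hW | hW
  · have hx : x = 0 := by
      have := LinearMap.congr_fun (Subsingleton.elim (1 : Module.End K W) 0) x
      simpa using this
    have hf0 : f = 0 := congrArg Subtype.val hx
    rw [hf0, map_zero, map_zero]
  haveI : CharP (Module.End K W) p := charP_of_injective_algebraMap (algebraMap K (Module.End K W)).injective p
  let T : Module.End K W := (πW g).toLinearMap
  have hT : T ^ p ^ M = 1 := by
    have h0 : (T - 1) ^ p ^ M = 0 :=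
      pow_eq_zero_of_le (Nat.lt_pow_self (Fact.out : p.Prime).one_lt).le hM
    rwa [sub_pow_char_pow_of_commute (R := Module.End K W) (p := p) M (Commute.one_right T), one_pow, sub_eq_zero] at h0
  have hTg : (πW (g ^ p ^ M)).toLinearMap = 1 := by
    rw [map_pow, ← hT]
    exact map_pow (LinearEquiv.automorphismGroup.toLinearMapMonoidHom : (W ≃ₗ[K] W) →* Module.End K W) _ _
  have h1 : rMap (g ^ p ^ M) f = f := congrArg Subtype.val (LinearMap.congr_fun hTg x)
  calc pfn (g ^ p ^ M) f = pfn (1 * g ^ p ^ M) f := by rw [_root_.one_mul]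
    _ = pfn 1 (rMap (g ^ p ^ M) f) := (pfn_rMap' _ _ _).symm
    _ = pfn 1 f := by rw [h1]

variable {k : Type u} [Field k] {kb : Type u} [Field kb] [Algebra k kb] [IsAlgClosed kb]
  {G : Over (Spec (CommRingCat.of k))} [GrpObj G] [LocallyOfFiniteType G.hom]
  {A : Over (Spec (CommRingCat.of kb))} (j : A ⟶ bcK kb G) [IsClosedImmersion j.left]

/-- The set of a closed subscheme of the base change. -/
def subSet : Set (bX kb G).left := Set.range j.left

omit [GrpObj G] [LocallyOfFiniteType G.hom] [IsAlgClosed kb] in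
theorem isClosed_subSet : IsClosed (subSet j) := j.left.isClosedEmbedding.isClosed_range

omit [GrpObj G] [LocallyOfFiniteType G.hom] [IsAlgClosed kb] [IsClosedImmersion j.left] in
theorem secOfPt_left_apply (a : SGA7.Pts kb G) :
    (secOfPt kb a).left (IsLocalRing.closedPoint kb) = cpt a := by
  have h : (secOfPt kb a).left = (lift a (𝟙 (SGA7.pt (K := k) kb))).left := by
    refine pullback.hom_ext ?_ ?_
    · rw [secOfPt_left, pullback.lift_fst]
      exact (congrArg CommaMorphism.left (lift_fst a (𝟙 (SGA7.pt (K := k) kb)))).symm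
    · rw [secOfPt_left, pullback.lift_snd]
      exact (congrArg CommaMorphism.left (lift_snd a (𝟙 (SGA7.pt (K := k) kb)))).symm
  rw [h]
  rfl

omit [GrpObj G] in
theorem mem_subSet (a : SGA7.Pts kb G) :
    a ∈ ptsIn (subSet j) ↔ ∃ w : 𝟙_ (Over (Spec (CommRingCat.of kb))) ⟶ A, w ≫ j = secOfPt kb a := by
  constructor
  · rintro ⟨z, hz⟩
    haveI : LocallyOfFiniteType A.hom := by
      haveI : LocallyOfFiniteType (bcK kb G).hom :=
        inferInstanceAs (LocallyOfFiniteType (pullback.snd G.hom (SGA7.pt (K := k) kb).hom))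
      rw [← Over.w j]; infer_instance
    have hzc : IsClosed ({z} : Set A.left) := by
      have h := (isClosed_cpt a).preimage j.left.continuous
      rwa [← hz, ← Set.image_singleton, j.left.isClosedEmbedding.injective.preimage_image] at h
    let w : 𝟙_ (Over (Spec (CommRingCat.of kb))) ⟶ A :=
      Over.homMk (pointOfClosedPoint A.hom z hzc) (pointOfClosedPoint_comp A.hom z hzc)
    refine ⟨w, ?_⟩
    rw [← secOfPt_toPt (w ≫ j)]
    congr 1
    apply cpt_injective
    rw [← secOfPt_left_apply, secOfPt_toPt, ← hz]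
    exact congrArg j.left (pointOfClosedPoint_apply A.hom z hzc _)
  · rintro ⟨w, hw⟩
    refine ⟨w.left (IsLocalRing.closedPoint kb), ?_⟩
    rw [← secOfPt_left_apply, ← hw]
    rfl

omit [GrpObj G] [LocallyOfFiniteType G.hom] [IsAlgClosed kb] in
theorem topologicalKrullDim_subSet : topologicalKrullDim ↥(subSet j) = topologicalKrullDim ↥A.left :=
  j.left.isEmbedding.toHomeomorph.isHomeomorph.topologicalKrullDim_eq.symm

omit [GrpObj G] [LocallyOfFiniteType G.hom] [IsAlgClosed kb] [IsClosedImmersion j.left] in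
theorem isIrreducible_subSet [IrreducibleSpace A.left] : IsIrreducible (subSet j) := by
  rw [show subSet j = j.left '' Set.univ from Set.image_univ.symm]
  exact (IrreducibleSpace.isIrreducible_univ _).image _ j.left.continuous.continuousOn

variable [GrpObj A] [IsMonHom j]

theorem one_mem_subSet : (1 : SGA7.Pts kb G) ∈ ptsIn (subSet j) :=
  (mem_subSet j 1).2 ⟨1, by
    rw [MonObj.one_comp]
    exact (map_one (MonoidHom.mk' (secOfPt kb) secOfPt_mul : SGA7.Pts kb G →* _)).symm⟩

theorem mul_mem_subSet : ∀ a ∈ ptsIn (subSet j), ∀ b ∈ ptsIn (subSet j), a * b ∈ ptsIn (subSet j) := by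
  intro a ha b hb
  obtain ⟨u, hu⟩ := (mem_subSet j a).1 ha
  obtain ⟨v, hv⟩ := (mem_subSet j b).1 hb
  exact (mem_subSet j _).2 ⟨u * v, by rw [MonObj.mul_comp, hu, hv, secOfPt_mul]⟩

theorem inv_mem_subSet : ∀ a ∈ ptsIn (subSet j), a⁻¹ ∈ ptsIn (subSet j) := by
  intro a ha
  obtain ⟨u, hu⟩ := (mem_subSet j a).1 ha
  exact (mem_subSet j _).2 ⟨u⁻¹, by rw [GrpObj.inv_comp, hu, secOfPt_inv]⟩

/-- Elements of a connected smooth closed subgroup without subtori have `p`-power order. -/
theorem exists_pow_of_subSet [IsAffineHom G.hom] [Smooth A.hom] [ConnectedSpace A.left] (p : ℕ) [Fact p.Prime]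
    [CharP kb p] (hA : Red.HasNoSubtorus kb A) :
    ∀ a ∈ ptsIn (subSet j), ∃ N, a ^ p ^ N = 1 := by
  intro a ha
  obtain ⟨u, hu⟩ := (mem_subSet j a).1 ha
  haveI : IsAffineHom (bcK kb G).hom :=
    MorphismProperty.pullback_snd _ _ ‹IsAffineHom G.hom›
  haveI : IsAffineHom A.hom := by rw [← Over.w j]; infer_instance
  haveI : IsAffine A.left := isAffine_of_isAffineHom A.hom
  obtain ⟨N, hN⟩ := exists_pow_char_eq_one p hA (unitPt ≫ u)
  refine ⟨N, (secEquiv G).injective ?_⟩
  show secOfPt kb (a ^ p ^ N) = secOfPt kb 1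
  rw [show secOfPt kb (a ^ p ^ N) = secOfPt kb a ^ p ^ N from
      map_pow (MonoidHom.mk' (secOfPt kb) secOfPt_mul : SGA7.Pts kb G →* _) a _,
    show secOfPt kb (1 : SGA7.Pts kb G) = 1 from
      map_one (MonoidHom.mk' (secOfPt kb) secOfPt_mul : SGA7.Pts kb G →* _), ← hu]
  haveI : IsIso (unitPt (k := kb)) := by
    haveI : IsIso (unitPt (k := kb)).left := inferInstanceAs (IsIso (𝟙 (Spec (CommRingCat.of kb))))
    haveI : IsIso ((Over.forget (Spec (CommRingCat.of kb))).map (unitPt (k := kb))) := ‹IsIso (unitPt (k := kb)).left›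
    exact isIso_of_reflects_iso (unitPt (k := kb)) (Over.forget _)
  have hu1 : u ^ p ^ N = 1 := by
    rw [← cancel_epi (unitPt (k := kb)), MonObj.comp_pow, hN, MonObj.comp_one]
  rw [← MonObj.pow_comp, hu1, MonObj.one_comp]

end Groth.Agent.ZH85.StackCount
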