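import Groth.Agent.ZH85.StackCount.FormPts
import Groth.Agent.ZH85.LangWeil.Components
import Groth.Agent.FibDim.BaseField
import Groth.Agent.H23.RedSub
import Mathlib.GroupTheory.Perm.Cycle.Type
import Mathlib.GroupTheory.PGroup
import Mathlib.Data.Nat.Prime.Infinite
import Mathlib.FieldTheory.Finite.Basic

/-! A unipotent connected group has exactly `q ^ d` twisted rational points. -/

noncomputable section

set_option autoImplicit false
set_option backward.isDefEq.respectTransparency false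
set_option backward.isDefEq.respectTransparency.types false

universe u

open CategoryTheory CategoryTheory.Limits MonoidalCategory CartesianMonoidalCategory MonObj AlgebraicGeometry
open Topology

namespace Groth.Agent.ZH85.StackCount

open Groth.Agent.EssDimLib (spMap spMap_comp' fqs fqs_spMap)

/-- A continuous image of an irreducible space is irreducible. -/
theorem irreducibleSpace_of_surjective {A B : Type*} [TopologicalSpace A] [TopologicalSpace B] [IrreducibleSpace A]
    (f : A → B) (hf : Continuous f) (hs : Function.Surjective f) : IrreducibleSpace B := by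
  refine @IrreducibleSpace.mk _ _ ⟨?_⟩ ⟨f (Classical.arbitrary _)⟩
  rw [← Set.image_univ_of_surjective hs]
  exact ((IrreducibleSpace.isIrreducible_univ _).image _ hf.continuousOn).isPreirreducible

/-- A power of `p` close to `Q` is `Q`. -/
theorem eq_of_pow_near {p : ℕ} (hp : 1 < p) (a b : ℕ)
    (h : |((p : ℝ) ^ a) - (p : ℝ) ^ b| < (p : ℝ) ^ b / 2) : a = b := by
  have hp0 : (0 : ℝ) < p := by exact_mod_cast Nat.lt_of_lt_of_le Nat.zero_lt_one hp.le
  have hp2 : (2 : ℝ) ≤ p := by exact_mod_cast hp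
  rw [abs_lt] at h
  have hb : (0 : ℝ) < (p : ℝ) ^ b := pow_pos hp0 b
  rcases lt_trichotomy a b with hlt | heq | hgt
  · have h1 : (p : ℝ) ^ (a + 1) ≤ (p : ℝ) ^ b := pow_le_pow_right₀ (by linarith) hlt
    rw [pow_succ] at h1
    have ha : (0 : ℝ) < (p : ℝ) ^ a := pow_pos hp0 a
    nlinarith
  · exact heq
  · have h1 : (p : ℝ) ^ (b + 1) ≤ (p : ℝ) ^ a := pow_le_pow_right₀ (by linarith) hgt
    rw [pow_succ] at h1
    nlinarith

variable {k : Type u} [Field k] [Finite k] {kb : Type u} [Field kb] [Algebra k kb] [IsAlgClosure k kb]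
  {G : Over (Spec (CommRingCat.of k))} [GrpObj G] [IsAffineHom G.hom] [LocallyOfFiniteType G.hom]

omit [IsAffineHom G.hom] [LocallyOfFiniteType G.hom] in
theorem twFrob_mul (g a b : SGA7.pt (K := k) kb ⟶ G) : twFrob g (a * b) = twFrob g a * twFrob g b := by
  rw [twFrob, twFrob, twFrob, MonObj.comp_mul]
  group

variable (kb) in
/-- Points of a subgroup fixed by an iterate of the twisted Frobenius. -/
def iterFixed (g : SGA7.pt (K := k) kb ⟶ G) (W : Set (bX kb G).left) (j : ℕ) :
    Set (SGA7.pt (K := k) kb ⟶ G) := {a | a ∈ ptsIn W ∧ (twFrob g)^[j] a = a}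

/-- The fixed points of a closed set in a form are rational points of a scheme of the same dimension. -/
theorem exists_scheme_fixed {W : Set (bX kb G).left} (hW : IsClosed W) (hirr : IsIrreducible W)
    (g : SGA7.pt (K := k) kb ⟶ G) (hst : ∀ a ∈ ptsIn W, twFrob g a ∈ ptsIn W)
    (d : ℕ) (hd : topologicalKrullDim ↥W = (d : WithBot ℕ∞)) :
    ∃ c : ℕ, ∀ j : ℕ, 0 < j → (iterFixed kb g W j).Finite ∧
      |((iterFixed kb g W j).ncard : ℝ) - ((Nat.card k : ℝ) ^ j) ^ d| ≤
        c * (((Nat.card k : ℝ) ^ j) ^ d / Real.sqrt ((Nat.card k : ℝ) ^ j)) := by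
  classical
  haveI : IsAlgClosed kb := IsAlgClosure.isAlgClosed k
  let P := SGA7.pt (K := k) kb
  obtain ⟨Y, hY1, hY2, E, hE, hfs⟩ := exists_twistedForm (kb := kb) g
  let p : (bX kb G).left ⟶ Spec (CommRingCat.of kb) := (snd G P).left
  let Zc : TopologicalSpace.Closeds Y.left := ⟨E.left '' W, isClosedMap_form hE _ hW⟩
  let Z : Scheme.{u} := (Scheme.IdealSheafData.vanishingIdeal Zc).subscheme
  let ιZ : Z ⟶ Y.left := (Scheme.IdealSheafData.vanishingIdeal Zc).subschemeι
  have hι : Set.range ιZ = E.left '' W := H23.RedSub.range_vanishingIdeal Zc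
  let f₀ : Z ⟶ Spec (CommRingCat.of k) := ιZ ≫ Y.hom
  haveI : CompactSpace Y.left := QuasiCompact.compactSpace_of_compactSpace Y.hom
  haveI : QuasiCompact f₀ := inferInstanceAs (QuasiCompact (ιZ ≫ Y.hom))
  haveI : LocallyOfFiniteType f₀ := inferInstanceAs (LocallyOfFiniteType (ιZ ≫ Y.hom))
  -- the base change
  let Zb : Scheme.{u} := pullback ιZ E.left
  let j₂ : Zb ⟶ (bX kb G).left := pullback.snd ιZ E.left
  have hj₂ : Set.range j₂ = W := by
    rw [Scheme.Pullback.range_snd, hι]
    exact preimage_image_form hE hfs hW hst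
  have hsq : IsPullback (pullback.fst ιZ E.left) (j₂ ≫ p) f₀ P.hom :=
    (IsPullback.of_hasPullback ιZ E.left).flip.paste_horiz hE.flip |>.flip
  haveI : LocallyOfFiniteType (j₂ ≫ p) := inferInstance
  let eW : ↥Zb ≃ₜ ↥W := j₂.isEmbedding.toHomeomorph.trans (Homeomorph.setCongr hj₂)
  haveI : IrreducibleSpace ↥W := by
    haveI : PreirreducibleSpace ↥W := Subtype.preirreducibleSpace hirr.isPreirreducible
    exact ⟨hirr.nonempty.to_subtype⟩
  haveI hZb : IrreducibleSpace ↥Zb := irreducibleSpace_of_surjective _ eW.symm.continuous eW.symm.surjective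
  haveI : Subsingleton ↥(Spec (CommRingCat.of k)) := FibDim.subsingleton_spec_field k
  haveI : Subsingleton ↥(Spec (CommRingCat.of kb)) := FibDim.subsingleton_spec_field kb
  haveI : Surjective (pullback.fst ιZ E.left) := by
    haveI : Surjective P.hom := ⟨fun x => ⟨IsLocalRing.closedPoint kb, Subsingleton.elim _ _⟩⟩
    exact MorphismProperty.of_isPullback hsq.flip ‹_›
  haveI : IrreducibleSpace ↥Z :=
    irreducibleSpace_of_surjective _ (pullback.fst ιZ E.left).continuous (pullback.fst ιZ E.left).surjective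
  have hdimZ : topologicalKrullDim ↥Z = (d : WithBot ℕ∞) := by
    rw [← FibDim.topologicalKrullDim_baseChange hsq, eW.isHomeomorph.topologicalKrullDim_eq, hd]
  -- geometric irreducibility
  let e : kb ≃ₐ[k] AlgebraicClosure k := IsAlgClosure.equiv k kb (AlgebraicClosure k)
  let se : Spec (CommRingCat.of (AlgebraicClosure k)) ⟶ Spec (CommRingCat.of kb) :=
    Spec.map (CommRingCat.ofHom e.toRingEquiv.toRingHom)
  haveI : IsIso (CommRingCat.ofHom e.toRingEquiv.toRingHom) := e.toRingEquiv.toCommRingCatIso.isIso_hom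
  haveI : IsIso se := inferInstanceAs (IsIso (Spec.map _))
  have hse : se ≫ P.hom = Spec.map (CommRingCat.ofHom (algebraMap k (AlgebraicClosure k))) := by
    show Spec.map _ ≫ Spec.map _ = _
    rw [← Spec.map_comp]
    exact congrArg Spec.map (CommRingCat.hom_ext (RingHom.ext fun c => e.commutes c))
  let ρ₀ := Spec.map (CommRingCat.ofHom (algebraMap k (AlgebraicClosure k)))
  let m : pullback f₀ ρ₀ ⟶ pullback f₀ P.hom :=
    pullback.map f₀ ρ₀ f₀ P.hom (𝟙 Z) se (𝟙 _) (by simp) (by rw [hse, Category.comp_id])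
  haveI : IrreducibleSpace ↥(pullback f₀ ρ₀) := by
    let em : ↥Zb ≃ₜ ↥(pullback f₀ ρ₀) :=
      (Scheme.homeoOfIso hsq.isoPullback).trans (Scheme.homeoOfIso (asIso m)).symm
    exact irreducibleSpace_of_surjective _ em.continuous em.surjective
  obtain ⟨T, hT, -, c, hc⟩ := LangWeil.scheme_card f₀ d hdimZ
  have hTu : T = {(Set.univ : Set Z)} := by
    ext S
    rw [hT, Finset.mem_singleton, irreducibleComponents_eq_singleton, Set.mem_singleton_iff]
    refine ⟨And.left, fun h => ⟨h, ?_⟩⟩
    rw [h, (Homeomorph.Set.univ _).isHomeomorph.topologicalKrullDim_eq, hdimZ]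
  have hnum : LangWeil.numGeom f₀ (Set.univ : Set Z) = 1 := by
    haveI : IrreducibleSpace ↥((pullback.fst f₀ ρ₀).base ⁻¹' (Set.univ : Set Z)) :=
      irreducibleSpace_of_surjective _ (Homeomorph.Set.univ _).symm.continuous (Homeomorph.Set.univ _).symm.surjective
    rw [LangWeil.numGeom, irreducibleComponents_eq_singleton]
    simp
  refine ⟨c, fun j hj => ?_⟩
  obtain ⟨F, _, hFj, hF⟩ := exists_fixedLevel (k := k) (k' := k) (kb := kb) j hj
  haveI : Finite F := Module.finite_of_finite k
  haveI : IsAlgClosure F kb := ⟨IsAlgClosure.isAlgClosed k,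
    haveI := isAlgebraic_kb (k' := k) (kb := kb); Algebra.IsAlgebraic.tower_top (K := k) F⟩
  have hfF : fs k F kb = galS k k kb (frobK k k kb ^ j) := by
    refine congrArg spMap (AlgHom.ext fun c => ?_)
    show frobK k F kb c = (frobK k k kb ^ j) c
    rw [frobK_apply, frobK_pow_apply, Module.natCard_eq_pow_finrank (K := k) (V := F), hFj]
  let φ : LangWeil.Pts f₀ F → {a // a ∈ iterFixed kb g W j} := fun v =>
    let y₀ : SGA7.pt (K := k) F ⟶ Y := Over.homMk (v.1 ≫ ιZ) (by rw [Category.assoc]; exact v.2)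
    ⟨(Equiv.ofBijective _ (form_bijective hE)).symm (lstr k F kb ≫ y₀), by
      set a := (Equiv.ofBijective _ (form_bijective hE)).symm (lstr k F kb ≫ y₀)
      have ha : lift a (𝟙 P) ≫ E = lstr k F kb ≫ y₀ := Equiv.ofBijective_apply_symm_apply _ (form_bijective hE) _
      refine ⟨(mem_ptsIn_iff_form hE hfs hW hst a).2 ?_, (form_bijective hE).1 ?_⟩
      · rw [ha, ← hι]
        exact ⟨_, rfl⟩
      · show lift _ _ ≫ E = lift _ _ ≫ E
        rw [← form_iterate hfs, fs_pow_comp, ha, ← hfF, ← Category.assoc, galS_str]⟩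
  have hφ : Function.Bijective φ := by
    constructor
    · intro v w h
      have h1 := congrArg (fun z : {a // a ∈ iterFixed kb g W j} => lift z.1 (𝟙 P) ≫ E) h
      simp only [φ] at h1
      have h3 := (Equiv.ofBijective _ (form_bijective hE)).symm.injective ((form_bijective hE).1 h1)
      haveI := EssDimLib.epi_of_fqs (fqs_lstr k F kb)
      have h2 := congrArg CommaMorphism.left ((cancel_epi (lstr k F kb)).1 h3)
      exact Subtype.ext ((cancel_mono ιZ).1 h2)
    · rintro ⟨a, haW, haj⟩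
      have hy : fs k F kb ≫ lift a (𝟙 P) ≫ E = lift a (𝟙 P) ≫ E := by
        rw [hfF, ← fs_pow_comp, form_iterate hfs, haj]
      obtain ⟨y₀, hy₀⟩ := exists_desc_frob k F kb _ hy
      have hrange : Set.range y₀.left ⊆ Set.range ιZ := by
        rintro _ ⟨x, rfl⟩
        rw [hι, Subsingleton.elim (α := PrimeSpectrum F) x ((lstr k F kb).left (IsLocalRing.closedPoint kb))]
        have := (mem_ptsIn_iff_form hE hfs hW hst a).1 haW
        rwa [← hy₀] at this
      haveI : IsReduced (SGA7.pt (K := k) F).left := inferInstanceAs (IsReduced (Spec (CommRingCat.of F)))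
      obtain ⟨v, hv⟩ := H23.RedSub.exists_lift_closed y₀.left ιZ hrange
      refine ⟨⟨v, by rw [← Category.assoc, hv]; exact Over.w y₀⟩, Subtype.ext ?_⟩
      rw [Equiv.symm_apply_eq]
      show lstr k F kb ≫ _ = lift a (𝟙 P) ≫ E
      rw [← hy₀]
      congr 1
      exact Over.OverMorphism.ext hv
  haveI := LangWeil.finite_pts f₀ F
  haveI : Finite {a // a ∈ iterFixed kb g W j} := Finite.of_surjective φ hφ.2
  refine ⟨Set.toFinite _, ?_⟩
  have h := (hc F).1
  rw [hTu, Finset.filter_singleton, if_pos (by rw [hnum]; exact one_dvd _), Finset.sum_singleton, hnum,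
    Nat.card_eq_of_bijective φ hφ, Nat.card_coe_set_eq, Module.natCard_eq_pow_finrank (K := k) (V := F), hFj] at h
  simpa using h

/-- A unipotent connected subgroup stable under a twisted Frobenius has `q ^ d` fixed points. -/
theorem card_twFixed_unipotent {W : Set (bX kb G).left} (hW : IsClosed W) (hirr : IsIrreducible W)
    (hone : (1 : SGA7.pt (K := k) kb ⟶ G) ∈ ptsIn W)
    (hmul : ∀ a ∈ ptsIn W, ∀ b ∈ ptsIn W, a * b ∈ ptsIn W) (hinv : ∀ a ∈ ptsIn W, a⁻¹ ∈ ptsIn W)
    (g : SGA7.pt (K := k) kb ⟶ G) (hst : ∀ a ∈ ptsIn W, g * (fs k k kb ≫ a) * g⁻¹ ∈ ptsIn W)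
    (hp : ∀ a ∈ ptsIn W, ∃ N, a ^ ringChar k ^ N = 1)
    (d : ℕ) (hd : topologicalKrullDim ↥W = (d : WithBot ℕ∞)) :
    Nat.card {a : SGA7.pt (K := k) kb ⟶ G // a ∈ ptsIn W ∧ g * (fs k k kb ≫ a) * g⁻¹ = a} = Nat.card k ^ d := by
  classical
  obtain ⟨c, hc⟩ := exists_scheme_fixed hW hirr g hst d hd
  letI := Fintype.ofFinite k
  set q := Nat.card k
  have hq : 1 < q := Finite.one_lt_card
  set p := ringChar k
  haveI : Fact p.Prime := ⟨CharP.char_is_prime k p⟩
  obtain ⟨e, -, hqe⟩ := FiniteField.card k p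
  rw [← Nat.card_eq_fintype_card] at hqe
  -- the counts are powers of `p`
  have hpow : ∀ j, 0 < j → ∃ b, (iterFixed kb g W j).ncard = p ^ b := by
    intro j hj
    let H : Subgroup (SGA7.pt (K := k) kb ⟶ G) :=
      { carrier := iterFixed kb g W j
        one_mem' := ⟨hone, by
          refine Function.iterate_fixed ?_ j
          rw [twFrob, MonObj.comp_one, _root_.mul_one, mul_inv_cancel]⟩
        mul_mem' := fun {a b} ha hb => ⟨hmul a ha.1 b hb.1, by
          exact (iterate_map_mul (MonoidHom.mk' (twFrob g) (twFrob_mul g)) j a b).trans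
            (congrArg₂ (· * ·) ha.2 hb.2)⟩
        inv_mem' := fun {a} ha => ⟨hinv a ha.1,
          (iterate_map_inv (MonoidHom.mk' (twFrob g) (twFrob_mul g)) j a).trans (congrArg (·⁻¹) ha.2)⟩ }
    haveI : Finite H := (hc j hj).1.to_subtype
    obtain ⟨b, hb⟩ := IsPGroup.iff_card.1 (show IsPGroup p H from fun a => by
      obtain ⟨N, hN⟩ := hp a.1 a.2.1
      exact ⟨N, Subtype.ext hN⟩)
    exact ⟨b, by rw [← Nat.card_coe_set_eq]; exact hb⟩
  -- large levels are exact
  obtain ⟨j₀, hj₀⟩ : ∃ j₀, ∀ j, j₀ ≤ j → (iterFixed kb g W j).ncard = q ^ (j * d) := by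
    refine ⟨4 * c * c + 1, fun j hj => ?_⟩
    obtain ⟨hfin, hb⟩ := hc j (by omega)
    obtain ⟨b, hbp⟩ := hpow j (by omega)
    have hQ : (4 * c * c : ℕ) < q ^ j := by
      calc 4 * c * c < j := by omega
        _ < 2 ^ j := Nat.lt_two_pow_self
        _ ≤ q ^ j := Nat.pow_le_pow_left hq j
    have hQr : (4 * c * c : ℝ) < (q : ℝ) ^ j := by exact_mod_cast hQ
    have hs : 0 < Real.sqrt ((q : ℝ) ^ j) := Real.sqrt_pos.2 (lt_of_le_of_lt (by positivity) hQr)
    have hs2 : 2 * (c : ℝ) < Real.sqrt ((q : ℝ) ^ j) := by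
      rw [Real.lt_sqrt (by positivity)]
      linarith
    have hQd : (0 : ℝ) < ((q : ℝ) ^ j) ^ d := by positivity
    have hlt : (c : ℝ) * (((q : ℝ) ^ j) ^ d / Real.sqrt ((q : ℝ) ^ j)) < ((q : ℝ) ^ j) ^ d / 2 := by
      rw [← mul_div_assoc, div_lt_div_iff₀ hs two_pos]
      nlinarith
    have he : b = e * (j * d) := by
      refine eq_of_pow_near (Fact.out : p.Prime).one_lt b _ ?_
      rw [pow_mul (p : ℝ), ← Nat.cast_pow p (e : ℕ), ← hqe, pow_mul (q : ℝ), ← Nat.cast_pow p b, ← hbp]
      exact lt_of_le_of_lt hb hlt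
    rw [hbp, he, pow_mul, ← hqe]
  -- congruences
  have hmain : ∀ l, l.Prime → j₀ ≤ l → (iterFixed kb g W 1).ncard ≡ q ^ d [MOD l] := by
    intro l hl hlj
    haveI : Fact l.Prime := ⟨hl⟩
    let α := {a // a ∈ iterFixed kb g W l}
    haveI : Finite α := (hc l hl.pos).1.to_subtype
    letI := Fintype.ofFinite α
    let f : Function.End α := fun a => ⟨twFrob g a.1, hst _ a.2.1, by
      rw [← Function.iterate_succ_apply, Function.iterate_succ_apply', a.2.2]⟩
    have hf : f ^ l ^ 1 = 1 := by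
      rw [pow_one]
      funext a
      refine Subtype.ext ?_
      have : ∀ i, ((f ^ i) a).1 = (twFrob g)^[i] a.1 := fun i => by
        induction i with
        | zero => rfl
        | succ i ih => rw [pow_succ', Function.iterate_succ_apply', ← ih]; rfl
      rw [this]
      exact a.2.2
    have h1 := Equiv.Perm.card_fixedPoints_modEq hf
    let eF : Function.fixedPoints f ≃ {a // a ∈ iterFixed kb g W 1} :=
      { toFun := fun a => ⟨a.1.1, a.1.2.1, congrArg Subtype.val a.2⟩
        invFun := fun a => ⟨⟨a.1, a.2.1, Function.iterate_fixed a.2.2 l⟩, Subtype.ext a.2.2⟩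
        left_inv := fun a => rfl
        right_inv := fun a => rfl }
    rw [← Nat.card_eq_fintype_card, ← Nat.card_eq_fintype_card, Nat.card_congr eF, Nat.card_coe_set_eq,
      hj₀ l hlj, mul_comm, pow_mul] at h1
    refine h1.symm.trans ?_
    rw [← ZMod.natCast_eq_natCast_iff, Nat.cast_pow, ZMod.pow_card]
  obtain ⟨l, hl, hlp⟩ := Nat.exists_infinite_primes (max j₀ ((iterFixed kb g W 1).ncard + q ^ d + 1))
  have hfinal := (hmain l hlp (le_of_max_le_left hl)).eq_of_lt_of_lt
    (by have := le_of_max_le_right hl; omega) (by have := le_of_max_le_right hl; omega)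
  rw [← hfinal]
  exact Nat.card_coe_set_eq _

end Groth.Agent.ZH85.StackCount
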